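import Cfsg.Agent.Omega.NO3S.OneLine.Step
import Cfsg.Agent.Omega.NO3S.OneLine.Sym
import Cfsg.Agent.Omega.SQ1.FFKNat
import Cfsg.Agent.Omega.NatPair.Bridge
import Cfsg.Agent.Omega.NO3S.Basic

/-!
# LEMMA OL: natural modules give `Blk`

`n1_of` : `V_H / V₀` a natural `SL₂(F)`-module for the minimal parabolic `H`, the preimage of a line is contained
in `Z = Ω₁(Z(S))` and `S` induces the full root group: `Blk S H`, `|Z| = |V₀| q`, `|V_H| = |Z| q`, `C_Z(H) ≤ V₀`.
-/

set_option autoImplicit false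
set_option linter.unusedSectionVars false
set_option linter.unusedVariables false

namespace Cfsg.Agent.Omega.NO3S.OneLine

open Subgroup Cfsg Cfsg.Agent.ZN Cfsg.Agent.ZN.ChoiceBase Cfsg.Agent.Omega.MinPar
open Cfsg.Agent.ZN.ChoiceSit (Syl o2_le_syl)
open Cfsg.Agent.Omega.SQ1.Bau (mem_AA_of_comm zj_le_AA elem_comm elem_sq)
open Cfsg.Agent.PLocal.ElemAbSup Cfsg.Agent.PLocal.ThompsonJ
open Cfsg.Agent.MinSimple.VModule (zc_le zc_le_zl zl_le le_o2 le_normalizer_zl le_normalizer_o2)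
open Cfsg.Agent.Omega.SQ1.FFOne Cfsg.Agent.Lib.SL2Mat
open Cfsg.Agent.Omega.NatPair (ap ap_zero' ap_one' ap_one ap_mul ext2 NatMod ap_inv_ap ap_ap_inv exists_ap_e ap_up_e)

universe u

/-- `|K| = |L| q` for a homomorphism of `K` onto `F` with kernel `L`. -/
theorem card_of_map {G : Type*} [Group G] {F : Type*} [Field F] {K L : Subgroup G} (hLK : L ≤ K) (f : G → F)
    (hf : ∀ v ∈ K, ∀ w ∈ K, f (v * w) = f v + f w) (hs : ∀ c, ∃ v ∈ K, f v = c)
    (hk : ∀ v ∈ K, f v = 0 ↔ v ∈ L) : Nat.card K = Nat.card L * Nat.card F := by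
  let φ : K →* Multiplicative F := MonoidHom.mk' (fun v => Multiplicative.ofAdd (f v)) (by
    rintro ⟨v, hv⟩ ⟨w, hw⟩
    exact congrArg Multiplicative.ofAdd (hf v hv w hw))
  have hφ : Function.Surjective φ := by
    intro c
    obtain ⟨v, hv, h⟩ := hs (Multiplicative.toAdd c)
    exact ⟨⟨v, hv⟩, congrArg Multiplicative.ofAdd h⟩
  have h1 : Nat.card φ.ker * Nat.card φ.range = Nat.card K := by
    rw [← Subgroup.index_ker, Subgroup.card_mul_index]
  have h2 : Nat.card φ.range = Nat.card F := by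
    rw [MonoidHom.range_eq_top.2 hφ, Subgroup.card_top]
    rfl
  have h3 : Nat.card φ.ker = Nat.card L := by
    refine Nat.card_congr ⟨fun v => ⟨v.1.1, (hk v.1.1 v.1.2).1 ?_⟩, fun z => ⟨⟨z.1, hLK z.2⟩, ?_⟩, fun _ => rfl,
      fun _ => rfl⟩
    · exact congrArg Multiplicative.toAdd (MonoidHom.mem_ker.1 v.2)
    · exact MonoidHom.mem_ker.2 (congrArg Multiplicative.ofAdd ((hk z.1 (hLK z.2)).2 z.2))
  rw [← h1, h2, h3]

/-- The output of a natural module. -/
structure N1 {G : Type u} [Group G] (S H V0 : Subgroup G) (q : ℕ) : Prop where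
  blk : Blk S H
  cz : Nat.card (zc S) = Nat.card V0 * q
  cv : Nat.card (zl S H) = Nat.card (zc S) * q
  cen : zc S ⊓ centralizer (H : Set G) ≤ V0
  opp : V0 = ⊥ → ∃ x ∈ H, zc S ⊓ cj x (zc S) = ⊥

variable {G : Type u} [Group G] [Finite G] {S : Sylow 2 G} {H V0 : Subgroup G} {F : Type} [Field F] [Finite F]
  [CharP F 2]

theorem n1_of (hH : IsParS (S : Subgroup G) H) (hm : MinH H (S : Subgroup G))
    (M : NatSec F H (zl (S : Subgroup G) H) V0)
    (hZ : ∀ v ∈ zl (S : Subgroup G) H, M.π v 1 = 0 → v ∈ zc (S : Subgroup G))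
    (hu : ∀ b : F, ∃ s ∈ (S : Subgroup G), M.Ind s (up b)) : N1 (S : Subgroup G) H V0 (Nat.card F) := by
  have hSH : (S : Subgroup G) ≤ H := hm.syl.1
  have hZV : zc (S : Subgroup G) ≤ zl (S : Subgroup G) H := zc_le_zl _ _
  have hZ' : ∀ v ∈ zl (S : Subgroup G) H, v ∈ zc (S : Subgroup G) ↔ M.π v 1 = 0 := by
    intro v hv
    refine ⟨fun h1 => ?_, hZ v hv⟩
    obtain ⟨s, hs, hs1⟩ := hu 1
    have h2 := hs1 v hv
    have h3 : s * v * s⁻¹ = v := by rw [(mem_zc.1 h1).2.2 s hs]; group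
    rw [h3] at h2
    have h4 := congrFun h2 0
    rw [ap_zero', up_00, up_01, one_mul, one_mul] at h4
    exact left_eq_add.1 h4
  have hup : ∀ s ∈ (S : Subgroup G), ∃ b : F, M.Ind s (up b) := by
    intro s hs
    obtain ⟨n, hn⟩ := S.isPGroup' ⟨s, hs⟩
    have hn' : s ^ 2 ^ n = 1 := by
      have h0 := congrArg (fun t : S => (t : G)) hn
      simpa using h0
    refine M.up_of_line (hSH hs) hn' fun v hv h1 => ?_
    have h2 := hZ v hv h1
    have h3 : s * v * s⁻¹ = v := by rw [(mem_zc.1 h2).2.2 s hs]; group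
    rw [h3]
  have hVQ : zl (S : Subgroup G) H ≤ o2 H := SQ1.VOf.MinH.zl_le_o2 hm
  have hVe : ∀ v ∈ zl (S : Subgroup G) H, v * v = 1 := fun v hv => by
    rw [← pow_two]; exact SQ1.VOf.MinH.sq hm v hv
  have h0Q : ∀ s ∈ (S : Subgroup G), M.Ind s (up 0) → s ∈ o2 H := by
    intro s hs h1
    rw [up_zero] at h1
    exact M.inf_kern_le hm ⟨hs, (M.ind_one_iff (hSH hs)).1 h1⟩
  have hupinj : ∀ s ∈ (S : Subgroup G), ∀ b c : F, M.Ind s (up b) → M.Ind s (up c) → b = c := by
    intro s hs b c hb hc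
    have h1 := M.ind_unique (hSH hs) hb hc
    have h2 : ent (up b) 0 1 = ent (up c) 0 1 := by rw [h1]
    rwa [up_01, up_01] at h2
  have hQS : o2 H ≤ (S : Subgroup G) := o2_le_syl hm.syl
  classical
  let f : G → F := fun s => if h : s ∈ (S : Subgroup G) then (hup s h).choose else 0
  have hf : ∀ s ∈ (S : Subgroup G), M.Ind s (up (f s)) := by
    intro s hs
    have : f s = (hup s hs).choose := dif_pos hs
    rw [this]
    exact (hup s hs).choose_spec
  have hcS : Nat.card (S : Subgroup G) = Nat.card (o2 H) * Nat.card F := by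
    refine card_of_map hQS f ?_ ?_ ?_
    · intro v hv w hw
      refine hupinj _ (mul_mem hv hw) _ _ (hf _ (mul_mem hv hw)) ?_
      have := M.ind_mul (hSH hv) (hSH hw) (hf v hv) (hf w hw)
      rwa [up_mul] at this
    · intro c
      obtain ⟨s, hs, h1⟩ := hu c
      exact ⟨s, hs, hupinj s hs _ _ (hf s hs) h1⟩
    · intro s hs
      constructor
      · intro h1
        have := hf s hs
        rw [h1] at this
        exact h0Q s hs this
      · intro h1
        refine hupinj s hs _ _ (hf s hs) ?_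
        rw [up_zero]
        intro v hv
        have h2 : s * v * s⁻¹ = v := by rw [SQ1.VOf.MinH.o2_cent hm s h1 v hv]; group
        rw [h2, ap_one]
  have hpQ : 0 < Nat.card (o2 H) := Nat.card_pos
  have hrel : (o2 H).relIndex (S : Subgroup G) = Nat.card F := by
    have h1 := card_mul_relIndex hQS
    rw [hcS] at h1
    exact Nat.eq_of_mul_eq_mul_left hpQ h1
  have hcV : Nat.card (zl (S : Subgroup G) H) = Nat.card (zc (S : Subgroup G)) * Nat.card F := by
    refine card_of_map hZV (fun v => M.π v 1) (fun v hv w hw => by rw [M.map_mul v hv w hw]; rfl) ?_ ?_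
    · intro c
      obtain ⟨v, hv, h1⟩ := M.surj ![0, c]
      exact ⟨v, hv, by rw [h1]; rfl⟩
    · intro v hv
      exact (hZ' v hv).symm
  have hV0Z : V0 ≤ zc (S : Subgroup G) := fun v hv =>
    (hZ' v (M.V0V hv)).2 (by rw [(M.ker v (M.V0V hv)).2 hv]; rfl)
  have hcZ : Nat.card (zc (S : Subgroup G)) = Nat.card V0 * Nat.card F := by
    refine card_of_map hV0Z (fun v => M.π v 0)
      (fun v hv w hw => by rw [M.map_mul v (hZV hv) w (hZV hw)]; rfl) ?_ ?_
    · intro c
      obtain ⟨v, hv, h1⟩ := M.surj ![c, 0]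
      exact ⟨v, hZ v hv (by rw [h1]; rfl), by rw [h1]; rfl⟩
    · intro v hv
      rw [← M.ker v (hZV hv)]
      constructor
      · intro h1
        exact ext2 h1 ((hZ' v (hZV hv)).1 hv)
      · intro h1
        rw [h1]; rfl
  -- an element inducing `wm`
  obtain ⟨x, hx, hxw⟩ := M.lift (wm 1 one_ne_zero)
  refine ⟨⟨hH, ?_, ?_, ?_⟩, hcZ, hcV, ?_, ?_⟩
  · intro s hs hsQ v hv hc
    refine hZ v hv ?_
    have h1 := hf s hs v hv
    have h2 : s * v * s⁻¹ = v := by rw [hc]; group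
    rw [h2] at h1
    have h3 := congrFun h1 0
    rw [ap_zero', up_00, up_01, one_mul] at h3
    have h4 : f s * M.π v 1 = 0 := left_eq_add.1 h3
    rcases mul_eq_zero.1 h4 with h5 | h5
    · exfalso
      apply hsQ
      refine h0Q s hs ?_
      rw [← h5]
      exact hf s hs
    · exact h5
  · intro s hs v hv
    have h1 := M.Vn s (hSH hs) v hv
    refine hZ _ (mul_mem h1 (inv_mem hv)) ?_
    rw [M.map_div h1 hv, hf s hs v hv, Pi.sub_apply, ap_one', up_10, up_11, zero_mul, zero_add, one_mul, sub_self]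
  · rw [hcV, hrel]
  · rintro z ⟨hz, hzc⟩
    have h1 := hxw z (hZV hz)
    have h2 : x * z * x⁻¹ = z := by rw [mem_centralizer_iff.1 hzc x hx]; group
    rw [h2] at h1
    have h3 := congrFun h1 0
    rw [ap_zero', wm_00, wm_01, zero_mul, zero_add, one_mul, (hZ' z (hZV hz)).1 hz] at h3
    exact (M.ker z (hZV hz)).1 (ext2 h3 ((hZ' z (hZV hz)).1 hz))
  · intro h0
    refine ⟨x, hx, ?_⟩
    rw [eq_bot_iff, ← h0]
    rintro v ⟨hv, hv'⟩
    have hv1 : x⁻¹ * v * x ∈ zc (S : Subgroup G) := mem_cj.1 hv'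
    have h1 := hxw _ (hZV hv1)
    have e : x * (x⁻¹ * v * x) * x⁻¹ = v := by group
    rw [e] at h1
    have h3 := congrFun h1 0
    rw [ap_zero', wm_00, wm_01, zero_mul, zero_add, one_mul, (hZ' _ (hZV hv1)).1 hv1] at h3
    exact (M.ker v (hZV hv)).1 (ext2 h3 ((hZ' v (hZV hv)).1 hv))

end Cfsg.Agent.Omega.NO3S.OneLine
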