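import Cfsg.Agent.Omega.NO3S.OneLine.LevStep
import Cfsg.Agent.Omega.NO3S.OneLine.Nat
import Cfsg.Agent.Omega.FFThmM

/-!
# Sums of natural modules: offenders centralise the full preimage (module form)

`NatKM` (module form of the FF theorem) for a minimal parabolic `H`, no hypothesis on `J(T)`:

* `NatC.cent_of_stab`: elements acting trivially on `V / D` and on `D` centralise `V` (copied from
  `SQ1/FFKNat.lean`, where `J(T) ≰ O₂(H)` is a field);
* `NatC.cent_line`: an offender `A ≤ T` on `V` centralises `{v | ∀ i, e v i 1 = 0}`.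
-/

set_option autoImplicit false
set_option linter.unusedSectionVars false
set_option linter.unusedVariables false

namespace Cfsg.Agent.Omega.NO3S.OneLine

open Subgroup Cfsg Cfsg.Agent.PLocal.ThompsonJ Cfsg.Agent.ZN Cfsg.Agent.ZN.ChoiceBase
open Cfsg.Agent.ZN.ChoiceSit
open Cfsg.Agent.Omega.NatPair Cfsg.Agent.Lib.SL2Mat
open Cfsg.Agent.PLocal.ElemAbSup
open Cfsg.Agent.Omega.SQ1.FFOne
open Cfsg.Agent.Omega.SQ1.Bau (mem_AA_of_comm zj_le_AA elem_comm elem_sq mem_sup_comm card_sup_comm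
  mem_sup_norm)
open Cfsg.Agent.Omega.FFThm (NatK ActsSL Off OffM NatKM ElemM)
open Cfsg.Agent.Omega.FrameFF (cv)

universe u

/-- `|K| = |L| |B|` for a homomorphism of `K` onto `B` with kernel `L`. -/
theorem card_of_hom {G : Type*} [Group G] {B : Type*} [AddCommGroup B] {K L : Subgroup G} (hLK : L ≤ K) (f : G → B)
    (hf : ∀ v ∈ K, ∀ w ∈ K, f (v * w) = f v + f w) (hs : ∀ c, ∃ v ∈ K, f v = c)
    (hk : ∀ v ∈ K, f v = 0 ↔ v ∈ L) : Nat.card K = Nat.card L * Nat.card B := by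
  let φ : K →* Multiplicative B := MonoidHom.mk' (fun v => Multiplicative.ofAdd (f v)) (by
    rintro ⟨v, hv⟩ ⟨w, hw⟩
    exact congrArg Multiplicative.ofAdd (hf v hv w hw))
  have hφ : Function.Surjective φ := by
    intro c
    obtain ⟨v, hv, h⟩ := hs (Multiplicative.toAdd c)
    exact ⟨⟨v, hv⟩, congrArg Multiplicative.ofAdd h⟩
  have h1 : Nat.card φ.ker * Nat.card φ.range = Nat.card K := by
    rw [← Subgroup.index_ker, Subgroup.card_mul_index]
  have h2 : Nat.card φ.range = Nat.card B := by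
    rw [MonoidHom.range_eq_top.2 hφ, Subgroup.card_top]
    rfl
  have h3 : Nat.card φ.ker = Nat.card L := by
    refine Nat.card_congr ⟨fun v => ⟨v.1.1, (hk v.1.1 v.1.2).1 ?_⟩, fun z => ⟨⟨z.1, hLK z.2⟩, ?_⟩, fun _ => rfl,
      fun _ => rfl⟩
    · exact congrArg Multiplicative.toAdd (MonoidHom.mem_ker.1 v.2)
    · exact MonoidHom.mem_ker.2 (congrArg Multiplicative.ofAdd ((hk z.1 (hLK z.2)).2 z.2))
  rw [← h1, h2, h3]

/-- `|K| ≤ |L| |B|` for a homomorphism of `K` to `B` with kernel in `L`. -/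
theorem card_le_of_hom {G : Type*} [Group G] [Finite G] {B : Type*} [AddCommGroup B] [Finite B] {K L : Subgroup G}
    (f : G → B) (hf : ∀ v ∈ K, ∀ w ∈ K, f (v * w) = f v + f w)
    (hk : ∀ v ∈ K, f v = 0 → v ∈ L) : Nat.card K ≤ Nat.card L * Nat.card B := by
  let φ : K →* Multiplicative B := MonoidHom.mk' (fun v => Multiplicative.ofAdd (f v)) (by
    rintro ⟨v, hv⟩ ⟨w, hw⟩
    exact congrArg Multiplicative.ofAdd (hf v hv w hw))
  have h1 : Nat.card φ.ker * Nat.card φ.range = Nat.card K := by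
    rw [← Subgroup.index_ker, Subgroup.card_mul_index]
  have h2 : Nat.card φ.range ≤ Nat.card B := by
    have : Finite (Multiplicative B) := inferInstanceAs (Finite B)
    exact (Subgroup.card_le_card_group φ.range)
  have h3 : Nat.card φ.ker ≤ Nat.card L := by
    refine Nat.card_le_card_of_injective (fun v : φ.ker => (⟨v.1.1, hk v.1.1 v.1.2 ?_⟩ : L)) ?_
    · exact congrArg Multiplicative.toAdd (MonoidHom.mem_ker.1 v.2)
    · intro v w h
      have h0 : v.1.1 = w.1.1 := congrArg (fun x : L => (x : G)) h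
      exact Subtype.ext (Subtype.ext h0)
  rw [← h1]
  exact Nat.mul_le_mul h3 h2

variable {G : Type u} [Group G]

/-- The data of `NatK` together with the elementary facts on `V`. -/
structure NatC (F : Type) [Field F] (T H V D : Subgroup G) (k : ℕ) where
  nat : NatK F T H V D k
  DV : D ≤ V
  Vn : ∀ h ∈ H, ∀ v ∈ V, h * v * h⁻¹ ∈ V
  VQ : V ≤ o2 H
  Vsq : ∀ v ∈ V, v ^ 2 = 1
  VcQ : ∀ x ∈ o2 H, ∀ v ∈ V, x * v = v * x
  pos : 0 < k

namespace NatC

variable {F : Type} [Field F] {T H V D : Subgroup G} {k : ℕ} (M : NatC F T H V D k)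

include M

theorem Vcomm {v w : G} (hv : v ∈ V) (hw : w ∈ V) : v * w = w * v := M.VcQ v (M.VQ hv) w hw

theorem map_one : M.nat.e 1 = 0 := by
  have := M.nat.mul 1 (one_mem V) 1 (one_mem V)
  rw [one_mul] at this
  exact left_eq_add.1 this

theorem map_inv {v : G} (hv : v ∈ V) : M.nat.e v⁻¹ = - M.nat.e v := by
  have := M.nat.mul v hv v⁻¹ (inv_mem hv)
  rw [mul_inv_cancel, M.map_one] at this
  exact (neg_eq_of_add_eq_zero_right this.symm).symm

theorem map_div {v w : G} (hv : v ∈ V) (hw : w ∈ V) :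
    M.nat.e (v * w⁻¹) = M.nat.e v - M.nat.e w := by
  rw [M.nat.mul v hv _ (inv_mem hw), M.map_inv hw, sub_eq_add_neg]

theorem Dn : ∀ h ∈ H, ∀ d ∈ D, h * d * h⁻¹ ∈ D := by
  intro h hh d hd
  obtain ⟨σ, hσ⟩ := M.nat.perm h hh
  rw [← M.nat.ker _ (M.Vn h hh d (M.DV hd))]
  funext j
  obtain ⟨i, rfl⟩ := σ.surjective j
  rw [Pi.zero_apply, hσ d (M.DV hd) i, (M.nat.ker d (M.DV hd)).2 hd]
  rfl

/-- `g` acts on the coordinates as `A`. -/
def Acts (M : NatC F T H V D k) (g : G) (A : Fin k → Matrix.SpecialLinearGroup (Fin 2) F) : Prop :=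
  ∀ v ∈ V, ∀ i, M.nat.e (g * v * g⁻¹) i = ap (A i) (M.nat.e v i)

omit M in
theorem acts_mul {M : NatC F T H V D k} {g h : G}
    {A B : Fin k → Matrix.SpecialLinearGroup (Fin 2) F} (hh : h ∈ H)
    (hA : M.Acts g A) (hB : M.Acts h B) : M.Acts (g * h) (A * B) := by
  intro v hv i
  have e : g * h * v * (g * h)⁻¹ = g * (h * v * h⁻¹) * g⁻¹ := by group
  rw [e, hA _ (M.Vn h hh v hv) i, hB v hv i, Pi.mul_apply, ap_mul]

omit M in
theorem acts_inv {M : NatC F T H V D k} {g : G}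
    {A : Fin k → Matrix.SpecialLinearGroup (Fin 2) F} (hg : g ∈ H)
    (hA : M.Acts g A) : M.Acts g⁻¹ A⁻¹ := by
  intro v hv i
  have h1 := hA _ (M.Vn g⁻¹ (inv_mem hg) v hv) i
  have e : g * (g⁻¹ * v * g⁻¹⁻¹) * g⁻¹ = v := by group
  rw [e] at h1
  rw [h1, Pi.inv_apply, ap_inv_ap]

omit M in
theorem acts_one {M : NatC F T H V D k} : M.Acts 1 1 := by
  intro v hv i
  rw [one_mul, inv_one, mul_one, Pi.one_apply, ap_one]

omit M in
theorem acts_unique {M : NatC F T H V D k} {g : G}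
    {A B : Fin k → Matrix.SpecialLinearGroup (Fin 2) F} (hA : M.Acts g A) (hB : M.Acts g B) :
    A = B := by
  funext i
  apply ap_inj
  intro x
  obtain ⟨v, hv, e⟩ := M.nat.surj fun _ => x
  have h1 := hA v hv i
  rw [hB v hv i, e] at h1
  exact h1.symm

/-- the stability group of `V ≥ D ≥ 1` -/
def stab (M : NatC F T H V D k) : Subgroup G where
  carrier := {x | x ∈ H ∧ M.Acts x 1 ∧ ∀ d ∈ D, x * d = d * x}
  mul_mem' := by
    rintro a b ⟨ha, ha', ha2⟩ ⟨hb, hb', hb2⟩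
    refine ⟨mul_mem ha hb, ?_, fun d hd => ?_⟩
    · have := acts_mul hb ha' hb'
      rwa [mul_one] at this
    · have e1 : Commute a d := ha2 d hd
      have e2 : Commute b d := hb2 d hd
      exact (e1.mul_left e2).eq
  one_mem' := ⟨one_mem H, acts_one, fun d _ => by simp⟩
  inv_mem' := by
    rintro a ⟨ha, ha', ha2⟩
    refine ⟨inv_mem ha, ?_, fun d hd => ?_⟩
    · have := acts_inv ha ha'
      rwa [inv_one] at this
    · have e1 : Commute a d := ha2 d hd
      exact e1.inv_left.eq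

theorem stab_norm : ∀ g ∈ H, ∀ x ∈ M.stab, g * x * g⁻¹ ∈ M.stab := by
  rintro g hg x ⟨hx, hx1, hx2⟩
  refine ⟨mul_mem (mul_mem hg hx) (inv_mem hg), fun v hv i => ?_, fun d hd => ?_⟩
  · have hv' : g⁻¹ * v * g ∈ V := by
      have := M.Vn g⁻¹ (inv_mem hg) v hv
      rwa [inv_inv] at this
    set w := g⁻¹ * v * g with hw
    have hxw := M.Vn x hx w hv'
    have h1 : x * w * x⁻¹ * w⁻¹ ∈ D := by
      rw [← M.nat.ker _ (mul_mem hxw (inv_mem hv')), M.map_div hxw hv']
      funext j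
      rw [Pi.sub_apply, hx1 w hv' j, Pi.one_apply, ap_one, sub_self]
      rfl
    have h2 := (M.nat.ker _ (M.DV (M.Dn g hg _ h1))).2 (M.Dn g hg _ h1)
    have e1 : g * (x * w * x⁻¹ * w⁻¹) * g⁻¹ = (g * x * g⁻¹ * v * (g * x * g⁻¹)⁻¹) * v⁻¹ := by
      rw [hw]; group
    have h3 : g * x * g⁻¹ * v * (g * x * g⁻¹)⁻¹ ∈ V :=
      M.Vn _ (mul_mem (mul_mem hg hx) (inv_mem hg)) v hv
    rw [e1, M.map_div h3 hv, sub_eq_zero] at h2
    rw [h2, Pi.one_apply, ap_one]
  · have hd' : g⁻¹ * d * g ∈ D := by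
      have := M.Dn g⁻¹ (inv_mem hg) d hd
      rwa [inv_inv] at this
    have h1 := hx2 _ hd'
    calc g * x * g⁻¹ * d = g * (x * (g⁻¹ * d * g)) * g⁻¹ := by group
      _ = g * (g⁻¹ * d * g * x) * g⁻¹ := by rw [h1]
      _ = d * (g * x * g⁻¹) := by group

theorem stab_sup_ne [CharP F 2] (hT : Syl T H) : M.stab ⊔ T ≠ H := by
  intro e
  have hneg : (-1 : F) = 1 := CharTwo.neg_eq 1
  set A : Matrix.SpecialLinearGroup (Fin 2) F :=
    Cfsg.Agent.Lib.SL2Mat.mk 0 1 1 1 (by rw [zero_mul, one_mul, zero_sub]; exact hneg) with hA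
  have hA3 : A ^ 3 = 1 := by
    have h1 : (1 : F) + 1 = 0 := CharTwo.add_self_eq_zero 1
    rw [pow_succ, pow_two]
    apply ext_ent
    · rw [ent_mul, ent_mul, ent_mul]; simp [hA, h1]
    · rw [ent_mul, ent_mul, ent_mul]; simp [hA, h1]
    · rw [ent_mul, ent_mul, ent_mul]; simp [hA, h1]
    · rw [ent_mul, ent_mul, ent_mul]; simp [hA, h1]
  have hA1 : A ≠ 1 := by
    intro h
    have h2 : ent A 0 0 = ent (1 : Matrix.SpecialLinearGroup (Fin 2) F) 0 0 := by rw [h]
    rw [ent_one_00, hA, mk_00] at h2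
    exact zero_ne_one h2
  obtain ⟨g, hg, hgA, -⟩ := M.nat.lift fun _ => A
  have hg' : g ∈ M.stab ⊔ T := by rw [e]; exact hg
  obtain ⟨t, ht, x, hx, rfl⟩ : ∃ t ∈ T, ∃ x ∈ M.stab, g = t * x := by
    refine mem_sup_norm (fun t ht => ?_) (by rwa [sup_comm] at hg')
    rw [mem_normalizer_iff]
    refine fun x => ⟨M.stab_norm t (hT.1 ht) x, fun hx => ?_⟩
    have := M.stab_norm t⁻¹ (inv_mem (hT.1 ht)) _ hx
    have e : t⁻¹ * (t * x * t⁻¹) * t⁻¹⁻¹ = x := by group
    rwa [e] at this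
  have htH := hT.1 ht
  have htA : M.Acts t fun _ => A := by
    have h1 := acts_mul (inv_mem hx.1) (show M.Acts (t * x) (fun _ => A) from hgA)
      (acts_inv hx.1 hx.2.1)
    rwa [mul_inv_cancel_right, inv_one, mul_one] at h1
  obtain ⟨n, hn⟩ := hT.2.1 ⟨t, ht⟩
  have hn' : t ^ 2 ^ n = 1 := by simpa using congrArg Subtype.val hn
  have hpow : ∀ m : ℕ, M.Acts (t ^ m) ((fun _ => A) ^ m) := by
    intro m
    induction m with
    | zero => rw [pow_zero, pow_zero]; exact acts_one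
    | succ m ih => rw [pow_succ, pow_succ]; exact acts_mul htH ih htA
  have h2 := hpow (2 ^ n)
  rw [hn'] at h2
  have h3 := congrFun (acts_unique h2 acts_one) ⟨0, M.pos⟩
  rw [Pi.pow_apply, Pi.one_apply] at h3
  have h4 : orderOf A ∣ 2 ^ n := orderOf_dvd_of_pow_eq_one h3
  have h5 : orderOf A ∣ 3 := orderOf_dvd_of_pow_eq_one hA3
  have h6 : Nat.Coprime (2 ^ n) 3 := Nat.Coprime.pow_left _ (by norm_num)
  have h7 : orderOf A = 1 := Nat.eq_one_of_dvd_coprimes h6 h4 h5
  exact hA1 (orderOf_eq_one_iff.1 h7)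

/-- Elements acting trivially on `V / D` and on `D` centralise `V`. -/
theorem cent_of_stab [Finite G] [CharP F 2] (hm : MinH H T) {x : G} (hx : x ∈ M.stab) {v : G}
    (hv : v ∈ V) : x * v = v * x := by
  have hTs : T ⊓ M.stab ≤ o2 H := hm.inf_le (fun _ h => h.1) M.stab_norm (M.stab_sup_ne hm.syl)
  -- 2-elements of the stability group
  have h2el : ∀ y ∈ M.stab, (∃ n : ℕ, y ^ 2 ^ n = 1) → ∀ v ∈ V, y * v = v * y := by
    rintro y hy ⟨n, hn⟩ v hv
    have hp : IsPGroup 2 (zpowers y) := by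
      rintro ⟨z, hz⟩
      obtain ⟨m, rfl⟩ := mem_zpowers_iff.1 hz
      refine ⟨n, Subtype.ext ?_⟩
      show (y ^ m) ^ 2 ^ n = 1
      rw [← zpow_natCast, ← zpow_mul, mul_comm, zpow_mul, zpow_natCast, hn, one_zpow]
    obtain ⟨S, hS, hyS⟩ := exists_syl hp ((zpowers_le (H := H)).2 hy.1)
    obtain ⟨g, hg, e⟩ := syl_conj hS hm.syl
    have h1 : g * y * g⁻¹ ∈ T := by
      rw [← e]
      exact ⟨y, hyS (mem_zpowers y), rfl⟩
    have h3 := hTs ⟨h1, M.stab_norm g hg y hy⟩
    have hv' := M.Vn g hg v hv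
    have h4 := M.VcQ _ h3 _ hv'
    have e1 : g * y * g⁻¹ * (g * v * g⁻¹) = g * (y * v) * g⁻¹ := by group
    have e2 : g * v * g⁻¹ * (g * y * g⁻¹) = g * (v * y) * g⁻¹ := by group
    rw [e1, e2] at h4
    exact mul_left_cancel (mul_right_cancel h4)
  -- squares centralise `V`
  have hsq : ∀ v ∈ V, x ^ 2 * v = v * x ^ 2 := by
    intro v hv
    have hxv := M.Vn x hx.1 v hv
    set d := x * v * x⁻¹ * v⁻¹ with hd
    have hdD : d ∈ D := by
      rw [← M.nat.ker _ (mul_mem hxv (inv_mem hv)), M.map_div hxv hv]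
      funext j
      rw [Pi.sub_apply, hx.2.1 v hv j, Pi.one_apply, ap_one, sub_self]
      rfl
    have e1 : x * v * x⁻¹ = d * v := by rw [hd]; group
    have e2 : x * d * x⁻¹ = d := by rw [hx.2.2 d hdD]; group
    have hdd : d * d = 1 := by
      have := M.Vsq d (M.DV hdD); rwa [pow_two] at this
    have e3 : x ^ 2 * v * (x ^ 2)⁻¹ = x * (x * v * x⁻¹) * x⁻¹ := by
      simp only [pow_two, mul_inv_rev, mul_assoc]
    have e4 : x * (d * v) * x⁻¹ = (x * d * x⁻¹) * (x * v * x⁻¹) := by group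
    have e5 : x ^ 2 * v * (x ^ 2)⁻¹ = v := by
      rw [e3, e1, e4, e1, e2, ← mul_assoc, hdd, one_mul]
    calc x ^ 2 * v = x ^ 2 * v * (x ^ 2)⁻¹ * x ^ 2 := by group
      _ = v * x ^ 2 := by rw [e5]
  -- the odd part
  obtain ⟨a, m, hm1, hm2⟩ := Nat.exists_eq_two_pow_mul_odd (isOfFinOrder_of_finite x).orderOf_pos.ne'
  obtain ⟨r, hr⟩ := hm1
  have h1 : ∀ v ∈ V, x ^ m * v = v * x ^ m := by
    refine h2el _ (pow_mem hx m) ⟨a, ?_⟩
    rw [← pow_mul, mul_comm, ← hm2, pow_orderOf_eq_one]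
  have h3 : Commute (x ^ m) v := h1 v hv
  have h4 : Commute ((x ^ 2) ^ r) v := (show Commute (x ^ 2) v from hsq v hv).pow_left r
  have h5 : x = ((x ^ 2) ^ r)⁻¹ * x ^ m := by
    rw [← pow_mul, hr, pow_succ, inv_mul_cancel_left]
  rw [h5]
  exact (h4.inv_left.mul_left h3).eq

/-- **An offender centralises the full preimage** of the product of the lines. -/
theorem cent_line [Finite G] [Finite F] [CharP F 2] (hm : MinH H T) {A : Subgroup G} (hA : A ≤ T)
    (hoff : Nat.card V * Nat.card ↥(A ⊓ centralizer (V : Set G)) ≤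
      Nat.card A * Nat.card ↥(V ⊓ centralizer (A : Set G))) {I : Set (Fin k)}
    (h1 : ∀ a ∈ A, ∃ b : Fin k → F, (∀ i, i ∉ I → b i = 0) ∧ ActsSL M.nat.e V D a fun i => up (b i))
    (h2 : ∀ b : Fin k → F, (∀ i, i ∉ I → b i = 0) → ∃ a ∈ A, ActsSL M.nat.e V D a fun i => up (b i))
    {v : G} (hv : v ∈ V) (hl : ∀ i, M.nat.e v i 1 = 0) {a : G} (ha : a ∈ A) : a * v = v * a := by
  classical
  have hTH := hm.syl.1
  -- the coordinates of an element of `A`
  let f : G → Fin k → F := fun a => if h : a ∈ A then (h1 a h).choose else 0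
  have hf : ∀ a ∈ A, (∀ i, i ∉ I → f a i = 0) ∧ ActsSL M.nat.e V D a fun i => up (f a i) := by
    intro a ha
    have : f a = (h1 a ha).choose := dif_pos ha
    rw [this]
    exact (h1 a ha).choose_spec
  have hfu : ∀ a ∈ A, ∀ b : Fin k → F, M.Acts a (fun i => up (b i)) → f a = b := by
    intro a ha b hb
    have h3 := acts_unique (M := M) (hf a ha).2.1 hb
    funext i
    have h4 : ent (up (f a i)) 0 1 = ent (up (b i)) 0 1 := by
      have := congrFun h3 i
      rw [this]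
    rwa [up_01, up_01] at h4
  -- `|A| ≤ |C_A(V)| q^|I|`
  have hcA : Nat.card A ≤ Nat.card ↥(A ⊓ centralizer (V : Set G)) * Nat.card (I → F) := by
    refine card_le_of_hom (fun a (i : I) => f a i) ?_ ?_
    · intro a ha b hb
      have h3 : f (a * b) = f a + f b := by
        refine hfu _ (mul_mem ha hb) _ ?_
        have h4 := acts_mul (M := M) (hTH (hA hb)) (hf a ha).2.1 (hf b hb).2.1
        have e : ((fun i => up (f a i)) * fun i => up (f b i)) = fun i => up ((f a + f b) i) := by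
          funext i
          rw [Pi.mul_apply, up_mul, Pi.add_apply]
        rwa [e] at h4
      funext i
      rw [h3]; rfl
    · intro a ha h0
      have h3 : f a = 0 := by
        funext i
        by_cases hi : i ∈ I
        · exact congrFun h0 ⟨i, hi⟩
        · exact (hf a ha).1 i hi
      refine ⟨ha, mem_centralizer_iff.2 fun w hw => ?_⟩
      have hs : a ∈ M.stab := by
        refine ⟨hTH (hA ha), ?_, (hf a ha).2.2⟩
        have h4 := (hf a ha).2.1
        rw [h3] at h4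
        intro w hw i
        have h5 : M.nat.e (a * w * a⁻¹) i = ap (up ((0 : Fin k → F) i)) (M.nat.e w i) := h4 w hw i
        rw [Pi.zero_apply, up_zero] at h5
        exact h5
      exact (M.cent_of_stab hm hs hw).symm
  -- `W`
  let W : Subgroup G :=
    { carrier := {w | w ∈ V ∧ ∀ i ∈ I, M.nat.e w i 1 = 0}
      mul_mem' := by
        rintro x y ⟨hx, hx'⟩ ⟨hy, hy'⟩
        refine ⟨mul_mem hx hy, fun i hi => ?_⟩
        rw [M.nat.mul x hx y hy, Pi.add_apply, Pi.add_apply, hx' i hi, hy' i hi, add_zero]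
      one_mem' := ⟨one_mem _, fun i _ => by rw [M.map_one]; rfl⟩
      inv_mem' := by
        rintro x ⟨hx, hx'⟩
        refine ⟨inv_mem hx, fun i hi => ?_⟩
        rw [M.map_inv hx, Pi.neg_apply, Pi.neg_apply, hx' i hi, neg_zero] }
  have hcV : Nat.card V = Nat.card W * Nat.card (I → F) := by
    refine card_of_hom (fun w hw => hw.1) (fun w (i : I) => M.nat.e w i 1) ?_ ?_ ?_
    · intro x hx y hy
      funext i
      rw [M.nat.mul x hx y hy]; rfl
    · intro c
      obtain ⟨w, hw, e⟩ := M.nat.surj fun i => ![0, if h : i ∈ I then c ⟨i, h⟩ else 0]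
      refine ⟨w, hw, ?_⟩
      funext i
      rw [e]
      simp
    · intro x hx
      constructor
      · intro h0
        exact ⟨hx, fun i hi => congrFun h0 ⟨i, hi⟩⟩
      · intro h0
        funext i
        exact h0.2 i i.2
  have hle : V ⊓ centralizer (A : Set G) ≤ W := by
    rintro w ⟨hw, hwA⟩
    refine ⟨hw, fun i hi => ?_⟩
    obtain ⟨b, hb, hb'⟩ := h2 (Pi.single i 1) fun j hj => by
      rw [Pi.single_eq_of_ne]
      rintro rfl
      exact hj hi
    have h3 : M.nat.e (b * w * b⁻¹) i = ap (up ((Pi.single i 1 : Fin k → F) i)) (M.nat.e w i) := hb'.1 w hw i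
    have h4 : b * w * b⁻¹ = w := by rw [mem_centralizer_iff.1 hwA b hb]; group
    rw [h4, Pi.single_eq_same] at h3
    have h5 := congrFun h3 0
    rw [ap_zero', up_00, up_01, one_mul, one_mul] at h5
    exact left_eq_add.1 h5
  have hWle : Nat.card W ≤ Nat.card ↥(V ⊓ centralizer (A : Set G)) := by
    have hp1 : 0 < Nat.card ↥(A ⊓ centralizer (V : Set G)) := Nat.card_pos
    have hp2 : 0 < Nat.card (I → F) := Nat.card_pos
    have h3 : Nat.card ↥(A ⊓ centralizer (V : Set G)) * Nat.card (I → F) * Nat.card W ≤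
        Nat.card ↥(A ⊓ centralizer (V : Set G)) * Nat.card (I → F) * Nat.card ↥(V ⊓ centralizer (A : Set G)) := by
      calc _ = Nat.card V * Nat.card ↥(A ⊓ centralizer (V : Set G)) := by rw [hcV]; ring
        _ ≤ _ := hoff
        _ ≤ _ := Nat.mul_le_mul_right _ hcA
    exact Nat.le_of_mul_le_mul_left h3 (Nat.mul_pos hp1 hp2)
  have hWeq := Subgroup.eq_of_le_of_card_ge hle hWle
  have hvW : v ∈ W := ⟨hv, fun i _ => hl i⟩
  rw [← hWeq] at hvW
  exact mem_centralizer_iff.1 hvW.2 a ha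

end NatC

/-- The data for a minimal parabolic. -/
def natC_of [Finite G] {F : Type} [Field F] {T H : Subgroup G} {k : ℕ} (hm : MinH H T) (hk : 0 < k)
    (M : NatK F T H (zl T H) (cv T H) k) : NatC F T H (zl T H) (cv T H) k where
  nat := M
  DV := inf_le_left
  Vn h hh v hv := (mem_normalizer_iff.1 (MinSimple.VModule.le_normalizer_zl T H hh) v).1 hv
  VQ := SQ1.VOf.MinH.zl_le_o2 hm
  Vsq := SQ1.VOf.MinH.sq hm
  VcQ x hx v hv := SQ1.VOf.MinH.o2_cent hm x hx v hv
  pos := hk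

end Cfsg.Agent.Omega.NO3S.OneLine
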