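import Cfsg.Agent.Omega.NO3S.OneLine.Sym
import Cfsg.Agent.Omega.FFThmM

/-!
# LEMMA UNIQ at every level: the even-subset modules (module form)

`sym_moved` : `V_H / D` a sum of even-subset modules of `S_{2^m+1}`, `m ≥ 2`, and some offender of `T` on `V_H`: there
is `u ∈ V_H` which is centralised by all offenders `A ≤ T` and not by `T`.
-/

set_option autoImplicit false
set_option linter.unusedSectionVars false
set_option linter.unusedVariables false

namespace Cfsg.Agent.Omega.NO3S.OneLine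

open Subgroup Cfsg Cfsg.Agent.PLocal.ThompsonJ Cfsg.Agent.ZN Cfsg.Agent.ZN.ChoiceBase
open Cfsg.Agent.ZN.ChoiceSit
open Cfsg.Agent.Omega.SQ1 Cfsg.Agent.Omega.SQ1.FFOne Cfsg.Agent.Omega.SQ1.VOf Cfsg.Agent.Omega.SQ1.FFSym
open Cfsg.Agent.Omega.FFThm (ActsSym SymK SymKM OffM)
open Cfsg.Agent.Omega.FrameFF (cv)

universe v

variable {G : Type v} [Group G] {T H D : Subgroup G} {k m : ℕ}

/-- The module data. -/
theorem sy_of (c : MinH H T) [Finite G] (N : SymK T H (zl T H) D k m) (hk : 0 < k)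
    (hm : 1 ≤ m) (hDV : D ≤ zl T H) (hDn : ∀ h ∈ H, ∀ v ∈ D, h * v * h⁻¹ ∈ D) :
    Sy H (zl T H) D N.e where
  n3 := by
    have : 2 ≤ 2 ^ m := by
      calc 2 = 2 ^ 1 := (pow_one 2).symm
        _ ≤ 2 ^ m := Nat.pow_le_pow_right (by norm_num) hm
    omega
  n4 := by
    intro h4
    have h5 : 2 ∣ 2 ^ m := dvd_pow_self 2 (by omega)
    omega
  DV := hDV
  Vn := zl_norm
  Dn := hDn
  comm := MinH.comm c
  sq := MinH.sq c
  mul := N.mul
  even := N.even
  surj := N.surj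
  ker := N.ker
  lift := N.lift
  perm := N.perm
  cent := fun g hg h1 h2 => cent c N hk hm hDV hDn hg h1 h2

/-- `T` is transitive on the points different from `0` of every component. -/
theorem cyc_T' [Finite G] (c : MinH H T) (N : SymK T H (zl T H) D k m) (h : Sy H (zl T H) D N.e) (hm : 1 ≤ m)
    (j : Fin k) {x y : Fin (2 ^ m + 1)} (hx : x ≠ 0) (hy : y ≠ 0) :
    ∃ t ∈ T, ∃ π, Gd H (zl T H) D N.e (Pi.mulSingle j π) t ∧ π x = y := by
  obtain ⟨p, hpM, -, hp0, hpt⟩ := SymCyc.exists_cyc m hm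
  obtain ⟨g, hg⟩ := h.exists_gd (Pi.mulSingle j p)
  obtain ⟨n, hc, M', hN⟩ := SymCyc.exists_pow g m
  have hpc : p ^ n = p := by
    have hd := orderOf_dvd_of_pow_eq_one hpM
    have e1 : n % orderOf p = 1 % orderOf p := by
      have e2 := congrArg (· % orderOf p) hc
      simpa only [Nat.mod_mod_of_dvd _ hd] using e2
    have e2 := pow_mod_orderOf p n
    rw [e1] at e2
    rw [← e2, pow_mod_orderOf, pow_one]
  have h1 : Gd H (zl T H) D N.e (Pi.mulSingle j p) (g ^ n) := by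
    have := h.gd_pow hg n
    rw [← Pi.mulSingle_pow, hpc] at this
    exact this
  obtain ⟨s, hs, hsT⟩ := syl_elt c.syl h1.mem ⟨M', hN⟩
  obtain ⟨σ, τ, hsa⟩ := h.perm s hs
  have h2 := h.gd_conj_single hs hsa h1
  have h3 := N.fix0 _ hsT _ _ h2.act (σ j)
  rw [Pi.mulSingle_eq_same] at h3
  have h4 : (τ j)⁻¹ 0 = 0 := by
    apply hp0
    apply (τ j).injective
    rw [perm_inv_self]
    exact h3
  obtain ⟨t, ht, σ', τ', hta, hσ⟩ := N.trans (σ j) j
  have h5 := h.gd_conj_single (c.syl.1 ht) hta h2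
  have h6 := N.fix0 _ ht _ _ hta (σ j)
  rw [hσ] at h5
  set ρ := τ' (σ j) * τ j with hρ
  have hρ0 : ρ⁻¹ 0 = 0 := by
    rw [Equiv.Perm.inv_eq_iff_eq, hρ, Equiv.Perm.mul_apply]
    have : τ j 0 = 0 := by
      conv_lhs => rw [← h4]
      exact perm_inv_self _ _
    rw [this, h6]
  have h7 : τ' (σ j) * (τ j * p * (τ j)⁻¹) * (τ' (σ j))⁻¹ = ρ * p * ρ⁻¹ := by rw [hρ]; group
  rw [h7] at h5
  have hx' : ρ⁻¹ x ≠ 0 := fun e => hx (ρ⁻¹.injective (by rw [e, hρ0]))
  have hy' : ρ⁻¹ y ≠ 0 := fun e => hy (ρ⁻¹.injective (by rw [e, hρ0]))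
  obtain ⟨i, hi⟩ := hpt _ _ hx' hy'
  refine ⟨(t * (s * g ^ n * s⁻¹) * t⁻¹) ^ i,
    pow_mem (mul_mem (mul_mem ht hsT) (inv_mem ht)) i, (ρ * p * ρ⁻¹) ^ i, ?_, ?_⟩
  · have := h.gd_pow h5 i
    rwa [← Pi.mulSingle_pow] at this
  · rw [conj_pow, Equiv.Perm.mul_apply, Equiv.Perm.mul_apply, hi, perm_inv_self]

/-- The transpositions induced by `T` are disjoint. -/
theorem disj' {V : Subgroup G} {n : ℕ} {e : G → Fin k → Fin n → ZMod 2} (h : Sy H V D e) (hT : IsPGroup 2 T)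
    {j : Fin k} {x y z : Fin n} (h3 : x ≠ y) (h5 : x ≠ z) {t s : G} (ht : t ∈ T) (hs : s ∈ T)
    (h4 : Gd H V D e (Pi.mulSingle j (Equiv.swap x y)) t)
    (h6 : Gd H V D e (Pi.mulSingle j (Equiv.swap x z)) s) : y = z := by
  by_contra hyz
  have h7 := h.gd_mul h4 h6
  obtain ⟨N, hN⟩ := hT ⟨t * s, mul_mem ht hs⟩
  have hN' : (t * s) ^ 2 ^ N = 1 := by simpa using congrArg Subtype.val hN
  have h8 := h.gd_pow h7 (2 ^ N)
  rw [hN'] at h8
  have h9 := h.gd_unique h8 h.gd_one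
  rw [← Pi.mulSingle_mul, ← Pi.mulSingle_pow] at h9
  have h10 : (Equiv.swap x y * Equiv.swap x z) ^ 2 ^ N = 1 := by
    have := congrFun h9 j
    rwa [Pi.mulSingle_eq_same] at this
  have h11 : Equiv.swap x y * Equiv.swap x z = cyc y x z := by
    rw [cyc, Equiv.swap_comm x y]
  rw [h11] at h10
  have h12 : cyc y x z ^ 3 = 1 := by
    have := cyc_three h3.symm hyz h5
    rw [pow_succ, pow_two]
    exact this
  have h13 : cyc y x z = 1 := by
    have h14 := Nat.Coprime.pow_left N (show Nat.Coprime 2 3 by decide)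
    have h15 := pow_gcd_eq_one.2 ⟨h10, h12⟩
    rwa [h14, pow_one] at h15
  have h16 := cyc_a h3.symm hyz h5
  rw [h13, Equiv.Perm.one_apply] at h16
  exact h3 h16.symm

/-- **Even-subset modules, `m ≥ 2`.** -/
theorem sym_moved [Finite G] (c : MinH H T) (N : SymKM T H (zl T H) (cv T H) k m) (hk : 0 < k) (hm : 2 ≤ m)
    {A : Subgroup G} (hA : A ≤ T) (hoff : OffM (zl T H) A) :
    ∃ u ∈ zl T H, (∀ A' : Subgroup G, A' ≤ T → OffM (zl T H) A' → ∀ a ∈ A', a * u = u * a) ∧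
      ∃ s ∈ T, s * u ≠ u * s := by
  have h := sy_of c N.toSymK hk (by omega) FFOf.cv_le FFOf.cv_norm
  have hTH := c.syl.1
  -- a transposition in `A`
  obtain ⟨i, x, y, hxy, t, ht, htg⟩ : ∃ i x y, x ≠ y ∧ ∃ t ∈ A,
      Gd H (zl T H) (cv T H) N.e (Pi.mulSingle i (Equiv.swap x y)) t := by
    obtain ⟨hD, h2⟩ := N.offM A hA hoff
    by_contra hcon
    push Not at hcon
    apply hoff.ne
    intro a ha
    obtain ⟨τ, hτ, hτ'⟩ := h2 a ha
    have h1 : τ = 1 := by
      funext i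
      ext x
      by_contra hx
      have hx' : τ i x ≠ x := fun e => hx (by rw [e]; rfl)
      obtain ⟨-, b, hb, hb'⟩ := hτ' i x hx'
      exact hcon i x (τ i x) hx'.symm b hb ⟨hTH (hA hb), hD b hb, hb'⟩
    subst h1
    refine mem_centralizer_iff.2 fun v hv => ?_
    have h2 := h.gd_sim ⟨hTH (hA ha), hD a ha, hτ⟩ h.gd_one v hv
    symm
    calc a * v = (a * v * a⁻¹) * a := by group
      _ = v * a := by rw [h2]; group
  have hx0 : x ≠ 0 := by
    rintro rfl
    have h4 := N.fix0 t (hA ht) _ _ htg.act i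
    rw [Pi.mulSingle_eq_same, Equiv.swap_apply_left] at h4
    exact hxy h4.symm
  refine ⟨u H (zl T H) (cv T H) N.e i x y, h.u_mem i x y, ?_, ?_⟩
  · intro A' hA' hoff' a ha
    obtain ⟨hD, h2⟩ := N.offM A' hA' hoff'
    obtain ⟨τ, hτ, hτ'⟩ := h2 a ha
    have h1 := h.u_conj (hTH (hA' ha)) hτ i x y
    rw [Equiv.Perm.one_apply] at h1
    -- `τ` preserves `{x, y}`
    have hkey : ∀ x y : Fin (2 ^ m + 1), x ≠ y →
        (∃ t ∈ T, Gd H (zl T H) (cv T H) N.e (Pi.mulSingle i (Equiv.swap x y)) t) → τ i x = x ∨ τ i x = y := by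
      rintro x y hxy ⟨t, ht, htg⟩
      by_cases hx : τ i x = x
      · exact Or.inl hx
      · right
        obtain ⟨-, b, hb, hb'⟩ := hτ' i x hx
        exact (disj' h c.syl.2.1 hxy (Ne.symm hx) ht (hA' hb) htg ⟨hTH (hA' hb), hD b hb, hb'⟩).symm
    have h3 := hkey x y hxy ⟨t, hA ht, htg⟩
    have h4 := hkey y x hxy.symm ⟨t, hA ht, by rwa [Equiv.swap_comm]⟩
    have h5 : u H (zl T H) (cv T H) N.e i (τ i x) (τ i y) = u H (zl T H) (cv T H) N.e i x y := by
      rcases h3 with h3 | h3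
      · rcases h4 with h4 | h4
        · rw [h3, h4]
        · exfalso
          exact hxy ((τ i).injective (h3.trans h4.symm))
      · rcases h4 with h4 | h4
        · exfalso
          exact hxy ((τ i).injective (h3.trans h4.symm))
        · rw [h3, h4, h.u_symm]
    rw [h5] at h1
    calc a * u H (zl T H) (cv T H) N.e i x y =
        (a * u H (zl T H) (cv T H) N.e i x y * a⁻¹) * a := by group
      _ = _ := by rw [h1]
  · -- a fourth point
    obtain ⟨z, hz0, hzx, hzy⟩ : ∃ z : Fin (2 ^ m + 1), z ≠ 0 ∧ z ≠ x ∧ z ≠ y := by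
      classical
      by_contra hcon
      push Not at hcon
      have h1 : (Finset.univ : Finset (Fin (2 ^ m + 1))) ⊆ {0, x, y} := by
        intro w _
        by_cases hw0 : w = 0
        · simp [hw0]
        by_cases hwx : w = x
        · simp [hwx]
        · have := hcon w hw0 hwx
          simp [this]
      have h2 := Finset.card_le_card h1
      rw [Finset.card_univ, Fintype.card_fin] at h2
      have h3 : ({0, x, y} : Finset (Fin (2 ^ m + 1))).card ≤ 3 := Finset.card_le_three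
      have h4 : 2 ^ 2 ≤ 2 ^ m := Nat.pow_le_pow_right (by norm_num) hm
      omega
    obtain ⟨g, hg, π, hgd, hπ⟩ := cyc_T' c N.toSymK h (by omega) i hx0 hz0
    refine ⟨g, hg, fun hcon => ?_⟩
    have h1 := h.u_conj (hTH hg) hgd.act i x y
    rw [Equiv.Perm.one_apply, Pi.mulSingle_eq_same, hπ] at h1
    have h3 : g * u H (zl T H) (cv T H) N.e i x y * g⁻¹ = u H (zl T H) (cv T H) N.e i x y := by
      rw [hcon]; group
    rw [h3] at h1
    rcases (h.u_inj hxy h1).2 with ⟨h4, -⟩ | ⟨-, h4⟩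
    · exact hzx h4.symm
    · exact hzy h4.symm

end Cfsg.Agent.Omega.NO3S.OneLine
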