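import Cfsg.Agent.Omega.NO3S.OneLine.Step
import Cfsg.Agent.Omega.FFThmM

/-!
# LEMMA UNIQ at every level, abstract part

`X` is an elementary abelian group, `AA` a family of subgroups of `S` which are best offenders on `X`
(`BFam S X L AA`, helper555's structure, #16891; instances: the members of `A(S)`, and the best offenders `bo S X`).

* `BFam.mono` : a family for `X` is a family for every `Y ≤ X`;
* `bo_fam` : the best offenders of `S` on `X`;
* `Blk.off` : an offender `A ≰ O₂(P)` on `V_P` has `S = A O₂(P)`, `|A : A ∩ O₂(P)| = |V : Z|`, `C_V(A) = Z`;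
* `Blk.zc_o2_fam` : (T6) `Ω₁(Z(O₂(P))) = V_P`;
* `Blk.cent_fam` : `C_X(AA) = Z` if `C_Z(P) = 1`.
-/

set_option autoImplicit false
set_option linter.unusedSectionVars false
set_option linter.unusedVariables false

namespace Cfsg.Agent.Omega.NO3S.OneLine

open Subgroup Cfsg Cfsg.Agent.ZN Cfsg.Agent.ZN.ChoiceBase Cfsg.Agent.Omega.MinPar
open Cfsg.Agent.Omega.SQ1.Bau (mem_AA_of_comm zj_le_AA elem_comm elem_sq mem_sup_comm card_sup_comm mem_sup_norm)
open Cfsg.Agent.PLocal.ElemAbSup Cfsg.Agent.PLocal.ThompsonJ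
open Cfsg.Agent.MinSimple.VModule (zc_le zc_le_zl zl_le le_o2 le_normalizer_zl le_normalizer_o2)
open Cfsg.Agent.Omega.FFThm (ElemM)

universe u

variable {G : Type u} [Group G]

/-- `AA` is a family of best offenders of `S` on `U`, closed under conjugation by `L` (helper555 #16891). -/
structure BFam (S U L : Subgroup G) (AA : Set (Subgroup G)) : Prop where
  le : ∀ A ∈ AA, A ≤ S
  elem : ∀ A ∈ AA, ElemM U A
  best : ∀ A ∈ AA, ∀ B : Subgroup G, A ⊓ centralizer (U : Set G) ≤ B → B ≤ A →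
    Nat.card B * Nat.card ↥(U ⊓ centralizer (B : Set G)) ≤ Nat.card A * Nat.card ↥(U ⊓ centralizer (A : Set G))
  cut : ∀ A ∈ AA, ∀ B : Subgroup G, A ⊓ centralizer (U : Set G) ≤ B → B ≤ A →
    Nat.card B * Nat.card ↥(U ⊓ centralizer (B : Set G)) = Nat.card A * Nat.card ↥(U ⊓ centralizer (A : Set G)) →
      ∃ B' ∈ AA, B' ⊔ centralizer (U : Set G) = B ⊔ centralizer (U : Set G)
  conj : ∀ A ∈ AA, ∀ g ∈ L, cj g A ≤ S → cj g A ∈ AA

/-- The best offenders of `S` on `X`. -/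
def bo (S X : Subgroup G) : Set (Subgroup G) :=
  {A | A ≤ S ∧ ElemM X A ∧ ∀ B : Subgroup G, A ⊓ centralizer (X : Set G) ≤ B → B ≤ A →
    Nat.card B * Nat.card ↥(X ⊓ centralizer (B : Set G)) ≤ Nat.card A * Nat.card ↥(X ⊓ centralizer (A : Set G))}

section general

variable [Finite G] {S X Y L A B : Subgroup G} {AA : Set (Subgroup G)}

/-- `|C_Y(B)| |C_X(A)| ≤ |C_X(B)| |C_Y(A)|` for `Y ≤ X`, `B ≤ A`. -/
theorem card_cent_mul (hX : ∀ x ∈ X, ∀ y ∈ X, x * y = y * x) (hYX : Y ≤ X) (hBA : B ≤ A) :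
    Nat.card ↥(Y ⊓ centralizer (B : Set G)) * Nat.card ↥(X ⊓ centralizer (A : Set G)) ≤
      Nat.card ↥(X ⊓ centralizer (B : Set G)) * Nat.card ↥(Y ⊓ centralizer (A : Set G)) := by
  have h1 := card_sup_comm (A := Y ⊓ centralizer (B : Set G)) (B := X ⊓ centralizer (A : Set G))
    fun y hy x hx => hX y (hYX hy.1) x hx.1
  rw [← h1]
  refine Nat.mul_le_mul (Subgroup.card_le_of_le ?_) (Subgroup.card_le_of_le ?_)
  · exact sup_le (inf_le_inf_right _ hYX) (inf_le_inf_left _ (centralizer_le hBA))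
  · rintro x ⟨⟨h2, -⟩, -, h3⟩
    exact ⟨h2, h3⟩

theorem elemM_mono (h : ElemM X A) (hYX : Y ≤ X) (hBA : B ≤ A) : ElemM Y B :=
  ⟨fun a ha => centralizer_le hYX (h.sq a (hBA ha)), fun a ha b hb => centralizer_le hYX (h.comm a (hBA ha) b (hBA hb))⟩

/-- A family for `X` is a family for every `Y ≤ X`. -/
theorem BFam.mono (h : BFam S X L AA) (hX : ∀ x ∈ X, ∀ y ∈ X, x * y = y * x) (hYX : Y ≤ X) {M : Subgroup G}
    (hML : M ≤ L) : BFam S Y M AA where
  le := h.le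
  elem A hA := elemM_mono (h.elem A hA) hYX le_rfl
  best A hA B hAB hBA := by
    have h1 := h.best A hA B ((inf_le_inf_left _ (centralizer_le hYX)).trans hAB) hBA
    have h2 := card_cent_mul hX hYX hBA
    have hp : 0 < Nat.card ↥(X ⊓ centralizer (A : Set G)) := Nat.card_pos
    refine Nat.le_of_mul_le_mul_right ?_ hp
    calc _ = Nat.card B * (Nat.card ↥(Y ⊓ centralizer (B : Set G)) * Nat.card ↥(X ⊓ centralizer (A : Set G))) := by
          ring
      _ ≤ Nat.card B * (Nat.card ↥(X ⊓ centralizer (B : Set G)) * Nat.card ↥(Y ⊓ centralizer (A : Set G))) :=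
          Nat.mul_le_mul_left _ h2
      _ = (Nat.card B * Nat.card ↥(X ⊓ centralizer (B : Set G))) * Nat.card ↥(Y ⊓ centralizer (A : Set G)) := by
          ring
      _ ≤ (Nat.card A * Nat.card ↥(X ⊓ centralizer (A : Set G))) * Nat.card ↥(Y ⊓ centralizer (A : Set G)) :=
          Nat.mul_le_mul_right _ h1
      _ = _ := by ring
  cut A hA B hAB hBA he := by
    have hAB' := (inf_le_inf_left A (centralizer_le hYX)).trans hAB
    have h1 := h.best A hA B hAB' hBA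
    have h2 := card_cent_mul hX hYX hBA
    have hp : 0 < Nat.card ↥(Y ⊓ centralizer (A : Set G)) := Nat.card_pos
    have h3 : Nat.card A * Nat.card ↥(X ⊓ centralizer (A : Set G)) ≤
        Nat.card B * Nat.card ↥(X ⊓ centralizer (B : Set G)) := by
      refine Nat.le_of_mul_le_mul_right ?_ hp
      calc _ = (Nat.card A * Nat.card ↥(Y ⊓ centralizer (A : Set G))) * Nat.card ↥(X ⊓ centralizer (A : Set G)) := by
            ring
        _ = Nat.card B * (Nat.card ↥(Y ⊓ centralizer (B : Set G)) * Nat.card ↥(X ⊓ centralizer (A : Set G))) := by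
            rw [← he]; ring
        _ ≤ Nat.card B * (Nat.card ↥(X ⊓ centralizer (B : Set G)) * Nat.card ↥(Y ⊓ centralizer (A : Set G))) :=
            Nat.mul_le_mul_left _ h2
        _ = _ := by ring
    obtain ⟨B', hB', h4⟩ := h.cut A hA B hAB' hBA (le_antisymm h1 h3)
    refine ⟨B', hB', ?_⟩
    have h5 : centralizer (X : Set G) ≤ centralizer (Y : Set G) := centralizer_le hYX
    have h6 : ∀ C : Subgroup G, C ⊔ centralizer (Y : Set G) = (C ⊔ centralizer (X : Set G)) ⊔ centralizer (Y : Set G) :=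
      fun C => by rw [sup_assoc, sup_eq_right.2 h5]
    rw [h6 B', h6 B, h4]
  conj A hA g hg h1 := h.conj A hA g (hML hg) h1

/-- The members of the family are offenders on every subgroup of `X`. -/
theorem BFam.off (h : BFam S X L AA) (hX : ∀ x ∈ X, ∀ y ∈ X, x * y = y * x) (hYX : Y ≤ X) (hA : A ∈ AA) :
    Nat.card Y * Nat.card ↥(A ⊓ centralizer (Y : Set G)) ≤
      Nat.card A * Nat.card ↥(Y ⊓ centralizer (A : Set G)) := by
  have h1 := (h.mono hX hYX (M := L) le_rfl).best A hA (A ⊓ centralizer (Y : Set G)) le_rfl inf_le_left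
  have h2 : Y ⊓ centralizer ((A ⊓ centralizer (Y : Set G) : Subgroup G) : Set G) = Y := by
    refine inf_eq_left.2 fun y hy => mem_centralizer_iff.2 fun a ha => ?_
    exact (mem_centralizer_iff.1 ha.2 y hy).symm
  rw [h2, mul_comm] at h1
  exact h1

theorem cj_elemM {g : G} (hg : g ∈ normalizer (X : Set G)) (h : ElemM X A) : ElemM X (cj g A) := by
  have hc : ∀ c : G, c ∈ centralizer (X : Set G) → g * c * g⁻¹ ∈ centralizer (X : Set G) := by
    intro c hc
    have h1 : cj g (centralizer (X : Set G)) = centralizer (X : Set G) := by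
      rw [cj_centralizer, cj_eq_of_mem_normalizer hg]
    rw [← h1, mem_cj]
    have e : g⁻¹ * (g * c * g⁻¹) * g = c := by group
    rwa [e]
  constructor
  · intro a ha
    rw [mem_cj] at ha
    have h1 := hc _ (h.sq _ ha)
    have e : g * (g⁻¹ * a * g) ^ 2 * g⁻¹ = a ^ 2 := by rw [pow_two, pow_two]; group
    rwa [e] at h1
  · intro a ha b hb
    rw [mem_cj] at ha hb
    have h1 := hc _ (h.comm _ ha _ hb)
    have e : g * (g⁻¹ * a * g * (g⁻¹ * b * g) * (g⁻¹ * a * g)⁻¹ * (g⁻¹ * b * g)⁻¹) * g⁻¹ =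
        a * b * a⁻¹ * b⁻¹ := by group
    rwa [e] at h1

/-- The best offenders form a family. -/
theorem bo_fam (S X : Subgroup G) : BFam S X (normalizer (X : Set G)) (bo S X) where
  le A hA := hA.1
  elem A hA := hA.2.1
  best A hA := hA.2.2
  cut A hA B hAB hBA he := by
    refine ⟨B, ⟨hBA.trans hA.1, elemM_mono hA.2.1 le_rfl hBA, fun C hC hCB => ?_⟩, rfl⟩
    rw [he]
    exact hA.2.2 C ((le_inf hAB inf_le_right).trans hC) (hCB.trans hBA)
  conj A hA g hg hle := by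
    refine ⟨hle, cj_elemM hg hA.2.1, fun B hB hBA => ?_⟩
    have hgi := inv_mem hg
    have h1 : cj g⁻¹ (centralizer (X : Set G)) = centralizer (X : Set G) := by
      rw [cj_centralizer, cj_eq_of_mem_normalizer hgi]
    have h2 := hA.2.2 (cj g⁻¹ B) ?_ ?_
    · have h3 : ∀ C : Subgroup G, Nat.card ↥(X ⊓ centralizer (cj g⁻¹ C : Set G)) =
          Nat.card ↥(X ⊓ centralizer (C : Set G)) := by
        intro C
        have e : X ⊓ centralizer (cj g⁻¹ C : Set G) = cj g⁻¹ (X ⊓ centralizer (C : Set G)) := by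
          rw [cj_inf, cj_centralizer, cj_eq_of_mem_normalizer hgi]
        rw [e, card_cj]
      have h4 := h3 (cj g A)
      rw [cj_inv_cj] at h4
      rw [card_cj, h3] at h2
      rw [card_cj, ← h4]
      exact h2
    · have h3 := cj_mono g⁻¹ hB
      rwa [cj_inf, h1, cj_inv_cj] at h3
    · have h3 := cj_mono g⁻¹ hBA
      rwa [cj_inv_cj] at h3

end general

section blk

variable [Finite G] {S : Sylow 2 G} {P : Subgroup G}

namespace Blk

variable (hG : IsCharacteristicTwoType G) (h : Blk (S : Subgroup G) P)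
include hG h

omit hG in
/-- `C_V(A) = Z` for `A ≤ S`, `A ≰ O₂(P)` -/
theorem cent_eq {A : Subgroup G} (hA : A ≤ (S : Subgroup G)) (hAQ : ¬ A ≤ o2 P) :
    zl (S : Subgroup G) P ⊓ centralizer (A : Set G) = zc (S : Subgroup G) := by
  apply le_antisymm
  · rintro v ⟨hvV, hvA⟩
    obtain ⟨a, ha, haQ⟩ := SetLike.not_le_iff_exists.1 hAQ
    exact h.fix a (hA ha) haQ v hvV (mem_centralizer_iff.1 hvA a ha)
  · exact le_inf (zc_le_zl _ _) fun z hz => mem_centralizer_iff.2 fun a ha => (mem_zc.1 hz).2.2 a (hA ha)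

theorem inf_cent {A : Subgroup G} (hA : A ≤ (S : Subgroup G)) :
    A ⊓ centralizer (zl (S : Subgroup G) P : Set G) = A ⊓ o2 P := by
  rw [← IsParS.inf_centralizer S hG h.star, ← inf_assoc, inf_eq_left.2 hA]

/-- An offender `A ≤ S` on `V`, `A ≰ O₂(P)`: `|A| = |A ∩ Q| |S : Q|` -/
theorem off_card {A : Subgroup G} (hA : A ≤ (S : Subgroup G)) (hAQ : ¬ A ≤ o2 P)
    (ho : Nat.card (zl (S : Subgroup G) P) * Nat.card ↥(A ⊓ centralizer (zl (S : Subgroup G) P : Set G)) ≤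
      Nat.card A * Nat.card ↥(zl (S : Subgroup G) P ⊓ centralizer (A : Set G))) :
    Nat.card A = Nat.card ↥(A ⊓ o2 P) * (o2 P).relIndex (S : Subgroup G) := by
  refine le_antisymm (card_le h hA) ?_
  rw [inf_cent hG h hA, cent_eq h hA hAQ, h.card] at ho
  have hp : 0 < Nat.card (zc (S : Subgroup G)) := Nat.card_pos
  refine Nat.le_of_mul_le_mul_right ?_ hp
  calc _ = Nat.card (zc (S : Subgroup G)) * (o2 P).relIndex (S : Subgroup G) * Nat.card ↥(A ⊓ o2 P) := by ring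
    _ ≤ _ := ho

omit hG in
/-- `S = A Q` -/
theorem off_sup {A : Subgroup G} (hA : A ≤ (S : Subgroup G))
    (hc : Nat.card A = Nat.card ↥(A ⊓ o2 P) * (o2 P).relIndex (S : Subgroup G)) :
    A ⊔ o2 P = (S : Subgroup G) := by
  have hle := sup_le hA (o2_le S h.star.toIsPar)
  refine Subgroup.eq_of_le_of_card_ge hle ?_
  have h1 := card_sup_norm (H := A) (N := o2 P) (hA.trans h.S_norm)
  have h3 := card_mul_relIndex (o2_le S h.star.toIsPar)
  rw [hc] at h1
  have hp : 0 < Nat.card ↥(A ⊓ o2 P) := Nat.card_pos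
  have e : Nat.card ↥(A ⊔ o2 P) * Nat.card ↥(A ⊓ o2 P) = Nat.card (S : Subgroup G) * Nat.card ↥(A ⊓ o2 P) := by
    rw [h1, ← h3]; ring
  exact (Nat.eq_of_mul_eq_mul_right hp e).ge

variable {X L : Subgroup G} {AA : Set (Subgroup G)} (hB : BFam (S : Subgroup G) X L AA)
  (hX : ∀ x ∈ X, ∀ y ∈ X, x * y = y * x)
include hB hX

theorem fam_card (hVX : zl (S : Subgroup G) P ≤ X) {A : Subgroup G} (hA : A ∈ AA) (hAQ : ¬ A ≤ o2 P) :
    Nat.card A = Nat.card ↥(A ⊓ o2 P) * (o2 P).relIndex (S : Subgroup G) :=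
  off_card hG h (hB.le A hA) hAQ (hB.off hX hVX hA)

theorem fam_sup (hVX : zl (S : Subgroup G) P ≤ X) {A : Subgroup G} (hA : A ∈ AA) (hAQ : ¬ A ≤ o2 P) :
    A ⊔ o2 P = (S : Subgroup G) := off_sup h (hB.le A hA) (fam_card hG h hB hX hVX hA hAQ)

/-- (T6) `Ω₁(Z(Q)) = V`. -/
theorem zc_o2_fam (hQX : zc (o2 P) ≤ X) {A : Subgroup G} (hA : A ∈ AA) (hAQ : ¬ A ≤ o2 P) :
    zc (o2 P) = zl (S : Subgroup G) P := by
  symm
  have hVX := (zl_le_zc hG h).trans hQX
  have hAS := hB.le A hA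
  refine Subgroup.eq_of_le_of_card_ge (zl_le_zc hG h) ?_
  have hQS := o2_le S h.star.toIsPar
  -- `C_Y(A) ≤ Z`
  have h1 : zc (o2 P) ⊓ centralizer (A : Set G) ≤ zc (S : Subgroup G) := by
    rintro y ⟨hyY, hyA⟩
    refine mem_zc.2 ⟨hQS (mem_zc.1 hyY).1, (mem_zc.1 hyY).2.1, fun s hs => ?_⟩
    rw [← fam_sup hG h hB hX hVX hA hAQ] at hs
    obtain ⟨a, ha, x, hx, rfl⟩ := mem_sup_norm (hAS.trans h.S_norm) hs
    have e1 := mem_centralizer_iff.1 hyA a ha
    have e2 := (mem_zc.1 hyY).2.2 x hx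
    calc a * x * y = a * (x * y) := mul_assoc _ _ _
      _ = (a * y) * x := by rw [e2, mul_assoc]
      _ = y * (a * x) := by rw [e1, mul_assoc]
  have h2 : A ⊓ o2 P ≤ A ⊓ centralizer (zc (o2 P) : Set G) :=
    inf_le_inf_left _ fun x hx => mem_centralizer_iff.2 fun y hy => ((mem_zc.1 hy).2.2 x hx).symm
  have h3 := hB.off hX hQX hA
  have h4 := fam_card hG h hB hX hVX hA hAQ
  rw [h.card]
  have hp : 0 < Nat.card ↥(A ⊓ o2 P) := Nat.card_pos
  refine Nat.le_of_mul_le_mul_right ?_ hp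
  calc Nat.card (zc (o2 P)) * Nat.card ↥(A ⊓ o2 P)
      ≤ Nat.card (zc (o2 P)) * Nat.card ↥(A ⊓ centralizer (zc (o2 P) : Set G)) :=
        Nat.mul_le_mul_left _ (Subgroup.card_le_of_le h2)
    _ ≤ Nat.card A * Nat.card ↥(zc (o2 P) ⊓ centralizer (A : Set G)) := h3
    _ ≤ Nat.card A * Nat.card (zc (S : Subgroup G)) := Nat.mul_le_mul_left _ (Subgroup.card_le_of_le h1)
    _ = _ := by rw [h4]; ring

/-- `|A ∩ Q| |C_X(A ∩ Q)| = |A| |C_X(A)|` and `C_X(A ∩ Q) = V C_X(A)`. -/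
theorem fam_cut (hVX : zl (S : Subgroup G) P ≤ X) {A : Subgroup G} (hA : A ∈ AA) (hAQ : ¬ A ≤ o2 P) :
    Nat.card ↥(A ⊓ o2 P) * Nat.card ↥(X ⊓ centralizer ((A ⊓ o2 P : Subgroup G) : Set G)) =
        Nat.card A * Nat.card ↥(X ⊓ centralizer (A : Set G)) ∧
      zl (S : Subgroup G) P ⊔ (X ⊓ centralizer (A : Set G)) =
        X ⊓ centralizer ((A ⊓ o2 P : Subgroup G) : Set G) := by
  have hAS := hB.le A hA
  have hc := fam_card hG h hB hX hVX hA hAQ
  have hle : zl (S : Subgroup G) P ⊔ (X ⊓ centralizer (A : Set G)) ≤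
      X ⊓ centralizer ((A ⊓ o2 P : Subgroup G) : Set G) := by
    refine sup_le (le_inf hVX fun v hv => mem_centralizer_iff.2 fun a ha => comm_o2 hG h a ha.2 v hv) ?_
    exact inf_le_inf_left _ (centralizer_le inf_le_left)
  have h1 := card_sup_comm (A := zl (S : Subgroup G) P) (B := X ⊓ centralizer (A : Set G))
    fun v hv x hx => hX v (hVX hv) x hx.1
  have h2 : zl (S : Subgroup G) P ⊓ (X ⊓ centralizer (A : Set G)) = zc (S : Subgroup G) := by
    rw [← cent_eq h hAS hAQ, ← inf_assoc, inf_eq_left.2 hVX]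
  rw [h2, h.card] at h1
  have hp : 0 < Nat.card (zc (S : Subgroup G)) := Nat.card_pos
  have h3 : Nat.card ↥(zl (S : Subgroup G) P ⊔ (X ⊓ centralizer (A : Set G))) =
      (o2 P).relIndex (S : Subgroup G) * Nat.card ↥(X ⊓ centralizer (A : Set G)) := by
    refine Nat.eq_of_mul_eq_mul_right hp ?_
    rw [h1]; ring
  have h4 : Nat.card ↥(A ⊓ o2 P) * Nat.card ↥(X ⊓ centralizer ((A ⊓ o2 P : Subgroup G) : Set G)) ≤
      Nat.card A * Nat.card ↥(X ⊓ centralizer (A : Set G)) := by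
    refine hB.best A hA _ ?_ inf_le_left
    rw [← inf_cent hG h hAS]
    exact inf_le_inf_left _ (centralizer_le hVX)
  have h5 := Nat.mul_le_mul_left (Nat.card ↥(A ⊓ o2 P)) (Subgroup.card_le_of_le hle)
  have h6 : Nat.card ↥(A ⊓ o2 P) * Nat.card ↥(zl (S : Subgroup G) P ⊔ (X ⊓ centralizer (A : Set G))) =
      Nat.card A * Nat.card ↥(X ⊓ centralizer (A : Set G)) := by
    rw [h3, hc]; ring
  have h7 := le_antisymm h4 (h6 ▸ h5)
  refine ⟨h7, Subgroup.eq_of_le_of_card_ge hle ?_⟩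
  have hp' : 0 < Nat.card ↥(A ⊓ o2 P) := Nat.card_pos
  exact Nat.le_of_mul_le_mul_left (h7.trans h6.symm).le hp'

end Blk

theorem mem_cent_sSup {AA : Set (Subgroup G)} {y : G} :
    y ∈ centralizer ((sSup AA : Subgroup G) : Set G) ↔ ∀ B ∈ AA, ∀ b ∈ B, b * y = y * b := by
  constructor
  · intro h B hB b hb
    exact mem_centralizer_iff.1 h b (le_sSup hB hb)
  · intro h
    have h1 : sSup AA ≤ centralizer {y} := sSup_le fun B hB b hb => by
      rw [mem_centralizer_singleton_iff]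
      exact h B hB b hb
    exact mem_centralizer_iff.2 fun b hb => mem_centralizer_singleton_iff.1 (h1 hb)

/-- **`C_X(AA) = Z`.** -/
theorem Blk.cent_fam (hG : IsCharacteristicTwoType G) (h : Blk (S : Subgroup G) P) {X L : Subgroup G}
    {AA : Set (Subgroup G)} (hB : BFam (S : Subgroup G) X L AA) (hX : IsElementaryAbelian 2 X)
    (hXS : X ≤ (S : Subgroup G)) (hPX : P ≤ normalizer (X : Set G)) (hPL : P ≤ L) (hQX : zc (o2 P) ≤ X)
    (hcen : zc (S : Subgroup G) ⊓ centralizer (P : Set G) = ⊥) {A : Subgroup G} (hA : A ∈ AA) (hAQ : ¬ A ≤ o2 P) :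
    X ⊓ centralizer ((sSup AA : Subgroup G) : Set G) = zc (S : Subgroup G) := by
  have hXc : ∀ x ∈ X, ∀ y ∈ X, x * y = y * x := elem_comm hX
  have hVX := (Blk.zl_le_zc hG h).trans hQX
  have hQS := o2_le S h.star.toIsPar
  have hSP : (S : Subgroup G) ≤ P := h.star.le
  have hPV : P ≤ normalizer (zl (S : Subgroup G) P : Set G) := le_normalizer_zl _ _
  set Z := zc (S : Subgroup G) with hZ
  set V := zl (S : Subgroup G) P with hV
  have hsup : sSup AA ≤ (S : Subgroup G) := sSup_le hB.le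
  refine le_antisymm ?_ (le_inf (((zc_le_zl _ _).trans hVX)) fun z hz => mem_centralizer_iff.2 fun a ha =>
    (mem_zc.1 hz).2.2 a (hsup ha))
  by_contra hne
  -- `S` normalises `C_X(AA)`
  have hSn : (S : Subgroup G) ≤
      normalizer ((X ⊓ centralizer ((sSup AA : Subgroup G) : Set G) : Subgroup G) : Set G) := by
    intro s hs
    apply mem_normalizer_of_cj_le
    rw [cj_inf, cj_eq_of_mem_normalizer (hPX (hSP hs))]
    refine inf_le_inf_left _ ?_
    intro y hy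
    rw [mem_cj, mem_cent_sSup] at hy
    rw [mem_cent_sSup]
    intro B hB' b hb
    have h1 : cj s⁻¹ B ≤ (S : Subgroup G) := by
      have h2 := cj_mono s⁻¹ (hB.le B hB')
      rwa [cj_eq_of_mem_normalizer (le_normalizer (inv_mem hs) : s⁻¹ ∈ normalizer ((S : Subgroup G) : Set G))] at h2
    have h2 := hB.conj B hB' s⁻¹ (hPL (hSP (inv_mem hs))) h1
    have h3 := hy _ h2 (s⁻¹ * b * s) (by rw [mem_cj]; have e : s⁻¹⁻¹ * (s⁻¹ * b * s) * s⁻¹ = b := by group
                                         rwa [e])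
    calc b * y = s * ((s⁻¹ * b * s) * (s⁻¹ * y * s)) * s⁻¹ := by group
      _ = s * ((s⁻¹ * y * s) * (s⁻¹ * b * s)) * s⁻¹ := by rw [h3]
      _ = y * b := by group
  obtain ⟨y, ⟨hyX, hyA⟩, hyZ, hyS⟩ := exists_fixed (M := Z) S.isPGroup' (inf_le_left.trans hXS) hSn hne
  replace hyA := mem_cent_sSup.1 hyA
  -- `Y`, normalised by `P`
  let Y : Subgroup G := X ⊓ centralizer ((sSup {B | B ∈ AA ∧ B ≤ o2 P} : Subgroup G) : Set G)
  have hPY : P ≤ normalizer (Y : Set G) := by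
    intro p hp
    apply mem_normalizer_of_cj_le
    rw [cj_inf, cj_eq_of_mem_normalizer (hPX hp)]
    refine inf_le_inf_left _ ?_
    intro x hx
    rw [mem_cj, mem_cent_sSup] at hx
    rw [mem_cent_sSup]
    rintro B ⟨hB', hBQ⟩ b hb
    have h0 : cj p⁻¹ B ≤ o2 P := by
      have h2 := cj_mono p⁻¹ hBQ
      rwa [cj_eq_of_mem_normalizer (le_normalizer_o2 P (inv_mem hp))] at h2
    have h2 := hB.conj B hB' p⁻¹ (hPL (inv_mem hp)) (h0.trans hQS)
    have h3 := hx _ ⟨h2, h0⟩ (p⁻¹ * b * p) (by rw [mem_cj]; have e : p⁻¹⁻¹ * (p⁻¹ * b * p) * p⁻¹ = b := by group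
                                               rwa [e])
    calc b * x = p * ((p⁻¹ * b * p) * (p⁻¹ * x * p)) * p⁻¹ := by group
      _ = p * ((p⁻¹ * x * p) * (p⁻¹ * b * p)) * p⁻¹ := by rw [h3]
      _ = x * b := by group
  have hyY : y ∈ Y := ⟨hyX, mem_cent_sSup.2 fun B hB' => hyA B hB'.1⟩
  -- `Y ≤ V C_X(A)`
  have hYle : Y ≤ V ⊔ (X ⊓ centralizer (A : Set G)) := by
    obtain ⟨h1, h2⟩ := Blk.fam_cut hG h hB hXc hVX hA hAQ
    obtain ⟨B', hB', h3⟩ := hB.cut A hA (A ⊓ o2 P) (by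
      rw [← Blk.inf_cent hG h (hB.le A hA)]
      exact inf_le_inf_left _ (centralizer_le hVX)) inf_le_left h1
    rw [h2]
    have hB'Q : B' ≤ o2 P := by
      intro b hb
      have h4 : b ∈ (A ⊓ o2 P) ⊔ centralizer (X : Set G) := h3 ▸ mem_sup_left hb
      have h5 : A ⊓ o2 P ≤ normalizer (centralizer (X : Set G) : Set G) := by
        intro a ha
        apply mem_normalizer_of_cj_le
        rw [cj_centralizer, cj_eq_of_mem_normalizer (hPX (hSP (hB.le A hA ha.1)))]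
      obtain ⟨a, ha, c, hc, rfl⟩ := mem_sup_norm h5 h4
      refine mul_mem ha.2 ?_
      have h6 : c ∈ (S : Subgroup G) := by
        have := mul_mem (inv_mem (hB.le A hA ha.1)) (hB.le B' hB' hb)
        rwa [inv_mul_cancel_left] at this
      rw [← IsParS.inf_centralizer S hG h.star]
      exact ⟨h6, centralizer_le hVX hc⟩
    refine fun x hx => ⟨hx.1, mem_centralizer_iff.2 fun a ha => ?_⟩
    have h4 : a ∈ B' ⊔ centralizer (X : Set G) := by rw [h3]; exact mem_sup_left ha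
    have h5 : B' ⊔ centralizer (X : Set G) ≤ centralizer {x} := by
      refine sup_le (fun b hb => ?_) (fun c hc => ?_)
      · rw [mem_centralizer_singleton_iff]
        exact mem_cent_sSup.1 hx.2 B' ⟨hB', hB'Q⟩ b hb
      · rw [mem_centralizer_singleton_iff]
        exact (mem_centralizer_iff.1 hc x hx.1).symm
    exact mem_centralizer_singleton_iff.1 (h5 h4)
  -- `[Y, A] ≤ V`
  let N : Subgroup G :=
    { carrier := {g | g ∈ P ∧ ∀ u ∈ Y, g * u * g⁻¹ * u⁻¹ ∈ V}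
      mul_mem' := by
        rintro a b ⟨ha, ha'⟩ ⟨hb, hb'⟩
        refine ⟨mul_mem ha hb, fun y hy => ?_⟩
        have e : a * b * y * (a * b)⁻¹ * y⁻¹ =
          (a * (b * y * b⁻¹ * y⁻¹) * a⁻¹) * (a * y * a⁻¹ * y⁻¹) := by group
        rw [e]
        exact mul_mem (conj_mem hPV ha (hb' y hy)) (ha' y hy)
      one_mem' := ⟨one_mem _, fun y _ => by simp⟩
      inv_mem' := by
        rintro a ⟨ha, ha'⟩
        refine ⟨inv_mem ha, fun y hy => ?_⟩
        have e : a⁻¹ * y * a⁻¹⁻¹ * y⁻¹ = a⁻¹ * (a * y * a⁻¹ * y⁻¹)⁻¹ * a⁻¹⁻¹ := by group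
        rw [e]
        exact conj_mem hPV (inv_mem ha) (inv_mem (ha' y hy)) }
  have hNP : N ≤ P := fun g hg => hg.1
  have hPN : P ≤ normalizer (N : Set G) := by
    intro p hp
    apply mem_normalizer_of_cj_le
    intro x hx
    rw [mem_cj] at hx
    obtain ⟨hx1, hx2⟩ := hx
    refine ⟨?_, fun u hu => ?_⟩
    · have := mul_mem (mul_mem hp hx1) (inv_mem hp)
      have e : p * (p⁻¹ * x * p) * p⁻¹ = x := by group
      rwa [e] at this
    · have h1 : p⁻¹ * u * p ∈ Y := by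
        have := conj_mem hPY (inv_mem hp) hu
        rwa [inv_inv] at this
      have h2 := conj_mem hPV hp (hx2 _ h1)
      have e : p * (p⁻¹ * x * p * (p⁻¹ * u * p) * (p⁻¹ * x * p)⁻¹ * (p⁻¹ * u * p)⁻¹) * p⁻¹ =
          x * u * x⁻¹ * u⁻¹ := by group
      rwa [e] at h2
  have hAN : A ≤ N := by
    intro a ha
    have haS := hB.le A hA ha
    refine ⟨hSP haS, fun u hu => ?_⟩
    obtain ⟨v, hv, w, hw, rfl⟩ := mem_sup_comm (A := V) (B := X ⊓ centralizer (A : Set G))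
      (fun v hv a ha => hXc v (hVX hv) a ha.1) (hYle hu)
    have e1 : a * w = w * a := mem_centralizer_iff.1 hw.2 a ha
    have e2 : a * (v * w) * a⁻¹ * (v * w)⁻¹ = a * v * a⁻¹ * v⁻¹ := by
      have e3 : a * (v * w) * a⁻¹ * (v * w)⁻¹ = a * v * (w * a⁻¹ * w⁻¹) * v⁻¹ := by group
      have e4 : w * a⁻¹ * w⁻¹ = a⁻¹ := by
        have : w * a⁻¹ = a⁻¹ * w := by
          calc w * a⁻¹ = a⁻¹ * (a * w) * a⁻¹ := by group
            _ = a⁻¹ * w := by rw [e1]; group
        rw [this]; group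
      rw [e3, e4]
    rw [e2]
    exact mul_mem (conj_mem hPV (hSP haS) hv) (inv_mem hv)
  have hNS : N ⊔ (S : Subgroup G) = P := by
    rcases h.star.toIsPar.sup_eq_or_inf_le S hNP hPN with h1 | h1
    · exact h1
    · exact absurd ((le_inf (hB.le A hA) hAN).trans h1) hAQ
  -- `P` normalises `V y`
  let M : Subgroup G :=
    { carrier := {g | g ∈ P ∧ g * y * g⁻¹ * y⁻¹ ∈ V}
      mul_mem' := by
        rintro a b ⟨ha, ha'⟩ ⟨hb, hb'⟩
        refine ⟨mul_mem ha hb, ?_⟩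
        have e : a * b * y * (a * b)⁻¹ * y⁻¹ =
          (a * (b * y * b⁻¹ * y⁻¹) * a⁻¹) * (a * y * a⁻¹ * y⁻¹) := by group
        rw [e]
        exact mul_mem (conj_mem hPV ha hb') ha'
      one_mem' := ⟨one_mem _, by simp⟩
      inv_mem' := by
        rintro a ⟨ha, ha'⟩
        refine ⟨inv_mem ha, ?_⟩
        have e : a⁻¹ * y * a⁻¹⁻¹ * y⁻¹ = a⁻¹ * (a * y * a⁻¹ * y⁻¹)⁻¹ * a⁻¹⁻¹ := by group
        rw [e]
        exact conj_mem hPV (inv_mem ha) (inv_mem ha') }
  have hPM : P ≤ M := by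
    rw [← hNS]
    exact sup_le (fun g hg => ⟨hg.1, hg.2 y hyY⟩) fun s hs => ⟨hSP hs, zc_le_zl _ _ (hyS s hs)⟩
  -- `E = [y, Q]`
  have hyS' : y ∈ (S : Subgroup G) := hXS hyX
  let E : Subgroup G := closure {x | ∃ t ∈ o2 P, x = t * y * t⁻¹ * y⁻¹}
  have hEZ : E ≤ Z := by
    rw [closure_le]
    rintro x ⟨t, ht, rfl⟩
    exact hyS t (hQS ht)
  have hPE : P ≤ normalizer (E : Set G) := by
    intro p hp
    apply mem_normalizer_of_cj_le
    rw [cj, MonoidHom.map_closure, closure_le]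
    rintro _ ⟨x, ⟨t, ht, rfl⟩, rfl⟩
    refine subset_closure ⟨p * t * p⁻¹, conj_mem (le_normalizer_o2 P) hp ht, ?_⟩
    have ht' := conj_mem (le_normalizer_o2 P) hp ht
    set t' := p * t * p⁻¹ with ht'd
    obtain ⟨-, h1⟩ := hPM hp
    set v := p * y * p⁻¹ * y⁻¹ with hv
    have h2 : t' * v = v * t' := Blk.comm_o2 hG h t' ht' v h1
    have h3 : t' * y * t'⁻¹ * y⁻¹ ∈ Z := hyS t' (hQS ht')
    have h4 : v * (t' * y * t'⁻¹ * y⁻¹) = t' * y * t'⁻¹ * y⁻¹ * v :=
      (mem_zc.1 h3).2.2 v (hXS (hVX h1))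
    simp only [MulEquiv.toMonoidHom_eq_coe, MonoidHom.coe_coe, MulAut.conj_apply]
    have e1 : p * (t * y * t⁻¹ * y⁻¹) * p⁻¹ = t' * (v * y) * t'⁻¹ * (v * y)⁻¹ := by
      rw [ht'd, hv]; group
    rw [e1]
    have e2 : t' * (v * y) * t'⁻¹ * (v * y)⁻¹ = (t' * v) * y * t'⁻¹ * y⁻¹ * v⁻¹ := by group
    rw [e2, h2]
    calc v * t' * y * t'⁻¹ * y⁻¹ * v⁻¹ = v * (t' * y * t'⁻¹ * y⁻¹) * v⁻¹ := by group
      _ = t' * y * t'⁻¹ * y⁻¹ := by rw [h4]; group
  have hEc := le_centralizer_of_le_zc h.star.toIsPar hEZ hPE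
  have hE1 : ∀ t ∈ o2 P, t * y = y * t := by
    intro t ht
    have h1 : t * y * t⁻¹ * y⁻¹ ∈ E := subset_closure ⟨t, ht, rfl⟩
    have h2 : t * y * t⁻¹ * y⁻¹ ∈ Z ⊓ centralizer (P : Set G) :=
      ⟨hEZ h1, mem_centralizer_iff.2 fun p hp => (mem_centralizer_iff.1 (hEc hp) _ h1).symm⟩
    rw [hcen, mem_bot] at h2
    have h3 := mul_inv_eq_one.1 h2
    calc t * y = t * y * t⁻¹ * t := by group
      _ = y * t := by rw [h3]
  have hyQ : y ∈ o2 P := h.star.isLoc.char2 S hG ⟨hSP hyS', mem_centralizer_iff.2 hE1⟩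
  have hyV : y ∈ V := by
    rw [hV, ← Blk.zc_o2_fam hG h hB hXc hQX hA hAQ]
    exact mem_zc.2 ⟨hyQ, elem_sq hX y hyX, hE1⟩
  apply hyZ
  rw [hZ, ← Blk.cent_eq h (hB.le A hA) hAQ]
  exact ⟨hyV, mem_centralizer_iff.2 fun a ha => hyA A hA a ha⟩

end blk

end Cfsg.Agent.Omega.NO3S.OneLine
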