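import Cfsg.Agent.Omega.VP
import Cfsg.Agent.Omega.SQ1.Bau

/-!
# LEMMA OL (one line), abstract part

`S` a Sylow 2-subgroup of `G`, `Z = Ω₁(Z(S)) = zc S`, `V_P = zl S P`.

* `Blk S P` : `P ∈ P*(S)`, `C_V(a) = Z` for all `a ∈ S - O₂(P)`, `[V, S] ≤ Z`, `|V : Z| = |S : O₂(P)|` (the shape of
  a natural `SL₂(q)`-module, modulo `C_Z(P)`);
* `Blk.replace` : `A ∈ A(S)`, `A ≰ O₂(P)`: `(A ∩ O₂(P))V ∈ A(S)`, `|A : A ∩ O₂(P)| = |S : O₂(P)|`;
* `Blk.zc_o2` : `Ω₁(Z(O₂(P))) = V` if `J(S) ≰ O₂(P)`;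
* `Blk.zj_eq` : `Ω₁(Z(J(S))) = Z` if moreover `Z ∩ Z^x = 1` for some `x ∈ P` and `|V| = |Z|²`;
* `one_line` (file `Step.lean`) : then every `P' ∈ P*(S)` which satisfies `Blk` and `|V_{P'}| ≤ |Z|²` has `V_{P'} = V_P`, provided that
  there is no mutual pair.
-/

set_option autoImplicit false
set_option linter.unusedSectionVars false
set_option linter.unusedVariables false

namespace Cfsg.Agent.Omega.NO3S.OneLine

open Subgroup Cfsg Cfsg.Agent.ZN Cfsg.Agent.ZN.ChoiceBase Cfsg.Agent.Omega.MinPar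
open Cfsg.Agent.Omega.SQ1.Bau (mem_AA_of_comm zj_le_AA elem_comm elem_sq mem_sup_comm card_sup_comm mem_sup_norm)
open Cfsg.Agent.PLocal.ElemAbSup Cfsg.Agent.PLocal.ThompsonJ
open Cfsg.Agent.MinSimple.VModule (zc_le zc_le_zl zl_le le_o2 le_normalizer_zl)

universe u

variable {G : Type u} [Group G]

/-- `V_P` has the shape of a natural module (modulo `C_Z(P)`). -/
structure Blk (S P : Subgroup G) : Prop where
  star : IsParS S P
  fix : ∀ a ∈ S, a ∉ o2 P → ∀ v ∈ zl S P, a * v = v * a → v ∈ zc S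
  comm : ∀ a ∈ S, ∀ v ∈ zl S P, a * v * a⁻¹ * v⁻¹ ∈ zc S
  card : Nat.card (zl S P) = Nat.card (zc S) * (o2 P).relIndex S

section general

theorem card_mul_relIndex {H K : Subgroup G} (h : H ≤ K) : Nat.card H * H.relIndex K = Nat.card K := by
  rw [← Nat.card_congr (Subgroup.subgroupOfEquivOfLe h).toEquiv, relIndex, Subgroup.card_mul_index]

theorem card_sup_norm {H N : Subgroup G} (h : H ≤ normalizer (N : Set G)) :
    Nat.card ↥(H ⊔ N) * Nat.card ↥(H ⊓ N) = Nat.card H * Nat.card N := by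
  rw [← Cfsg.Agent.Lib.ProductSet.card_mul_card_inf H N]
  congr 1
  exact Nat.card_congr (Equiv.setCongr (Subgroup.coe_mul_of_left_le_normalizer_right H N h))

theorem conj_mem {P V : Subgroup G} (h : P ≤ normalizer (V : Set G)) {g v : G} (hg : g ∈ P) (hv : v ∈ V) :
    g * v * g⁻¹ ∈ V := (mem_normalizer_iff.1 (h hg) v).1 hv

/-- `[N, S, ..., S]` -/
def ser (S N : Subgroup G) : ℕ → Subgroup G
  | 0 => N
  | n + 1 => ⁅S, ser S N n⁆

/-- A nontrivial step in a normal series of a 2-group: `M < N` normal in `S`, some `y ∈ N - M` has `[y, S] ≤ M`. -/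
theorem exists_fixed [Finite G] {S M N : Subgroup G} (hS : IsPGroup 2 S) (hNS : N ≤ S)
    (hN : S ≤ normalizer (N : Set G)) (hne : ¬ N ≤ M) :
    ∃ y ∈ N, y ∉ M ∧ ∀ s ∈ S, s * y * s⁻¹ * y⁻¹ ∈ M := by
  -- the last term of the series `[N, S, ..., S]` not in `M`
  obtain ⟨f, hf⟩ : ∃ f, f = ser S N := ⟨_, rfl⟩
  have hf0 : f 0 = N := by rw [hf]; rfl
  have hfs : ∀ n, f (n + 1) = ⁅S, f n⁆ := fun n => by rw [hf]; rfl
  have hfn : ∀ n, f n ≤ N ∧ S ≤ normalizer ((f n : Subgroup G) : Set G) := by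
    intro n
    induction n with
    | zero => rw [hf0]; exact ⟨le_rfl, hN⟩
    | succ n ih =>
      have h1 : ⁅S, f n⁆ ≤ f n := by
        rw [commutator_le]
        intro s hs x hx
        rw [commutatorElement_def]
        exact mul_mem (conj_mem ih.2 hs hx) (inv_mem hx)
      refine ⟨(hfs n ▸ h1).trans ih.1, ?_⟩
      rw [hfs]
      intro s hs
      apply mem_normalizer_of_cj_le
      rw [cj, map_commutator]
      refine commutator_mono ?_ ?_
      · exact (cj_eq_of_mem_normalizer (le_normalizer hs)).le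
      · exact (cj_eq_of_mem_normalizer (ih.2 hs)).le
  have hlow : ∀ n, f n ≤ S.lowerCentralSeries n := by
    intro n
    induction n with
    | zero => rw [hf0]; exact hNS
    | succ n ih =>
      rw [hfs, Subgroup.lowerCentralSeries_succ, commutator_comm]
      exact commutator_mono ih le_rfl
  obtain ⟨k, hk⟩ := (Subgroup.isNilpotent_iff_lowerCentralSeries S).1 hS.isNilpotent
  have hbot : f k ≤ M := by
    refine (hlow k).trans ?_
    rw [hk]
    exact bot_le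
  -- the first index with `f n ≤ M`
  classical
  have hex : ∃ n, f n ≤ M := ⟨k, hbot⟩
  obtain ⟨m, hm⟩ : ∃ m, Nat.find hex = m + 1 := by
    refine Nat.exists_eq_succ_of_ne_zero fun h0 => ?_
    have h1 := Nat.find_spec hex
    rw [h0, hf0] at h1
    exact hne h1
  have h1 : ¬ f m ≤ M := Nat.find_min hex (by omega)
  have h2 : f (m + 1) ≤ M := hm ▸ Nat.find_spec hex
  obtain ⟨y, hy, hyM⟩ := SetLike.not_le_iff_exists.1 h1
  refine ⟨y, (hfn m).1 hy, hyM, fun s hs => ?_⟩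
  apply h2
  rw [hfs]
  exact commutator_mem_commutator hs hy

end general

section blk

variable [Finite G] {S : Sylow 2 G} {P : Subgroup G}

theorem zc_le_AA {T A : Subgroup G} (hA : A ∈ AA T) : zc T ≤ A := fun _ hz =>
  mem_AA_of_comm hA (mem_zc.1 hz).1 (mem_zc.1 hz).2.1 fun a ha => (mem_zc.1 hz).2.2 a (hA.2.1 ha)

theorem zc_elem (T : Subgroup G) : IsElementaryAbelian 2 (zc T) :=
  isElementaryAbelian_iff.2 ⟨fun a ha b hb => (mem_zc.1 hb).2.2 a (mem_zc.1 ha).1, fun a ha => (mem_zc.1 ha).2.1⟩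

theorem o2_le (S : Sylow 2 G) {P : Subgroup G} (hP : IsPar (S : Subgroup G) P) : o2 P ≤ (S : Subgroup G) :=
  hP.isLoc.o2_le S

namespace Blk

variable (hG : IsCharacteristicTwoType G) (h : Blk (S : Subgroup G) P)
include hG h

theorem zl_le_zc : zl (S : Subgroup G) P ≤ zc (o2 P) := h.star.isLoc.zl_le S hG

theorem zl_le_o2 : zl (S : Subgroup G) P ≤ o2 P := (zl_le_zc hG h).trans (zc_le _)

theorem zl_elem : IsElementaryAbelian 2 (zl (S : Subgroup G) P) :=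
  isElementaryAbelian_mono (zc_elem (o2 P)) (zl_le_zc hG h)

theorem comm_o2 : ∀ a ∈ o2 P, ∀ v ∈ zl (S : Subgroup G) P, a * v = v * a := fun a ha v hv =>
  (mem_zc.1 (zl_le_zc hG h hv)).2.2 a ha

theorem mem_o2_of_comm {a v : G} (ha : a ∈ (S : Subgroup G)) (hv : v ∈ zl (S : Subgroup G) P)
    (hvZ : v ∉ zc (S : Subgroup G)) (hav : a * v = v * a) : a ∈ o2 P := by
  by_contra hc
  exact hvZ (h.fix a ha hc v hv hav)

omit [Finite G] hG in
theorem exists_not_zc : ∃ v ∈ zl (S : Subgroup G) P, v ∉ zc (S : Subgroup G) := by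
  by_contra hc
  push Not at hc
  have h1 : zl (S : Subgroup G) P = zc (S : Subgroup G) := le_antisymm hc (zc_le_zl _ _)
  exact h.star.not_zc (h1 ▸ le_normalizer_zl _ _)

/-- `A ∩ V = Z` for `A ∈ A(S)`, `A ≰ O₂(P)`. -/
theorem inf_eq {A : Subgroup G} (hA : A ∈ AA (S : Subgroup G)) (hAQ : ¬ A ≤ o2 P) :
    A ⊓ zl (S : Subgroup G) P = zc (S : Subgroup G) := by
  apply le_antisymm
  · rintro v ⟨hvA, hvV⟩
    obtain ⟨a, ha, haQ⟩ := SetLike.not_le_iff_exists.1 hAQ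
    exact h.fix a (hA.2.1 ha) haQ v hvV (elem_comm hA.1 a ha v hvA)
  · exact le_inf (zc_le_AA hA) (zc_le_zl _ _)

omit hG in
/-- `|A| ≤ |A ∩ Q| |S : Q|` -/
theorem card_le {A : Subgroup G} (hA : A ≤ (S : Subgroup G)) :
    Nat.card A ≤ Nat.card ↥(A ⊓ o2 P) * (o2 P).relIndex (S : Subgroup G) := by
  have h1 := card_mul_relIndex (inf_le_left : A ⊓ o2 P ≤ A)
  rw [inf_relIndex_left] at h1
  rw [← h1]
  refine Nat.mul_le_mul_left _ (relIndex_le_of_le_right hA ?_)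
  rw [relIndex]
  exact Subgroup.index_ne_zero_of_finite

/-- `(A ∩ Q) V` for an elementary abelian `A ≤ S` with `A ∩ V = Z`. -/
theorem card_sup {A : Subgroup G} (hinf : A ⊓ zl (S : Subgroup G) P = zc (S : Subgroup G)) :
    Nat.card ↥((A ⊓ o2 P) ⊔ zl (S : Subgroup G) P) =
      Nat.card ↥(A ⊓ o2 P) * (o2 P).relIndex (S : Subgroup G) := by
  have h2 := card_sup_comm (A := A ⊓ o2 P) (B := zl (S : Subgroup G) P)
    fun a ha v hv => comm_o2 hG h a ha.2 v hv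
  have h3 : (A ⊓ o2 P) ⊓ zl (S : Subgroup G) P = zc (S : Subgroup G) := by
    rw [inf_assoc, inf_eq_right.2 (zl_le_o2 hG h), hinf]
  rw [h3, h.card] at h2
  have hp : 0 < Nat.card (zc (S : Subgroup G)) := Nat.card_pos
  have e : Nat.card ↥((A ⊓ o2 P) ⊔ zl (S : Subgroup G) P) * Nat.card (zc (S : Subgroup G)) =
      Nat.card ↥(A ⊓ o2 P) * (o2 P).relIndex (S : Subgroup G) * Nat.card (zc (S : Subgroup G)) := by
    rw [h2]; ring
  exact Nat.eq_of_mul_eq_mul_right hp e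

theorem sup_elem {A : Subgroup G} (hA : IsElementaryAbelian 2 A) :
    IsElementaryAbelian 2 ((A ⊓ o2 P) ⊔ zl (S : Subgroup G) P : Subgroup G) :=
  isElementaryAbelian_sup (isElementaryAbelian_mono hA inf_le_left) (zl_elem hG h)
    fun v hv => mem_centralizer_iff.2 fun a ha => comm_o2 hG h a ha.2 v hv

theorem sup_le_o2 (A : Subgroup G) : (A ⊓ o2 P) ⊔ zl (S : Subgroup G) P ≤ o2 P :=
  sup_le inf_le_right (zl_le_o2 hG h)

/-- **Replacement**: `(A ∩ Q) V ∈ A(S)`. -/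
theorem replace {A : Subgroup G} (hA : A ∈ AA (S : Subgroup G)) (hAQ : ¬ A ≤ o2 P) :
    (A ⊓ o2 P) ⊔ zl (S : Subgroup G) P ∈ AA (S : Subgroup G) := by
  rw [mem_AA_iff]
  refine ⟨sup_elem hG h hA.1, (sup_le_o2 hG h A).trans (o2_le S h.star.toIsPar), ?_⟩
  rw [card_sup hG h (inf_eq hG h hA hAQ), mm_eq hA]
  exact card_le h hA.2.1

/-- `|A| = |A ∩ Q| |S : Q|` -/
theorem card_eq {A : Subgroup G} (hA : A ∈ AA (S : Subgroup G)) (hAQ : ¬ A ≤ o2 P) :
    Nat.card A = Nat.card ↥(A ⊓ o2 P) * (o2 P).relIndex (S : Subgroup G) := by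
  rw [← card_sup hG h (inf_eq hG h hA hAQ), ← mm_eq hA, mm_eq (replace hG h hA hAQ)]

omit hG in
theorem S_norm : (S : Subgroup G) ≤ normalizer (o2 P : Set G) := h.star.le.trans (MinSimple.VModule.le_normalizer_o2 P)

/-- `S = A Q` -/
theorem sup_eq {A : Subgroup G} (hA : A ∈ AA (S : Subgroup G)) (hAQ : ¬ A ≤ o2 P) :
    A ⊔ o2 P = (S : Subgroup G) := by
  have hle := sup_le hA.2.1 (o2_le S h.star.toIsPar)
  refine Subgroup.eq_of_le_of_card_ge hle ?_
  have h1 := card_sup_norm (H := A) (N := o2 P) (hA.2.1.trans h.S_norm)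
  have h2 := card_eq hG h hA hAQ
  have h3 := card_mul_relIndex (o2_le S h.star.toIsPar)
  rw [h2] at h1
  have hp : 0 < Nat.card ↥(A ⊓ o2 P) := Nat.card_pos
  have e : Nat.card ↥(A ⊔ o2 P) * Nat.card ↥(A ⊓ o2 P) = Nat.card (S : Subgroup G) * Nat.card ↥(A ⊓ o2 P) := by
    rw [h1, ← h3]; ring
  exact (Nat.eq_of_mul_eq_mul_right hp e).ge

/-- (T6) `Ω₁(Z(Q)) = V`. -/
theorem zc_o2 {A : Subgroup G} (hA : A ∈ AA (S : Subgroup G)) (hAQ : ¬ A ≤ o2 P) :
    zc (o2 P) = zl (S : Subgroup G) P := by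
  symm
  refine Subgroup.eq_of_le_of_card_ge (zl_le_zc hG h) ?_
  have hQS := o2_le S h.star.toIsPar
  have hc : ∀ a ∈ A ⊓ o2 P, ∀ y ∈ zc (o2 P), a * y = y * a := fun a ha y hy => (mem_zc.1 hy).2.2 a ha.2
  -- `A ∩ Y ≤ Z`
  have h1 : (A ⊓ o2 P) ⊓ zc (o2 P) ≤ zc (S : Subgroup G) := by
    rintro y ⟨⟨hyA, hyQ⟩, hyY⟩
    refine mem_zc.2 ⟨hQS hyQ, (mem_zc.1 hyY).2.1, fun s hs => ?_⟩
    rw [← sup_eq hG h hA hAQ] at hs
    obtain ⟨a, ha, x, hx, rfl⟩ := mem_sup_norm (hA.2.1.trans h.S_norm) hs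
    have e1 := elem_comm hA.1 a ha y hyA
    have e2 := (mem_zc.1 hyY).2.2 x hx
    calc a * x * y = a * (x * y) := mul_assoc _ _ _
      _ = (a * y) * x := by rw [e2, mul_assoc]
      _ = y * (a * x) := by rw [e1, mul_assoc]
  have h2 : IsElementaryAbelian 2 ((A ⊓ o2 P) ⊔ zc (o2 P) : Subgroup G) :=
    isElementaryAbelian_sup (isElementaryAbelian_mono hA.1 inf_le_left) (zc_elem _)
      fun y hy => mem_centralizer_iff.2 fun a ha => hc a ha y hy
  have h3 := hA.2.2 _ h2 (sup_le (inf_le_right.trans hQS) ((zc_le _).trans hQS))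
  have h4 := card_sup_comm hc
  have h5 : Nat.card ↥((A ⊓ o2 P) ⊓ zc (o2 P)) ≤ Nat.card (zc (S : Subgroup G)) :=
    Subgroup.card_le_of_le h1
  rw [card_eq hG h hA hAQ] at h3
  rw [h.card]
  have hp : 0 < Nat.card ↥(A ⊓ o2 P) := Nat.card_pos
  have e : Nat.card ↥(A ⊓ o2 P) * Nat.card (zc (o2 P)) ≤
      Nat.card ↥(A ⊓ o2 P) * (Nat.card (zc (S : Subgroup G)) * (o2 P).relIndex (S : Subgroup G)) := by
    rw [← h4]
    calc _ ≤ Nat.card ↥(A ⊓ o2 P) * (o2 P).relIndex (S : Subgroup G) * Nat.card (zc (S : Subgroup G)) :=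
          Nat.mul_le_mul h3 h5
      _ = _ := by ring
  exact Nat.le_of_mul_le_mul_left e hp

end Blk

/-- Some `A ∈ A(S)` is not contained in `O₂(P)`. -/
theorem exists_AA (hG : IsCharacteristicTwoType G) (hP : IsParS (S : Subgroup G) P)
    (hJ : ¬ jj (S : Subgroup G) ≤ centralizer (zl (S : Subgroup G) P : Set G)) :
    ∃ A ∈ AA (S : Subgroup G), ¬ A ≤ o2 P := by
  by_contra hc
  push Not at hc
  apply hJ
  rw [jj_eq]
  refine sSup_le fun A hA => ?_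
  have h1 := hc A hA
  rw [← IsParS.inf_centralizer S hG hP] at h1
  exact h1.trans inf_le_right

namespace Blk

variable (hG : IsCharacteristicTwoType G) (h : Blk (S : Subgroup G) P)
include hG h

/-- **`Ω₁(Z(J(S))) = Z`.** -/
theorem zj_eq {A : Subgroup G} (hA : A ∈ AA (S : Subgroup G)) (hAQ : ¬ A ≤ o2 P)
    (hsq : Nat.card (zl (S : Subgroup G) P) = Nat.card (zc (S : Subgroup G)) ^ 2)
    {x : G} (hx : x ∈ P) (hxZ : zc (S : Subgroup G) ⊓ cj x (zc (S : Subgroup G)) = ⊥) :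
    zj (S : Subgroup G) = zc (S : Subgroup G) := by
  have hQS := o2_le S h.star.toIsPar
  have hA' := replace hG h hA hAQ
  have hA'Q := sup_le_o2 hG h A
  -- `A' = (A ∩ Q) V ∈ A(Q)`
  have hmm : mm (S : Subgroup G) ≤ mm (o2 P) := by
    rw [mm_eq hA']
    exact card_le_mm hA'.1 hA'Q
  have hA'' : (A ⊓ o2 P) ⊔ zl (S : Subgroup G) P ∈ AA (o2 P) :=
    ⟨hA'.1, hA'Q, fun B hB hBQ => hA'.2.2 B hB (hBQ.trans hQS)⟩
  have hjj : jj (o2 P) ≤ jj (S : Subgroup G) := jj_mono hQS hmm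
  set Z := zc (S : Subgroup G) with hZ
  set V := zl (S : Subgroup G) P with hV
  set Y := zj (o2 P) with hY
  have hYc : ∀ y ∈ Y, ∀ w ∈ Y, y * w = w * y := fun y hy w hw => (mem_zj.1 hw).2.2 y (mem_zj.1 hy).1
  have hYe : IsElementaryAbelian 2 Y := isElementaryAbelian_iff.2 ⟨hYc, fun a ha => (mem_zj.1 ha).2.1⟩
  have hVY : V ≤ Y := fun v hv => mem_zj.2 ⟨le_jj hA'' (mem_sup_right hv), elem_sq (zl_elem hG h) v hv,
    fun y hy => comm_o2 hG h y (jj_le _ hy) v hv⟩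
  have hYA' : Y ≤ (A ⊓ o2 P) ⊔ V := zj_le_AA hA''
  have hZJ : Z ≤ zj (S : Subgroup G) := zc_le_zj _
  have hPY : P ≤ normalizer (Y : Set G) := (MinSimple.VModule.le_normalizer_o2 P).trans
    (normalizer_le_of_cj (F := zj) zj_cj (o2 P))
  have hPV : P ≤ normalizer (V : Set G) := le_normalizer_zl _ _
  -- `C_Y(A)`
  let YA : Subgroup G := Y ⊓ centralizer (A : Set G)
  have hYsplit : ∀ y ∈ Y, ∃ v ∈ V, ∃ c ∈ YA, y = v * c := by
    intro y hy
    obtain ⟨a, ha, v, hv, rfl⟩ := mem_sup_comm (A := A ⊓ o2 P) (B := V)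
      (fun a ha v hv => comm_o2 hG h a ha.2 v hv) (hYA' hy)
    refine ⟨v, hv, a, ⟨?_, mem_centralizer_iff.2 fun b hb => elem_comm hA.1 b hb a ha.1⟩,
      comm_o2 hG h a ha.2 v hv⟩
    have h1 := mul_mem hy (inv_mem (hVY hv))
    rwa [mul_inv_cancel_right] at h1
  have hVYA : V ⊓ YA = Z := by
    apply le_antisymm
    · rintro v ⟨hv, -, hvA⟩
      obtain ⟨a, ha, haQ⟩ := SetLike.not_le_iff_exists.1 hAQ
      exact h.fix a (hA.2.1 ha) haQ v hv (mem_centralizer_iff.1 hvA a ha)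
    · refine le_inf (zc_le_zl _ _) (le_inf ((zc_le_zl _ _).trans hVY) fun z hz => ?_)
      exact mem_centralizer_iff.2 fun a ha => (mem_zc.1 hz).2.2 a (hA.2.1 ha)
  have hVsupYA : V ⊔ YA = Y := by
    apply le_antisymm (sup_le hVY inf_le_left)
    intro y hy
    obtain ⟨v, hv, c, hc, rfl⟩ := hYsplit y hy
    exact mul_mem_sup hv hc
  have hcYA : Nat.card Y * Nat.card Z = Nat.card V * Nat.card YA := by
    have h1 := card_sup_comm (A := V) (B := YA) fun v hv c hc => hYc v (hVY hv) c hc.1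
    rwa [hVsupYA, hVYA] at h1
  have hYY : Nat.card Y = Nat.card Z * Nat.card YA := by
    have hp : 0 < Nat.card Z := Nat.card_pos
    rw [hsq] at hcYA
    have e : Nat.card Y * Nat.card Z = Nat.card Z * Nat.card YA * Nat.card Z := by rw [hcYA]; ring
    exact Nat.eq_of_mul_eq_mul_right hp e
  -- `D = C_Y(⟨A, A^x⟩)`
  have hxY : cj x Y = Y := cj_eq_of_mem_normalizer (hPY hx)
  have hxV : cj x V = V := cj_eq_of_mem_normalizer (hPV hx)
  let YB : Subgroup G := cj x YA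
  have hYB : YB ≤ Y := by
    have h1 : cj x YA ≤ cj x Y := cj_mono x inf_le_left
    rwa [hxY] at h1
  have hcYB : Nat.card YB = Nat.card YA := card_cj _ _
  let C : Subgroup G := YA ⊓ YB
  have hVC : V ⊓ C = ⊥ := by
    rw [eq_bot_iff, ← hxZ]
    rintro v ⟨hv, hvA, hvB⟩
    refine ⟨hVYA ▸ ⟨hv, hvA⟩, ?_⟩
    rw [← hVYA, cj_inf, hxV]
    exact ⟨hv, hvB⟩
  have hCcard : Nat.card Y ≤ Nat.card V * Nat.card C := by
    have h1 := card_sup_comm (A := YA) (B := YB) fun a ha b hb => hYc a ha.1 b (hYB hb)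
    have h2 : Nat.card ↥(YA ⊔ YB) ≤ Nat.card Y := Subgroup.card_le_of_le (sup_le inf_le_left hYB)
    have h3 : Nat.card YA * Nat.card YB ≤ Nat.card Y * Nat.card C := by
      rw [← h1]
      exact Nat.mul_le_mul_right _ h2
    rw [hcYB] at h3
    have hp : 0 < Nat.card YA := Nat.card_pos
    rw [hYY, hsq]
    rw [hYY] at h3
    have e : Nat.card YA * Nat.card YA ≤ Nat.card YA * (Nat.card Z * Nat.card C) := by
      calc _ ≤ Nat.card Z * Nat.card YA * Nat.card C := h3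
        _ = _ := by ring
    have h4 := Nat.le_of_mul_le_mul_left e hp
    calc Nat.card Z * Nat.card YA ≤ Nat.card Z * (Nat.card Z * Nat.card C) := Nat.mul_le_mul_left _ h4
      _ = Nat.card Z ^ 2 * Nat.card C := by ring
  have hVsupC : V ⊔ C = Y := by
    refine Subgroup.eq_of_le_of_card_ge (sup_le hVY (inf_le_left.trans inf_le_left)) ?_
    have h1 := card_sup_comm (A := V) (B := C) fun v hv c hc => hYc v (hVY hv) c hc.1.1
    rw [hVC, Subgroup.card_bot, mul_one] at h1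
    rw [h1]
    exact hCcard
  -- the final argument
  refine le_antisymm ?_ hZJ
  by_contra hne
  obtain ⟨y, hy, hyZ, hyS⟩ := exists_fixed (M := Z) S.isPGroup' ((fun _ hx => jj_le _ (mem_zj.1 hx).1) :
    zj (S : Subgroup G) ≤ (S : Subgroup G))
    (le_normalizer.trans (normalizer_le_of_cj (F := zj) zj_cj (S : Subgroup G))) hne
  have hy' := mem_zj.1 hy
  have hyA : ∀ B ∈ AA (S : Subgroup G), y ∈ B := fun B hB => zj_le_AA hB hy
  have hyQ : y ∈ o2 P := hA'Q (hyA _ hA')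
  have hyY : y ∈ Y := mem_zj.2 ⟨le_jj hA'' (hyA _ hA'), hy'.2.1, fun w hw => hy'.2.2 w (hjj hw)⟩
  have hyA1 : y ∈ YA := ⟨hyY, mem_centralizer_iff.2 fun a ha => hy'.2.2 a (le_jj hA ha)⟩
  obtain ⟨z, hz, c, hc, hyzc⟩ : ∃ z ∈ Z, ∃ c ∈ C, y = z * c := by
    rw [← hVsupC] at hyY
    obtain ⟨v, hv, c, hc, rfl⟩ := mem_sup_comm (A := V) (B := C)
      (fun v hv c hc => hYc v (hVY hv) c hc.1.1) hyY
    refine ⟨v, ?_, c, hc, rfl⟩
    rw [← hVYA]
    refine ⟨hv, ?_⟩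
    have h1 := mul_mem hyA1 (inv_mem hc.1)
    rwa [mul_inv_cancel_right] at h1
  have hcZ : c ∉ Z := fun h1 => hyZ (hyzc ▸ mul_mem hz h1)
  have hcY : c ∈ Y := hc.1.1
  have hcQ0 : c ∈ o2 P := jj_le _ (mem_zj.1 hcY).1
  have hcS : ∀ s ∈ (S : Subgroup G), s * c * s⁻¹ * c⁻¹ ∈ Z := by
    intro s hs
    have h1 := hyS s hs
    have h2 : s * z = z * s := (mem_zc.1 hz).2.2 s hs
    have e : s * y * s⁻¹ * y⁻¹ = s * c * s⁻¹ * c⁻¹ := by
      rw [hyzc]
      have h4 : s * (z * c) * s⁻¹ * (z * c)⁻¹ = (s * z) * c * s⁻¹ * c⁻¹ * z⁻¹ := by group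
      have h5 : z * (s * c * s⁻¹ * c⁻¹) = s * c * s⁻¹ * c⁻¹ * z := by
        have h6 : s * c * s⁻¹ * c⁻¹ ∈ (S : Subgroup G) :=
          mul_mem (mul_mem (mul_mem hs (hQS hcQ0)) (inv_mem hs)) (inv_mem (hQS hcQ0))
        exact ((mem_zc.1 hz).2.2 _ h6).symm
      rw [h4, h2]
      calc z * s * c * s⁻¹ * c⁻¹ * z⁻¹ = z * (s * c * s⁻¹ * c⁻¹) * z⁻¹ := by group
        _ = s * c * s⁻¹ * c⁻¹ := by rw [h5]; group
    rwa [e] at h1
  -- `c` centralises `Q`
  obtain ⟨a₀, ha₀, ha₀Q⟩ := SetLike.not_le_iff_exists.1 hAQ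
  have hcQ : ∀ t ∈ o2 P, t * c = c * t := by
    intro t ht
    have hbP : x * a₀ * x⁻¹ ∈ P := mul_mem (mul_mem hx (h.star.le (hA.2.1 ha₀))) (inv_mem hx)
    set b := x * a₀ * x⁻¹ with hb
    have hbc : b * c = c * b := by
      have h1 : c ∈ YB := hc.2
      have h2 : c ∈ cj x (centralizer (A : Set G)) := cj_mono x inf_le_right h1
      rw [mem_cj, mem_centralizer_iff] at h2
      have h3 := h2 a₀ ha₀
      have h4 : x * (a₀ * (x⁻¹ * c * x)) * x⁻¹ = x * (x⁻¹ * c * x * a₀) * x⁻¹ := by rw [h3]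
      rw [hb]
      calc x * a₀ * x⁻¹ * c = x * (a₀ * (x⁻¹ * c * x)) * x⁻¹ := by group
        _ = x * (x⁻¹ * c * x * a₀) * x⁻¹ := h4
        _ = c * (x * a₀ * x⁻¹) := by group
    set e := t * c * t⁻¹ * c⁻¹ with he
    have heZ : e ∈ Z := hcS t (hQS ht)
    have heV : e ∈ V := zc_le_zl _ _ heZ
    have heZ' : b * e * b⁻¹ ∈ Z := by
      have h1 : b * t * b⁻¹ ∈ o2 P := conj_mem (MinSimple.VModule.le_normalizer_o2 P) hbP ht
      have h2 := hcS _ (hQS h1)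
      have h3 : b * c * b⁻¹ = c := by rw [hbc]; group
      have h4 : b * e * b⁻¹ = (b * t * b⁻¹) * (b * c * b⁻¹) * (b * t * b⁻¹)⁻¹ * (b * c * b⁻¹)⁻¹ := by
        rw [he]; group
      rw [h4, h3]
      exact h2
    -- `[b, e] ∈ Z ∩ Z^x = 1`
    have h1 : b * e * b⁻¹ * e⁻¹ ∈ Z ⊓ cj x Z := by
      refine mem_inf.2 ⟨mul_mem heZ' (inv_mem heZ), ?_⟩
      rw [mem_cj]
      have h2 : x⁻¹ * e * x ∈ V := by
        have := conj_mem hPV (inv_mem hx) heV
        rwa [inv_inv] at this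
      have h3 := h.comm a₀ (hA.2.1 ha₀) _ h2
      have h4 : x⁻¹ * (b * e * b⁻¹ * e⁻¹) * x = a₀ * (x⁻¹ * e * x) * a₀⁻¹ * (x⁻¹ * e * x)⁻¹ := by
        rw [hb]; group
      rw [h4]
      exact h3
    rw [hxZ, mem_bot] at h1
    have h2 : e ∈ cj x Z := by
      rw [mem_cj]
      have h3 : x⁻¹ * e * x ∈ V := by
        have := conj_mem hPV (inv_mem hx) heV
        rwa [inv_inv] at this
      refine h.fix a₀ (hA.2.1 ha₀) ha₀Q _ h3 ?_
      have h4 : b * e = e * b := by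
        have := mul_inv_eq_one.1 h1
        calc b * e = b * e * b⁻¹ * b := by group
          _ = e * b := by rw [this]
      have h5 : x⁻¹ * (b * e) * x = x⁻¹ * (e * b) * x := by rw [h4]
      calc a₀ * (x⁻¹ * e * x) = x⁻¹ * (b * e) * x := by rw [hb]; group
        _ = x⁻¹ * (e * b) * x := h5
        _ = x⁻¹ * e * x * a₀ := by rw [hb]; group
    have h3 : e ∈ Z ⊓ cj x Z := ⟨heZ, h2⟩
    rw [hxZ, mem_bot, he] at h3
    have := mul_inv_eq_one.1 h3
    calc t * c = t * c * t⁻¹ * t := by group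
      _ = c * t := by rw [this]
  have hcV : c ∈ V := by
    rw [hV, ← zc_o2 hG h hA hAQ]
    exact mem_zc.2 ⟨hcQ0, (mem_zj.1 hcY).2.1, hcQ⟩
  have h1 : c ∈ V ⊓ C := ⟨hcV, hc⟩
  rw [hVC, mem_bot] at h1
  exact hcZ (h1 ▸ one_mem _)

end Blk

end blk

end Cfsg.Agent.Omega.NO3S.OneLine
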