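import Cfsg.Agent.Omega.NO3S.OneLine.OfP

/-!
# LEMMA OL (LEMMA UNIQ), final form

`P ∈ P*(S)` with `J(S) ≰ O₂(P)`, `V_P` a natural `SL₂(q)`-module, `|Z| = q`, no mutual pair, and the FF theorem:
`V_R = V_P` and `C_Z(R) = 1` for all `R ∈ P*(S)` (`uniq`).
-/

set_option autoImplicit false
set_option linter.unusedSectionVars false
set_option linter.unusedVariables false

namespace Cfsg.Agent.Omega.NO3S.OneLine

open Subgroup Cfsg Cfsg.Agent.ZN Cfsg.Agent.ZN.ChoiceBase Cfsg.Agent.Omega.MinPar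
open Cfsg.Agent.ZN.ChoiceSit (Syl o2_le_syl)
open Cfsg.Agent.Omega.SQ1.Bau (mem_AA_of_comm zj_le_AA elem_comm elem_sq)
open Cfsg.Agent.Omega.SQ1.BauK (V1 mem_V1)
open Cfsg.Agent.PLocal.ElemAbSup Cfsg.Agent.PLocal.ThompsonJ
open Cfsg.Agent.MinSimple.VModule (zc_le zc_le_zl zl_le le_o2 le_normalizer_zl le_normalizer_o2)
open Cfsg.Agent.Omega.SQ1.FFOne Cfsg.Agent.Lib.SL2Mat
open Cfsg.Agent.Omega.FFThm (NatK SymK Off NoOver)
open Cfsg.Agent.Omega.FrameFF (cv)
open Cfsg.Agent.Omega.NatPair (ap ap_zero' ap_one' ap_one ap_mul ap_add ap_smul ext2 NatMod ap_inv_ap ap_ap_inv exists_ap_e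
  ap_up_e)

universe u

variable {G : Type u} [Group G]

/-- one summand: the natural section -/
noncomputable def secK {F : Type} [Field F] {T H : Subgroup G}
    (N : NatK F T H (zl T H) (cv T H) 1) : NatSec F H (zl T H) (cv T H) where
  π g := N.e g 0
  map_mul := by
    intro v hv w hw
    rw [N.mul v hv w hw]; rfl
  V0V := SQ1.FFOf.cv_le
  ker := by
    intro v hv
    rw [← N.ker v hv]
    constructor
    · intro h0
      funext i
      rw [Subsingleton.elim i 0, h0]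
      rfl
    · intro h0
      rw [h0]
      rfl
  surj := by
    intro x
    obtain ⟨v, hv, hx⟩ := N.surj fun _ => x
    exact ⟨v, hv, by rw [hx]⟩
  Vn := SQ1.VOf.zl_norm
  V0n := SQ1.FFOf.cv_norm
  lift := by
    intro A
    obtain ⟨g, hg, h1, h2⟩ := N.lift fun _ => A
    exact ⟨g, hg, fun v hv => h1 v hv 0⟩
  norm := by
    intro g hg x hx A hA
    obtain ⟨B, hB⟩ := N.norm g hg x hx (fun _ => A) fun v hv i => by
      rw [Subsingleton.elim i 0]
      exact hA v hv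
    exact ⟨B 0, fun v hv => hB v hv 0⟩

variable [Finite G] {S : Sylow 2 G} {P R : Subgroup G}

/-- `Z(J(S)) = Z` for `V_P` natural with `|Z| = q`. -/
theorem N1.zj_eq {q : ℕ} (hG : IsCharacteristicTwoType G) (h : N1 (S : Subgroup G) P ⊥ q)
    (hJ : ¬ jj (S : Subgroup G) ≤ centralizer (zl (S : Subgroup G) P : Set G)) :
    zj (S : Subgroup G) = zc (S : Subgroup G) := by
  obtain ⟨A, hA, hAQ⟩ := exists_AA hG h.blk.star hJ
  obtain ⟨x, hx, hx0⟩ := h.opp rfl
  refine Blk.zj_eq hG h.blk hA hAQ ?_ hx hx0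
  have h1 := h.cz
  rw [Subgroup.card_bot, one_mul] at h1
  rw [h.cv, ← h1, pow_two]

theorem syl_of (hR : IsParS (S : Subgroup G) R) : Syl (S : Subgroup G) R :=
  ⟨hR.isLoc.le, S.isPGroup', fun _ _ hT hST => S.is_maximal' hT hST⟩

theorem minH (hG : IsCharacteristicTwoType G) (hR : IsParS (S : Subgroup G) R) : MinH R (S : Subgroup G) :=
  minH_of (syl_of hR) hR.toIsMinPar (hR.isLoc.char2 S hG)

/-- **The members of `P*(S)` if `Ω₁(Z(J(S))) = Z`.** -/
theorem n1_of_star (hFF : FFThm.Stmt.{u}) (hG : IsCharacteristicTwoType G)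
    (hz : zj (S : Subgroup G) = zc (S : Subgroup G)) (hR : IsParS (S : Subgroup G) R) :
    ¬ jj (S : Subgroup G) ≤ centralizer (zl (S : Subgroup G) R : Set G) ∧
      ∃ (V0 : Subgroup G) (q : ℕ), 2 ≤ q ∧ N1 (S : Subgroup G) R V0 q := by
  have hsyl := syl_of hR
  have hch := hR.isLoc.char2 S hG
  have hmin := hR.toIsMinPar
  have hm := minH hG hR
  have hJ : ¬ jj (S : Subgroup G) ≤ o2 R := by
    intro hle
    have e := jj_eq_of_jj_le hle (o2_le_syl hsyl)
    have e2 : zj (o2 R) = zj (S : Subgroup G) := by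
      ext x
      rw [mem_zj, mem_zj, e]
    apply hR.not_zc
    rw [← hz, ← e2]
    exact (le_normalizer_o2 R).trans (normalizer_le_of_cj (F := zj) zj_cj (o2 R))
  have hJC : ¬ jj (S : Subgroup G) ≤ centralizer (zl (S : Subgroup G) R : Set G) := by
    intro hle
    apply hJ
    rw [← IsParS.inf_centralizer S hG hR]
    exact le_inf (jj_le _) hle
  refine ⟨hJC, ?_⟩
  obtain ⟨A, hA, hAV⟩ : ∃ A ∈ AA (S : Subgroup G), ¬ A ≤ centralizer (zl (S : Subgroup G) R : Set G) := by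
    by_contra hcon
    push Not at hcon
    apply hJC
    rw [jj_eq]
    exact sSup_le hcon
  have hoff : Off (zl (S : Subgroup G) R) A := SQ1.FFOf.off_of_AA hm hA hAV
  obtain ⟨hno, hcon⟩ := hFF G (S : Subgroup G) R hsyl hmin hch ⟨A, hA.2.1.trans hsyl.1, hoff⟩
  have hcs : (R ⊓ centralizer (zl (S : Subgroup G) R : Set G)) ⊔ (S : Subgroup G) ≠ R := by
    intro e
    apply hR.not_zc
    rw [← e]
    refine sup_le ?_ ?_
    · exact (inf_le_right.trans (centralizer_le (zc_le_zl _ _))).trans (centralizer_le_normalizer _)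
    · refine le_trans (fun s hs => ?_) (centralizer_le_normalizer _)
      exact mem_centralizer_iff.2 fun z hz => ((mem_zc.1 hz).2.2 s hs).symm
  rcases hcon with ⟨F, _, _, _, k, hk, ⟨M⟩⟩ | ⟨k, m, hk, hm2, ⟨M⟩⟩
  · have : Nonempty (Fin k) := ⟨⟨0, hk⟩⟩
    have hVS : zl (S : Subgroup G) R ≤ (S : Subgroup G) := (SQ1.VOf.MinH.zl_le_o2 hm).trans (o2_le_syl hsyl)
    have hV1 : ∀ v ∈ zl (S : Subgroup G) R, (∀ i, M.e v i 1 = 0) → v ∈ zc (S : Subgroup G) := by
      intro v hv hi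
      have h1 := (FFK.mem_V1_iff ((natKB_of hsyl hch hJ hk M).toFFK hm) hm (v := v)).2 ⟨hv, hi⟩
      have h2 := (mem_V1.1 h1).2
      have hsq := SQ1.VOf.MinH.sq hm v hv
      rw [← hz]
      exact mem_zj.2 ⟨mem_jj_of_comm (hVS hv) hsq h2, hsq, h2⟩
    obtain rfl : k = 1 := by
      by_contra hk1
      obtain ⟨i, j, hij⟩ : ∃ i j : Fin k, i ≠ j :=
        ⟨⟨0, hk⟩, ⟨1, by omega⟩, fun h => by simpa using congrArg Fin.val h⟩
      classical
      obtain ⟨t, ht, htr⟩ := M.trans i j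
      obtain ⟨v, hv, hev⟩ := M.surj (Pi.single j ![1, 0])
      have hvZ : v ∈ zc (S : Subgroup G) := by
        refine hV1 v hv fun l => ?_
        rw [hev]
        by_cases hl : l = j
        · subst hl; rw [Pi.single_eq_same]; rfl
        · rw [Pi.single_eq_of_ne hl]; rfl
      have h1 : M.e v i = 0 := by rw [hev, Pi.single_eq_of_ne hij]
      have h2 := (htr v hv).2 h1
      have h3 : t * v * t⁻¹ = v := by rw [(mem_zc.1 hvZ).2.2 t ht]; group
      rw [h3, hev, Pi.single_eq_same] at h2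
      exact one_ne_zero (congrFun h2 0)
    refine ⟨cv (S : Subgroup G) R, Nat.card F, Finite.one_lt_card, n1_of hR hm (secK M) ?_ ?_⟩
    · intro v hv h1
      refine hV1 v hv fun i => ?_
      rw [Subsingleton.elim i 0]
      exact h1
    · intro b
      obtain ⟨t, ht, h1⟩ := M.unip fun _ => b
      exact ⟨t, ht, fun v hv => h1.1 v hv 0⟩
  · refine (no_sym hm hcs ⟨A, hA, hoff⟩ hno hk hm2 M ?_).elim
    intro z hz1 t ht
    rw [hz] at hz1
    exact (mem_zc.1 hz1).2.2 t ht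

/-- The chain `|V| ≤ |Z|²`. -/
theorem N1.card_le {V0 : Subgroup G} {q : ℕ} (h : N1 (S : Subgroup G) R V0 q) :
    Nat.card (zl (S : Subgroup G) R) ≤ Nat.card (zc (S : Subgroup G)) ^ 2 := by
  rw [h.cv, pow_two]
  refine Nat.mul_le_mul_left _ ?_
  rw [h.cz]
  exact Nat.le_mul_of_pos_left _ Nat.card_pos

theorem N1.cen_eq {V0 : Subgroup G} {q : ℕ} (h : N1 (S : Subgroup G) R V0 q) (hq : 0 < q)
    (hV : Nat.card (zl (S : Subgroup G) R) = Nat.card (zc (S : Subgroup G)) ^ 2) :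
    zc (S : Subgroup G) ⊓ centralizer (R : Set G) = ⊥ := by
  rw [eq_bot_iff]
  refine h.cen.trans ?_
  have hp : 0 < Nat.card (zc (S : Subgroup G)) := Nat.card_pos
  have h1 := h.cv
  rw [hV, pow_two] at h1
  have h2 := Nat.eq_of_mul_eq_mul_left hp h1
  have h3 := h.cz
  rw [h2] at h3
  have h4 : 1 * q = Nat.card V0 * q := by rw [one_mul]; exact h3
  have h5 := Nat.eq_of_mul_eq_mul_right hq h4
  exact (Subgroup.card_eq_one.1 h5.symm).le

/-- **LEMMA OL**, from `N1 S P ⊥ q`. -/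
theorem uniq_of_n1 (hFF : FFThm.Stmt.{u}) (hG : IsCharacteristicTwoType G) (hF : ¬ FF (S : Subgroup G)) {q : ℕ}
    (h : N1 (S : Subgroup G) P ⊥ q)
    (hJ : ¬ jj (S : Subgroup G) ≤ centralizer (zl (S : Subgroup G) P : Set G)) : Uniq (S : Subgroup G) P := by
  have hz := h.zj_eq hG hJ
  have hsq : Nat.card (zl (S : Subgroup G) P) = Nat.card (zc (S : Subgroup G)) ^ 2 := by
    have h1 := h.cz
    rw [Subgroup.card_bot, one_mul] at h1
    rw [h.cv, ← h1, pow_two]
  have key : ∀ R : Subgroup G, IsParS (S : Subgroup G) R → zl (S : Subgroup G) R = zl (S : Subgroup G) P ∧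
      zc (S : Subgroup G) ⊓ centralizer (R : Set G) = ⊥ := by
    intro R hR
    obtain ⟨hJ', V0, q', hq', h'⟩ := n1_of_star hFF hG hz hR
    have h1 := one_line hG hF h.blk h'.blk hJ hJ' hsq (eq_bot_iff.2 h.cen) h'.card_le
    refine ⟨h1, h'.cen_eq (by omega) ?_⟩
    rw [h1, hsq]
  exact ⟨fun R hR => (key R hR).1, fun R hR => (key R hR).2⟩

/-- **LEMMA UNIQ (= LEMMA OL)**: `J(S) ≰ O₂(P)`, `V_P` natural, `|Z| = q`. -/
theorem uniq (hFF : FFThm.Stmt.{u}) (h : HypJ S P) {F : Type} [Field F] [Finite F]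
    [CharP F 2] (N : NatP F (zl (S : Subgroup G) P) P)
    (hc : Nat.card (zc (S : Subgroup G)) = Nat.card F) : Uniq (S : Subgroup G) P := by
  have hG := h.ctx.char2
  refine uniq_of_n1 hFF hG h.noFF (n1_of_natP hG h.star (minH hG h.star) N hc) ?_
  intro hle
  apply h.jnot
  rw [← IsParS.inf_centralizer S hG h.star]
  exact le_inf (jj_le _) hle

end Cfsg.Agent.Omega.NO3S.OneLine
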