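import Cfsg.Agent.Omega.NO3S.OneLine.LevNat
import Cfsg.Agent.Omega.NO3S.OneLine.LevSym
import Cfsg.Agent.Omega.NO3S.OneLine.Of
import Cfsg.Agent.Omega.NO3S.Level.Basic

/-!
# LEMMA UNIQ at every level (helper781 #16560 (3); helper44 #14528)

`X` an elementary abelian subgroup of `S` which is normalised by all members `R` of `P*(S)` and contains
`Ω₁(Z(O₂(R)))`; some best offender of `S` on `X` is not contained in `O₂(P)`, `V_P` natural, `|Z| = q`: then
`V_R = V_P` and `C_Z(R) = 1` for all `R ∈ P*(S)`.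

* `n1_of_star_fam` : the members of `P*(S)` if `C_X(AA) = Z`;
* `uniq_fam` : LEMMA UNIQ for a family `AA` of best offenders;
* `uniq_bo` : LEMMA UNIQ for the best offenders on `X`;
* `uniq_lev` : LEMMA UNIQ for the level `K` of `Level/Basic.lean`.
-/

set_option autoImplicit false
set_option linter.unusedSectionVars false
set_option linter.unusedVariables false

namespace Cfsg.Agent.Omega.NO3S.OneLine

open Subgroup Cfsg Cfsg.Agent.ZN Cfsg.Agent.ZN.ChoiceBase Cfsg.Agent.Omega.MinPar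
open Cfsg.Agent.ZN.ChoiceSit (Syl o2_le_syl)
open Cfsg.Agent.Omega.SQ1.Bau (mem_AA_of_comm zj_le_AA elem_comm elem_sq)
open Cfsg.Agent.PLocal.ElemAbSup Cfsg.Agent.PLocal.ThompsonJ
open Cfsg.Agent.MinSimple.VModule (zc_le zc_le_zl zl_le le_o2 le_normalizer_zl le_normalizer_o2)
open Cfsg.Agent.Omega.SQ1.FFOne Cfsg.Agent.Lib.SL2Mat
open Cfsg.Agent.Omega.FFThm (NatK SymK NatKM SymKM OffM ElemM StmtM)
open Cfsg.Agent.Omega.FrameFF (cv)

universe u

variable {G : Type u} [Group G] [Finite G] {S : Sylow 2 G} {P R : Subgroup G} {X L : Subgroup G}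
  {AA : Set (Subgroup G)}

/-- Members of the family are offenders in the sense of the FF theorem. -/
theorem BFam.offM {T Y A : Subgroup G} (h : BFam T X L AA) (hX : ∀ x ∈ X, ∀ y ∈ X, x * y = y * x) (hYX : Y ≤ X)
    (hA : A ∈ AA) (hne : ¬ A ≤ centralizer (Y : Set G)) : OffM Y A :=
  ⟨elemM_mono (h.elem A hA) hYX le_rfl, hne, h.off hX hYX hA⟩

/-- **The members of `P*(S)` if `C_X(AA) = Z`.** -/
theorem n1_of_star_fam (hFF : StmtM.{u}) (hG : IsCharacteristicTwoType G)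
    (hB : BFam (S : Subgroup G) X L AA) (hX : IsElementaryAbelian 2 X) (hR : IsParS (S : Subgroup G) R)
    (hRX : R ≤ normalizer (X : Set G)) (hRL : R ≤ L) (hQX : zc (o2 R) ≤ X)
    (hz : X ⊓ centralizer ((sSup AA : Subgroup G) : Set G) = zc (S : Subgroup G)) :
    (∃ A ∈ AA, ¬ A ≤ o2 R) ∧ ∃ (V0 : Subgroup G) (q : ℕ), 2 ≤ q ∧ N1 (S : Subgroup G) R V0 q := by
  have hXc : ∀ x ∈ X, ∀ y ∈ X, x * y = y * x := elem_comm hX
  have hsyl := syl_of hR
  have hch := hR.isLoc.char2 S hG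
  have hmin := hR.toIsMinPar
  have hm := minH hG hR
  have hQS := o2_le_syl hsyl
  have hJ : ∃ A ∈ AA, ¬ A ≤ o2 R := by
    by_contra hcon
    push Not at hcon
    apply hR.not_zc
    rw [← hz]
    intro g hg
    apply mem_normalizer_of_cj_le
    rw [cj_inf, cj_eq_of_mem_normalizer (hRX hg)]
    refine inf_le_inf_left _ ?_
    intro y hy
    rw [mem_cj, mem_cent_sSup] at hy
    rw [mem_cent_sSup]
    intro B hB' b hb
    have h1 : cj g⁻¹ B ≤ o2 R := by
      have h2 := cj_mono g⁻¹ (hcon B hB')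
      rwa [cj_eq_of_mem_normalizer (le_normalizer_o2 R (inv_mem hg))] at h2
    have h2 := hB.conj B hB' g⁻¹ (hRL (inv_mem hg)) (h1.trans hQS)
    have h3 := hy _ h2 (g⁻¹ * b * g) (by rw [mem_cj]; have e : g⁻¹⁻¹ * (g⁻¹ * b * g) * g⁻¹ = b := by group
                                         rwa [e])
    calc b * y = g * ((g⁻¹ * b * g) * (g⁻¹ * y * g)) * g⁻¹ := by group
      _ = g * ((g⁻¹ * y * g) * (g⁻¹ * b * g)) * g⁻¹ := by rw [h3]
      _ = y * b := by group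
  refine ⟨hJ, ?_⟩
  obtain ⟨A, hA, hAQ⟩ := hJ
  have hVX : zl (S : Subgroup G) R ≤ X := (hR.isLoc.zl_le S hG).trans hQX
  have hAV : ¬ A ≤ centralizer (zl (S : Subgroup G) R : Set G) := by
    intro h1
    apply hAQ
    rw [← IsParS.inf_centralizer S hG hR]
    exact le_inf (hB.le A hA) h1
  have hoff := hB.offM hXc hVX hA hAV
  obtain ⟨hno, hcon⟩ := hFF G (S : Subgroup G) R hsyl hmin hch ⟨A, (hB.le A hA).trans hsyl.1, hoff⟩
  have hVS : zl (S : Subgroup G) R ≤ (S : Subgroup G) := (SQ1.VOf.MinH.zl_le_o2 hm).trans hQS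
  rcases hcon with ⟨F, _, _, _, k, hk, ⟨M⟩⟩ | ⟨k, m, hk, hm2, ⟨M⟩⟩
  · have : Nonempty (Fin k) := ⟨⟨0, hk⟩⟩
    have hV1 : ∀ v ∈ zl (S : Subgroup G) R, (∀ i, M.e v i 1 = 0) → v ∈ zc (S : Subgroup G) := by
      intro v hv hi
      rw [← hz]
      refine ⟨hVX hv, mem_cent_sSup.2 fun B hB' b hb => ?_⟩
      by_cases hBV : B ≤ centralizer (zl (S : Subgroup G) R : Set G)
      · exact (mem_centralizer_iff.1 (hBV hb) v hv).symm
      · obtain ⟨I, h1, h2⟩ := M.offM B (hB.le B hB') (hB.offM hXc hVX hB' hBV)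
        exact (natC_of hm hk M.toNatK).cent_line hm (hB.le B hB') (hB.off hXc hVX hB') h1 h2 hv hi hb
    obtain rfl : k = 1 := by
      by_contra hk1
      obtain ⟨i, j, hij⟩ : ∃ i j : Fin k, i ≠ j :=
        ⟨⟨0, hk⟩, ⟨1, by omega⟩, fun h => by simpa using congrArg Fin.val h⟩
      classical
      obtain ⟨t, ht, htr⟩ := M.trans i j
      obtain ⟨v, hv, hev⟩ := M.surj (Pi.single j ![1, 0])
      have hvZ : v ∈ zc (S : Subgroup G) := by
        refine hV1 v hv fun l => ?_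
        rw [hev]
        by_cases hl : l = j
        · subst hl; rw [Pi.single_eq_same]; rfl
        · rw [Pi.single_eq_of_ne hl]; rfl
      have h1 : M.e v i = 0 := by rw [hev, Pi.single_eq_of_ne hij]
      have h2 := (htr v hv).2 h1
      have h3 : t * v * t⁻¹ = v := by rw [(mem_zc.1 hvZ).2.2 t ht]; group
      rw [h3, hev, Pi.single_eq_same] at h2
      exact one_ne_zero (congrFun h2 0)
    refine ⟨cv (S : Subgroup G) R, Nat.card F, Finite.one_lt_card, n1_of hR hm (secK M.toNatK) ?_ ?_⟩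
    · intro v hv h1
      refine hV1 v hv fun i => ?_
      rw [Subsingleton.elim i 0]
      exact h1
    · intro b
      obtain ⟨t, ht, h1⟩ := M.unip fun _ => b
      exact ⟨t, ht, fun v hv => h1.1 v hv 0⟩
  · exfalso
    obtain ⟨u, hu, hc, s, hs, hsu⟩ := sym_moved hm M hk hm2 (hB.le A hA) hoff
    have huZ : u ∈ zc (S : Subgroup G) := by
      rw [← hz]
      refine ⟨hVX hu, mem_cent_sSup.2 fun B hB' b hb => ?_⟩
      by_cases hBV : B ≤ centralizer (zl (S : Subgroup G) R : Set G)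
      · exact (mem_centralizer_iff.1 (hBV hb) u hu).symm
      · exact hc B (hB.le B hB') (hB.offM hXc hVX hB' hBV) b hb
    exact hsu ((mem_zc.1 huZ).2.2 s hs)

/-- `V_L ≤ X` if `L` normalises `X ≥ Z`. -/
theorem zl_le_of_norm {T M Y : Subgroup G} (h : zc T ≤ Y) (hM : M ≤ normalizer (Y : Set G)) : zl T M ≤ Y := by
  refine iSup_le fun g => ?_
  have h1 : cj (g : G) (zc T) ≤ cj (g : G) Y := cj_mono _ h
  rw [cj_eq_of_mem_normalizer (hM g.2)] at h1
  exact h1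

/-- **LEMMA UNIQ for a family of best offenders.** -/
theorem uniq_fam (hFF : StmtM.{u}) (hG : IsCharacteristicTwoType G) (hF : ¬ FF (S : Subgroup G)) {q : ℕ}
    (h : N1 (S : Subgroup G) P ⊥ q) (hB : BFam (S : Subgroup G) X L AA) (hX : IsElementaryAbelian 2 X)
    (hXS : X ≤ (S : Subgroup G))
    (hpar : ∀ R : Subgroup G, IsParS (S : Subgroup G) R → R ≤ normalizer (X : Set G) ∧ R ≤ L ∧ zc (o2 R) ≤ X)
    (hJ : ∃ A ∈ AA, ¬ A ≤ o2 P) : Uniq (S : Subgroup G) P := by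
  have hXc : ∀ x ∈ X, ∀ y ∈ X, x * y = y * x := elem_comm hX
  obtain ⟨hPX, hPL, hPQ⟩ := hpar P h.blk.star
  obtain ⟨A, hA, hAQ⟩ := hJ
  have hz := Blk.cent_fam hG h.blk hB hX hXS hPX hPL hPQ (eq_bot_iff.2 h.cen) hA hAQ
  have hsq : Nat.card (zl (S : Subgroup G) P) = Nat.card (zc (S : Subgroup G)) ^ 2 := by
    have h1 := h.cz
    rw [Subgroup.card_bot, one_mul] at h1
    rw [h.cv, ← h1, pow_two]
  have hT := Blk.zc_o2_fam hG h.blk hB hXc hPQ hA hAQ
  have hZX : zc (S : Subgroup G) ≤ X := hz ▸ inf_le_left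
  have key : ∀ R : Subgroup G, IsParS (S : Subgroup G) R → zl (S : Subgroup G) R = zl (S : Subgroup G) P ∧
      zc (S : Subgroup G) ⊓ centralizer (R : Set G) = ⊥ := by
    intro R hR
    obtain ⟨hRX, hRL, hRQ⟩ := hpar R hR
    obtain ⟨⟨A', hA', hAQ'⟩, V0, q', hq', h'⟩ := n1_of_star_fam hFF hG hB hX hR hRX hRL hRQ hz
    have hT' := Blk.zc_o2_fam hG h'.blk hB hXc hRQ hA' hAQ'
    have h1 := one_line_fam hG hF h.blk h'.blk
      (hB.mono hXc (zl_le_of_norm hZX (sup_le hPX hRX)) (sup_le hPL hRL)) ⟨A, hA, hAQ⟩ hT hT' hsq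
      (eq_bot_iff.2 h.cen) h'.card_le
    refine ⟨h1, h'.cen_eq (by omega) ?_⟩
    rw [h1, hsq]
  exact ⟨fun R hR => (key R hR).1, fun R hR => (key R hR).2⟩

/-- **LEMMA UNIQ for the best offenders on `X`.** -/
theorem uniq_bo (hFF : StmtM.{u}) (hG : IsCharacteristicTwoType G) (hF : ¬ FF (S : Subgroup G)) {q : ℕ}
    (h : N1 (S : Subgroup G) P ⊥ q) (hX : IsElementaryAbelian 2 X) (hXS : X ≤ (S : Subgroup G))
    (hpar : ∀ R : Subgroup G, IsParS (S : Subgroup G) R → R ≤ normalizer (X : Set G) ∧ zc (o2 R) ≤ X)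
    (hJ : ∃ A ∈ bo (S : Subgroup G) X, ¬ A ≤ o2 P) : Uniq (S : Subgroup G) P :=
  uniq_fam hFF hG hF h (bo_fam _ _) hX hXS (fun R hR => ⟨(hpar R hR).1, (hpar R hR).1, (hpar R hR).2⟩) hJ

theorem bo_eq (T K : Subgroup G) : Level.BO T K = bo T (zc K) := by
  ext A
  constructor
  · rintro ⟨h1, h2⟩
    exact ⟨h1, h2.toElemM, fun B h3 h4 => h2.max B h4 h3⟩
  · rintro ⟨h1, h2, h3⟩
    exact ⟨h1, h2, fun B h4 h5 => h3 B h5 h4⟩

/-- **LEMMA UNIQ at the level `K`**: `K ≤ O₂(R)` for all `R ∈ P*(S)`, some best offender on `Ω₁(Z(K))` is not in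
`O₂(P)`. -/
theorem uniq_lev (hFF : StmtM.{u}) (hG : IsCharacteristicTwoType G) (hF : ¬ FF (S : Subgroup G)) {q : ℕ}
    (h : N1 (S : Subgroup G) P ⊥ q) {K : Subgroup G} (hL : Level.Lev (S : Subgroup G) K)
    (hpar : ∀ R : Subgroup G, IsParS (S : Subgroup G) R → K ≤ o2 R)
    (hJ : ∃ A ∈ Level.BO (S : Subgroup G) K, ¬ A ≤ o2 P) : Uniq (S : Subgroup G) P := by
  refine uniq_bo hFF hG hF h (zc_elem K) ((zc_le K).trans hL.le) (fun R hR => ?_) (bo_eq _ K ▸ hJ)
  have hQS := o2_le S hR.toIsPar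
  exact ⟨(hL.le_norm_of_o2 (hpar R hR) hQS).trans (Level.normalizer_le_zc K), hL.zc_o2_le (hpar R hR) hQS⟩

/-- **LEMMA UNIQ at the level `n + 1`**, `V_P` natural, `|Z| = q`. -/
theorem uniq_succ (hFF : StmtM.{u}) (hG : IsCharacteristicTwoType G) (hF : ¬ FF (S : Subgroup G))
    (hP : IsParS (S : Subgroup G) P) {F : Type} [Field F] [Finite F] [CharP F 2]
    (N : NatP F (zl (S : Subgroup G) P) P) (hc : Nat.card (zc (S : Subgroup G)) = Nat.card F) (n : ℕ)
    (hpar : ∀ R : Subgroup G, IsParS (S : Subgroup G) R → Level.lev (S : Subgroup G) n ≤ o2 R)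
    (hn : ¬ Level.lev (S : Subgroup G) (n + 1) ≤ o2 P) : Uniq (S : Subgroup G) P := by
  have hL := Level.lev_isLev (S : Subgroup G) n
  refine uniq_lev hFF hG hF (n1_of_natP hG hP (minH hG hP) N hc) hL hpar ?_
  by_contra hcon
  push Not at hcon
  apply hn
  refine sup_le ?_ (sSup_le hcon)
  have hQS := o2_le S hP.toIsPar
  have h1 : zl (S : Subgroup G) P ≤ zc (Level.lev (S : Subgroup G) n) :=
    (hP.isLoc.zl_le S hG).trans (hL.zc_o2_le (hpar P hP) hQS)
  rw [← IsParS.inf_centralizer S hG hP]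
  exact inf_le_inf_left _ (centralizer_le h1)

end Cfsg.Agent.Omega.NO3S.OneLine
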