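import Cfsg.Agent.Omega.NO3S.OneLine.LevK
import Cfsg.Agent.Omega.NO3S.OneLine.LevOf

/-!
# The levels for sums of natural `SL₂(q)`-modules: `Ω₁(Z(O₂(P))) = V_P`

`V_P / C_V(O²(P))` a sum of `k` natural `SL₂(F)`-modules (`NatKM`), `C_Z(P) = 1`, a family `AA` of best offenders of
`S` with a member outside `O₂(P)`:

* `Exa.cv_eq_bot` : `C_V(O²(P)) = 1`;
* `Exa.zc_o2_nat` : `Ω₁(Z(O₂(P))) = V_P`;
* `Exa.cent_nat` : `C_X(AA) = C_V(AA) = {v ∈ V | ∀ i, e v i 1 = 0}`.
-/

set_option autoImplicit false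
set_option linter.unusedSectionVars false
set_option linter.unusedVariables false

namespace Cfsg.Agent.Omega.NO3S.OneLine

open Subgroup Cfsg Cfsg.Agent.PLocal.ThompsonJ Cfsg.Agent.ZN Cfsg.Agent.ZN.ChoiceBase Cfsg.Agent.Omega.MinPar
open Cfsg.Agent.ZN.ChoiceSit
open Cfsg.Agent.Omega.NatPair (ap ap_zero' ap_one' ap_one ap_mul ext2)
open Cfsg.Agent.Lib.SL2Mat
open Cfsg.Agent.Omega.SQ1.FFOne
open Cfsg.Agent.Omega.SQ1.Bau (elem_comm elem_sq)
open Cfsg.Agent.MinSimple.VModule (zc_le zc_le_zl zl_le le_o2 le_normalizer_zl)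
open Cfsg.Agent.Omega.FFThm (NatK ActsSL Off OffM NatKM ElemM NoOverM)
open Cfsg.Agent.Omega.FrameFF (cv)

universe u

variable {G : Type u} [Group G] [Finite G] {S : Sylow 2 G} {P X L : Subgroup G} {AA : Set (Subgroup G)}

namespace NatC

variable {F : Type} [Field F] {T H V D : Subgroup G} {k : ℕ} (M : NatC F T H V D k)
include M

theorem e_inj (hD : D = ⊥) {v w : G} (hv : v ∈ V) (hw : w ∈ V) (he : M.nat.e v = M.nat.e w) : v = w := by
  have h1 : v * w⁻¹ ∈ D := by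
    rw [← M.nat.ker _ (mul_mem hv (inv_mem hw)), M.map_div hv hw, he, sub_self]
  rw [hD, mem_bot] at h1
  exact mul_inv_eq_one.1 h1

theorem acts_eq (hD : D = ⊥) {g h : G} (hg : g ∈ H) (hh : h ∈ H)
    {A : Fin k → Matrix.SpecialLinearGroup (Fin 2) F} (hgA : M.Acts g A) (hhA : M.Acts h A) {v : G} (hv : v ∈ V) :
    g * v * g⁻¹ = h * v * h⁻¹ := by
  refine M.e_inj hD (M.Vn g hg v hv) (M.Vn h hh v hv) ?_
  funext i
  rw [hgA v hv i, hhA v hv i]

end NatC

theorem single_acts {F : Type} [Field F] {k : ℕ} (j : Fin k) (b : F) :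
    (fun i => up ((Pi.single j b : Fin k → F) i)) = Pi.mulSingle j (up b) := by
  classical
  funext i
  by_cases hi : i = j
  · subst hi; rw [Pi.single_eq_same, Pi.mulSingle_eq_same]
  · rw [Pi.single_eq_of_ne hi, Pi.mulSingle_eq_of_ne hi, up_zero]

namespace Exa

variable (h : Exa S P X L AA) {F : Type} [Field F] [Finite F] [CharP F 2] {k : ℕ}
include h

theorem minH' : MinH P (S : Subgroup G) := minH h.char2 h.star

/-- members of the family outside `O₂(P)` are offenders -/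
theorem offM {A : Subgroup G} (hA : A ∈ AA) (hAQ : ¬ A ≤ o2 P) : OffM (zl (S : Subgroup G) P) A := by
  refine h.fam.offM h.Xc h.VX hA fun h1 => hAQ ?_
  rw [← IsParS.inf_centralizer S h.char2 h.star]
  exact le_inf (h.fam.le A hA) h1

theorem cent_of_le {A : Subgroup G} (hAQ : A ≤ o2 P) : ∀ a ∈ A, ∀ v ∈ zl (S : Subgroup G) P, a * v = v * a :=
  fun a ha v hv => h.comm_Q a (hAQ ha) v hv

/-- `C_V(O²(P)) = 1` -/
theorem cv_eq_bot_of (hD : ∀ A ∈ AA, ¬ A ≤ o2 P → ∀ a ∈ A, ∀ d ∈ cv (S : Subgroup G) P, a * d = d * a) :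
    cv (S : Subgroup G) P = ⊥ := by
  have hle : cv (S : Subgroup G) P ≤ zl (S : Subgroup G) P := inf_le_left
  refine h.eq_bot (hle.trans h.VX) ?_ ?_
  · intro p hp
    rw [mem_normalizer_iff]
    intro x
    refine ⟨fun hx => SQ1.FFOf.cv_norm p hp x hx, fun hx => ?_⟩
    have := SQ1.FFOf.cv_norm p⁻¹ (inv_mem hp) _ hx
    have e : p⁻¹ * (p * x * p⁻¹) * p⁻¹⁻¹ = x := by group
    rwa [e] at this
  · intro e he A hA a ha
    by_cases hAQ : A ≤ o2 P
    · exact h.cent_of_le hAQ a ha e (hle he)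
    · exact hD A hA hAQ a ha e he

theorem cv_eq_bot (N : NatKM F (S : Subgroup G) P (zl (S : Subgroup G) P) (cv (S : Subgroup G) P) k) :
    cv (S : Subgroup G) P = ⊥ := h.cv_eq_bot_of fun A hA hAQ a ha d hd => by
  obtain ⟨I, h1, -⟩ := N.offM A (h.fam.le A hA) (h.offM hA hAQ)
  obtain ⟨b, -, hb⟩ := h1 a ha
  exact hb.2 d hd

/-- for every `j` some `A ∈ AA` contains the full root group `j` -/
theorem exists_root (N : NatKM F (S : Subgroup G) P (zl (S : Subgroup G) P) (cv (S : Subgroup G) P) k) (hk : 0 < k)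
    (j : Fin k) : ∃ A ∈ AA, ∀ b : F, ∃ a ∈ A,
      ActsSL N.e (zl (S : Subgroup G) P) (cv (S : Subgroup G) P) a (Pi.mulSingle j (up b)) := by
  classical
  have hm := h.minH'
  set M := natC_of hm hk N.toNatK with hM
  obtain ⟨A, hA, hAQ⟩ := h.ex
  obtain ⟨I, h1, h2⟩ := N.offM A (h.fam.le A hA) (h.offM hA hAQ)
  obtain ⟨i, hi⟩ : I.Nonempty := by
    by_contra hcon
    rw [Set.not_nonempty_iff_eq_empty] at hcon
    apply (h.offM hA hAQ).ne
    intro a ha
    obtain ⟨b, hb0, hb⟩ := h1 a ha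
    have hb1 : b = 0 := by
      funext l
      exact hb0 l (by rw [hcon]; simp)
    subst hb1
    have hs : a ∈ M.stab := by
      refine ⟨h.SP (h.fam.le A hA ha), fun w hw l => ?_, hb.2⟩
      have h5 : N.e (a * w * a⁻¹) l = ap (up ((0 : Fin k → F) l)) (N.e w l) := hb.1 w hw l
      rw [Pi.zero_apply, up_zero] at h5
      exact h5
    exact mem_centralizer_iff.2 fun w hw => (M.cent_of_stab hm hs hw).symm
  obtain ⟨t, ht, htr⟩ := N.trans i j
  have hcj : cj t A ≤ (S : Subgroup G) := by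
    have h3 := cj_mono t (h.fam.le A hA)
    rwa [cj_eq_of_mem_normalizer (le_normalizer ht : t ∈ normalizer ((S : Subgroup G) : Set G))] at h3
  have hA' := h.fam.conj A hA t (h.PL (h.SP ht)) hcj
  have hAQ' : ¬ cj t A ≤ o2 P := by
    intro h3
    apply hAQ
    have h4 := cj_mono t⁻¹ h3
    rw [cj_inv_cj, cj_eq_of_mem_normalizer (le_normalizer_o2 P (h.SP (inv_mem ht)))] at h4
    exact h4
  obtain ⟨I', h1', h2'⟩ := N.offM (cj t A) hcj (h.offM hA' hAQ')
  have hj : j ∈ I' := by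
    by_contra hj
    obtain ⟨a, ha, hac⟩ := h2 (Pi.single i 1) fun l hl => by
      rw [Pi.single_eq_of_ne]
      rintro rfl
      exact hl hi
    rw [single_acts] at hac
    obtain ⟨v, hv, hev⟩ := N.surj (Pi.single i ![0, 1])
    have haP := h.SP (h.fam.le A hA ha)
    have hav := conj_mem h.PV haP hv
    have htP := h.SP ht
    have hu : a * v * a⁻¹ * v⁻¹ ∈ zl (S : Subgroup G) P := mul_mem hav (inv_mem hv)
    have htv := conj_mem h.PV htP hv
    have ha' : t * a * t⁻¹ ∈ cj t A := ⟨a, ha, rfl⟩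
    obtain ⟨b', hb0, hb'⟩ := h1' _ ha'
    have h3 : N.e (t * (a * v * a⁻¹ * v⁻¹) * t⁻¹) j = 0 := by
      have e1 : t * (a * v * a⁻¹ * v⁻¹) * t⁻¹ =
          (t * a * t⁻¹) * (t * v * t⁻¹) * (t * a * t⁻¹)⁻¹ * (t * v * t⁻¹)⁻¹ := by group
      have h4 : (t * a * t⁻¹) * (t * v * t⁻¹) * (t * a * t⁻¹)⁻¹ ∈ zl (S : Subgroup G) P :=
        conj_mem h.PV (h.SP (hcj ha')) htv
      have h5 : N.e ((t * a * t⁻¹) * (t * v * t⁻¹) * (t * a * t⁻¹)⁻¹) j =
          ap (up (b' j)) (N.e (t * v * t⁻¹) j) := hb'.1 _ htv j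
      have hd : N.e ((t * a * t⁻¹) * (t * v * t⁻¹) * (t * a * t⁻¹)⁻¹ * (t * v * t⁻¹)⁻¹) =
          N.e ((t * a * t⁻¹) * (t * v * t⁻¹) * (t * a * t⁻¹)⁻¹) - N.e (t * v * t⁻¹) := M.map_div h4 htv
      rw [e1, hd, Pi.sub_apply, h5, hb0 j hj, up_zero, ap_one, sub_self]
    have h6 := (htr _ hu).1 h3
    rw [show N.e (a * v * a⁻¹ * v⁻¹) = N.e (a * v * a⁻¹) - N.e v from M.map_div hav hv] at h6
    have h7 : N.e (a * v * a⁻¹) i = ap ((Pi.mulSingle i (up 1) : Fin k → _) i) (N.e v i) := hac.1 v hv i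
    rw [Pi.sub_apply, h7, Pi.mulSingle_eq_same, hev, Pi.single_eq_same] at h6
    have h8 := congrFun h6 0
    rw [Pi.sub_apply, ap_zero', up_00, up_01] at h8
    simp at h8
  refine ⟨cj t A, hA', fun b => ?_⟩
  obtain ⟨a, ha, hac⟩ := h2' (Pi.single j b) fun l hl => by
    rw [Pi.single_eq_of_ne]
    rintro rfl
    exact hl hj
  rw [single_acts] at hac
  exact ⟨a, ha, hac⟩

open Classical in
/-- the elements of `N₀` which act as `f b` on the block `j` and trivially on the other blocks -/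
def EU (h : Exa S P X L AA) (M : NatC F (S : Subgroup G) P (zl (S : Subgroup G) P) (cv (S : Subgroup G) P) k)
    (j : Fin k) (f : F → Matrix.SpecialLinearGroup (Fin 2) F) (hf : ∀ a b, f a * f b = f (a + b)) :
    Subgroup G where
  carrier := {g | g ∈ h.N0 ∧ ∃ b, M.Acts g (Pi.mulSingle j (f b))}
  mul_mem' := by
    rintro x y ⟨hx, a, ha⟩ ⟨hy, b, hb⟩
    refine ⟨mul_mem hx hy, a + b, ?_⟩
    have := NatC.acts_mul (M := M) hy.1 ha hb
    rwa [← Pi.mulSingle_mul, hf] at this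
  one_mem' := by
    refine ⟨one_mem _, 0, ?_⟩
    have h0 : f 0 = 1 := by
      have := hf 0 0
      rw [add_zero] at this
      exact mul_eq_left.1 this
    rw [h0, Pi.mulSingle_one]
    exact NatC.acts_one
  inv_mem' := by
    rintro x ⟨hx, a, ha⟩
    refine ⟨inv_mem hx, -a, ?_⟩
    have h0 : f 0 = 1 := by
      have := hf 0 0
      rw [add_zero] at this
      exact mul_eq_left.1 this
    have h1 : f (-a) = (f a)⁻¹ := by
      rw [eq_inv_iff_mul_eq_one, hf, neg_add_cancel, h0]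
    have := NatC.acts_inv (M := M) hx.1 ha
    rw [h1]
    rwa [← Pi.mulSingle_inv] at this

/-- **(T6) `Ω₁(Z(O₂(P))) = V_P`** for sums of natural modules. -/
theorem zc_o2_nat (N : NatKM F (S : Subgroup G) P (zl (S : Subgroup G) P) (cv (S : Subgroup G) P) k) (hk : 0 < k) :
    zc (o2 P) = zl (S : Subgroup G) P := by
  classical
  have hm := h.minH'
  have hD := h.cv_eq_bot N
  set V := zl (S : Subgroup G) P with hV
  let M : NatC F (S : Subgroup G) P V (cv (S : Subgroup G) P) k := natC_of hm hk N.toNatK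
  -- the blocks
  let E : Fin k × Bool → Subgroup G := fun p =>
    if p.2 then h.EU M p.1 lo lo_mul else h.EU M p.1 up up_mul
  have hEt : ∀ j, E (j, true) = h.EU M j lo lo_mul := fun j => if_pos rfl
  have hEf : ∀ j, E (j, false) = h.EU M j up up_mul := fun j => if_neg (by simp)
  have hE0 : ∀ p, E p ≤ h.N0 := by
    rintro ⟨j, (_ | _)⟩
    · rw [hEf]; exact fun g hg => hg.1
    · rw [hEt]; exact fun g hg => hg.1
  -- elements of `N₀` which agree on `V` agree on `Ω₁(Z(Q))`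
  have hagree : ∀ g ∈ h.N0, ∀ m ∈ h.N0, (∀ v ∈ V, g * v * g⁻¹ = m * v * m⁻¹) → ∀ y ∈ zc (o2 P),
      m * y = y * m → g * y = y * g := by
    intro g hg m hm' hgm y hy hmy
    have h1 := h.cent_zcQ (mul_mem (inv_mem hm') hg) (fun u hu => by
      have h8 := hgm u hu
      calc m⁻¹ * g * u = m⁻¹ * (g * u * g⁻¹) * g := by group
        _ = m⁻¹ * (m * u * m⁻¹) * g := by rw [h8]
        _ = _ := by group) y hy
    have c1 : Commute m y := hmy
    have c2 : Commute (m⁻¹ * g) y := h1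
    have e : g = m * (m⁻¹ * g) := by group
    rw [e]
    exact (c1.mul_left c2).eq
  -- fixed points of the upper root groups
  have hup : ∀ j, ∀ y ∈ zc (o2 P), ∃ v ∈ V, ∀ g ∈ h.EU M j up up_mul, g * (y * v) = y * v * g := by
    intro j y hy
    obtain ⟨A, hA, hroot⟩ := h.exists_root N hk j
    obtain ⟨v, hv, hvA⟩ := h.zcQ hA hy
    refine ⟨v, hv, ?_⟩
    rintro g ⟨hg, b, hb⟩
    obtain ⟨a, ha, hac⟩ := hroot b
    refine hagree g hg a (h.le_N0 hA ha) (fun u hu => ?_) (y * v) (mul_mem hy (h.VQ hv)) (hvA a ha)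
    exact M.acts_eq hD hg.1 (h.SP (h.fam.le A hA ha)) hb hac.1 hu
  -- fixed points of the lower root groups
  have hlo : ∀ j, ∀ y ∈ zc (o2 P), ∃ v ∈ V, ∀ g ∈ h.EU M j lo lo_mul, g * (y * v) = y * v * g := by
    intro j y hy
    obtain ⟨w, hw, hwA, -⟩ := N.lift (Pi.mulSingle j (wm 1 one_ne_zero))
    have hwA' : M.Acts w (Pi.mulSingle j (wm 1 one_ne_zero)) := hwA
    obtain ⟨v', hv', hfix⟩ := hup j (w * y * w⁻¹) (conj_mem h.zcQ_norm hw hy)
    refine ⟨w⁻¹ * v' * w, ?_, ?_⟩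
    · have := conj_mem h.PV (inv_mem hw) hv'
      rwa [inv_inv] at this
    · rintro g ⟨hg, b, hb⟩
      have h1 : w * g * w⁻¹ ∈ h.EU M j up up_mul := by
        refine ⟨conj_mem h.N0_norm hw hg, -(b * 1 ^ 2), ?_⟩
        have h2 := NatC.acts_mul (M := M) (inv_mem hw) (NatC.acts_mul (M := M) hg.1 hwA' hb)
          (NatC.acts_inv (M := M) hw hwA')
        have e : (Pi.mulSingle j (wm 1 one_ne_zero) : Fin k → Matrix.SpecialLinearGroup (Fin 2) F) *
            Pi.mulSingle j (lo b) * (Pi.mulSingle j (wm 1 one_ne_zero))⁻¹ =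
            Pi.mulSingle j (up (-(b * 1 ^ 2))) := by
          rw [← Pi.mulSingle_inv, ← Pi.mulSingle_mul, ← Pi.mulSingle_mul, wm_lo, mul_inv_cancel_right]
        rwa [e] at h2
      have h3 := hfix _ h1
      calc g * (y * (w⁻¹ * v' * w)) = w⁻¹ * ((w * g * w⁻¹) * (w * y * w⁻¹ * v')) * w := by group
        _ = w⁻¹ * ((w * y * w⁻¹ * v') * (w * g * w⁻¹)) * w := by rw [h3]
        _ = _ := by group
  -- centralisers in `V`
  have hcu : ∀ j, ∀ v ∈ V, N.e v j 1 = 0 → ∀ g ∈ h.EU M j up up_mul, g * v = v * g := by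
    rintro j v hv h0 g ⟨hg, b, hb⟩
    have h1 : g * v * g⁻¹ = v := by
      refine M.e_inj hD (conj_mem h.PV hg.1 hv) hv ?_
      funext i
      rw [hb v hv i]
      by_cases hi : i = j
      · subst hi
        rw [Pi.mulSingle_eq_same]
        apply ext2
        · rw [ap_zero', up_00, up_01]
          show 1 * N.e v i 0 + b * N.e v i 1 = N.e v i 0
          rw [h0, mul_zero, one_mul, add_zero]
        · rw [ap_one', up_10, up_11, zero_mul, zero_add, one_mul]
      · rw [Pi.mulSingle_eq_of_ne hi, ap_one]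
    calc g * v = g * v * g⁻¹ * g := by group
      _ = v * g := by rw [h1]
  have hcl : ∀ j, ∀ v ∈ V, N.e v j 0 = 0 → ∀ g ∈ h.EU M j lo lo_mul, g * v = v * g := by
    rintro j v hv h0 g ⟨hg, b, hb⟩
    have h1 : g * v * g⁻¹ = v := by
      refine M.e_inj hD (conj_mem h.PV hg.1 hv) hv ?_
      funext i
      rw [hb v hv i]
      by_cases hi : i = j
      · subst hi
        rw [Pi.mulSingle_eq_same]
        apply ext2
        · rw [ap_zero', lo_00, lo_01, zero_mul, add_zero, one_mul]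
        · rw [ap_one', lo_10, lo_11]
          show b * N.e v i 0 + 1 * N.e v i 1 = N.e v i 1
          rw [h0, mul_zero, one_mul, zero_add]
      · rw [Pi.mulSingle_eq_of_ne hi, ap_one]
    calc g * v = g * v * g⁻¹ * g := by group
      _ = v * g := by rw [h1]
  -- `⟨E⟩` induces `SL₂(F)^k`
  have hgen : ∀ B : Fin k → Matrix.SpecialLinearGroup (Fin 2) F, ∃ m ∈ ⨆ p, E p, M.Acts m B := by
    have hsP : (⨆ p, E p) ≤ P := (iSup_le hE0).trans fun g hg => hg.1
    let R : Subgroup (Fin k → Matrix.SpecialLinearGroup (Fin 2) F) :=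
      { carrier := {B | ∃ m ∈ ⨆ p, E p, M.Acts m B}
        mul_mem' := by
          rintro A B ⟨m, hm, hmA⟩ ⟨n, hn, hnB⟩
          exact ⟨m * n, mul_mem hm hn, NatC.acts_mul (hsP hn) hmA hnB⟩
        one_mem' := ⟨1, one_mem _, NatC.acts_one⟩
        inv_mem' := by
          rintro A ⟨m, hm, hmA⟩
          exact ⟨m⁻¹, inv_mem hm, NatC.acts_inv (hsP hm) hmA⟩ }
    have hRu : ∀ j b, Pi.mulSingle j (up b) ∈ R := by
      intro j b
      obtain ⟨A, hA, hroot⟩ := h.exists_root N hk j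
      obtain ⟨a, ha, hac⟩ := hroot b
      exact ⟨a, le_iSup E (j, false) (by rw [hEf]; exact ⟨h.le_N0 hA ha, b, hac.1⟩), hac.1⟩
    have hRl : ∀ j b, Pi.mulSingle j (lo b) ∈ R := by
      intro j b
      obtain ⟨w, hw, hwA, -⟩ := N.lift (Pi.mulSingle j (wm 1 one_ne_zero))
      have hwA' : M.Acts w (Pi.mulSingle j (wm 1 one_ne_zero)) := hwA
      obtain ⟨A, hA, hroot⟩ := h.exists_root N hk j
      obtain ⟨a, ha, hac⟩ := hroot (-(b * 1 ^ 2))
      have haP := h.SP (h.fam.le A hA ha)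
      have h2 := NatC.acts_mul (M := M) hw (NatC.acts_mul (M := M) haP (NatC.acts_inv (M := M) hw hwA')
        (show M.Acts a (Pi.mulSingle j (up (-(b * 1 ^ 2)))) from hac.1)) hwA'
      have e : (Pi.mulSingle j (wm 1 one_ne_zero) : Fin k → Matrix.SpecialLinearGroup (Fin 2) F)⁻¹ *
          Pi.mulSingle j (up (-(b * 1 ^ 2))) * Pi.mulSingle j (wm 1 one_ne_zero) = Pi.mulSingle j (lo b) := by
        rw [← Pi.mulSingle_inv, ← Pi.mulSingle_mul, ← Pi.mulSingle_mul, mul_assoc, ← wm_lo, inv_mul_cancel_left]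
      rw [e] at h2
      refine ⟨w⁻¹ * a * w, le_iSup E (j, true) ?_, h2⟩
      rw [hEt]
      refine ⟨?_, b, h2⟩
      have := conj_mem h.N0_norm (inv_mem hw) (h.le_N0 hA ha)
      rwa [inv_inv] at this
    intro B
    have hB : B ∈ R := by
      refine Subgroup.pi_mem_of_mulSingle_mem B fun j => ?_
      obtain ⟨a, b, c, d, e⟩ := exists_up_lo (B j)
      rw [e, Pi.mulSingle_mul, Pi.mulSingle_mul, Pi.mulSingle_mul]
      exact mul_mem (mul_mem (mul_mem (hRu j a) (hRl j b)) (hRu j c)) (hRl j d)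
    exact hB
  refine h.zc_eq_of E hE0 ?_ ?_ ?_ ?_
  · rintro ⟨j, (_ | _)⟩
    · rw [hEf]; exact hup j
    · rw [hEt]; exact hlo j
  · intro w hw
    obtain ⟨v, hv, hev⟩ := N.surj fun j => ![N.e (w (j, true)) j 0, N.e (w (j, false)) j 1]
    refine ⟨v, hv, ?_⟩
    rintro ⟨j, (_ | _)⟩
    · rw [hEf]
      refine hcu j _ (mul_mem hv (inv_mem (hw _))) ?_
      rw [show N.e (v * (w (j, false))⁻¹) = N.e v - N.e (w (j, false)) from M.map_div hv (hw _), hev]
      simp
    · rw [hEt]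
      refine hcl j _ (mul_mem hv (inv_mem (hw _))) ?_
      rw [show N.e (v * (w (j, true))⁻¹) = N.e v - N.e (w (j, true)) from M.map_div hv (hw _), hev]
      simp
  · intro v hv hcen
    refine M.e_inj hD hv (one_mem _) ?_
    rw [M.map_one]
    show N.e v = 0
    funext j
    have hu1 : N.e v j 1 = 0 := by
      obtain ⟨A, hA, hroot⟩ := h.exists_root N hk j
      obtain ⟨a, ha, hac⟩ := hroot 1
      have h1 : a * v = v * a := hcen (j, false) a (by rw [hEf]; exact ⟨h.le_N0 hA ha, 1, hac.1⟩)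
      have h2 : N.e (a * v * a⁻¹) j = ap ((Pi.mulSingle j (up 1) : Fin k → _) j) (N.e v j) := hac.1 v hv j
      have h3 : a * v * a⁻¹ = v := by rw [h1]; group
      rw [h3, Pi.mulSingle_eq_same] at h2
      have h4 := congrFun h2 0
      rw [ap_zero', up_00, up_01, one_mul, one_mul] at h4
      exact left_eq_add.1 h4
    have hu0 : N.e v j 0 = 0 := by
      obtain ⟨m, hm', hmA⟩ := hgen (Pi.mulSingle j (lo 1))
      have h1 : m * v = v * m := by
        have h5 : (⨆ p, E p) ≤ centralizer {v} := iSup_le fun p g hg => by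
          rw [mem_centralizer_singleton_iff]
          exact hcen p g hg
        exact mem_centralizer_singleton_iff.1 (h5 hm')
      have h2 : N.e (m * v * m⁻¹) j = ap ((Pi.mulSingle j (lo 1) : Fin k → _) j) (N.e v j) := hmA v hv j
      have h3 : m * v * m⁻¹ = v := by rw [h1]; group
      rw [h3, Pi.mulSingle_eq_same] at h2
      have h4 := congrFun h2 1
      rw [ap_one', lo_10, lo_11, one_mul, one_mul] at h4
      exact right_eq_add.1 h4
    exact ext2 hu0 hu1
  · intro s hs p g hg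
    have hgN := hE0 p hg
    have hgA : ∃ A : Fin k → Matrix.SpecialLinearGroup (Fin 2) F, ∀ v ∈ V, ∀ i,
        N.e (g * v * g⁻¹) i = ap (A i) (N.e v i) := by
      obtain ⟨j, (_ | _)⟩ := p
      · rw [hEf] at hg
        obtain ⟨-, b, hb⟩ := hg
        exact ⟨_, hb⟩
      · rw [hEt] at hg
        obtain ⟨-, b, hb⟩ := hg
        exact ⟨_, hb⟩
    obtain ⟨A, hA⟩ := hgA
    obtain ⟨B, hB⟩ := N.norm s (h.SP hs) g hgN.1 A hA
    obtain ⟨m, hm', hmB⟩ := hgen B
    refine ⟨m, hm', fun v hv => ?_⟩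
    have hsP := h.SP hs
    exact M.acts_eq hD (mul_mem (mul_mem hsP hgN.1) (inv_mem hsP)) ((iSup_le hE0 hm').1) hB hmB hv

/-- **`C_X(AA) = C_V(AA)`**, the product of the lines. -/
theorem cent_nat (N : NatKM F (S : Subgroup G) P (zl (S : Subgroup G) P) (cv (S : Subgroup G) P) k) (hk : 0 < k)
    {x : G} : x ∈ X ⊓ centralizer ((sSup AA : Subgroup G) : Set G) ↔
      x ∈ zl (S : Subgroup G) P ∧ ∀ i, N.e x i 1 = 0 := by
  classical
  have hm := h.minH'
  have hT := h.zc_o2_nat N hk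
  rw [h.cent_eq hT]
  constructor
  · rintro ⟨hx, hxA⟩
    refine ⟨hx, fun j => ?_⟩
    obtain ⟨A, hA, hroot⟩ := h.exists_root N hk j
    obtain ⟨a, ha, hac⟩ := hroot 1
    have h1 : a * x = x * a := mem_cent_sSup.1 hxA A hA a ha
    have h2 : N.e (a * x * a⁻¹) j = ap ((Pi.mulSingle j (up 1) : Fin k → _) j) (N.e x j) := hac.1 x hx j
    have h3 : a * x * a⁻¹ = x := by rw [h1]; group
    rw [h3, Pi.mulSingle_eq_same] at h2
    have h4 := congrFun h2 0
    rw [ap_zero', up_00, up_01, one_mul, one_mul] at h4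
    exact left_eq_add.1 h4
  · rintro ⟨hx, hx1⟩
    refine ⟨hx, mem_cent_sSup.2 fun B hB b hb => ?_⟩
    by_cases hBQ : B ≤ o2 P
    · exact h.cent_of_le hBQ b hb x hx
    · obtain ⟨I, h1, h2⟩ := N.offM B (h.fam.le B hB) (h.offM hB hBQ)
      exact (natC_of hm hk N.toNatK).cent_line hm (h.fam.le B hB) (h.fam.off h.Xc h.VX hB) h1 h2 hx hx1 hb

end Exa

end Cfsg.Agent.Omega.NO3S.OneLine
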