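import Cfsg.Agent.Omega.NO3S.OneLine.LevKSym
import Cfsg.Agent.Omega.NO3S.OneLine.LevOf

/-!
# The levels `K` of `Level/Basic.lean` for FF-modules of every type

`K` a level, `K ≤ O₂(P)`, `P ∈ P*(S)`, `C_Z(P) = 1`, some best offender of `S` on `Ω₁(Z(K))` is not contained in
`O₂(P)`:

* `exa_lev`, `exa_AA` : the structure `Exa`, and the type of `V_P` (FF theorem);
* `zc_o2_lev` : `Ω₁(Z(O₂(P))) = V_P`;
* `zc_nxt_lev` : `Ω₁(Z(nxt S K)) = C_{V_P}(nxt S K)`.
-/

set_option autoImplicit false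
set_option linter.unusedSectionVars false
set_option linter.unusedVariables false

namespace Cfsg.Agent.Omega.NO3S.OneLine

open Subgroup Cfsg Cfsg.Agent.PLocal.ThompsonJ Cfsg.Agent.ZN Cfsg.Agent.ZN.ChoiceBase Cfsg.Agent.Omega.MinPar
open Cfsg.Agent.MinSimple.VModule (zc_le zc_le_zl zl_le le_o2 le_normalizer_zl)
open Cfsg.Agent.Omega.FFThm (NatKM SymKM OffM ElemM NoOverM StmtM ConclM)
open Cfsg.Agent.Omega.FrameFF (cv)

universe u

variable {G : Type u} [Group G] [Finite G] {S : Sylow 2 G} {P K X : Subgroup G}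

/-- The FF theorem for `P` and the best offenders on `X`. -/
theorem exa_bo (hFF : StmtM.{u}) (hG : IsCharacteristicTwoType G) (hP : IsParS (S : Subgroup G) P)
    (hX : IsElementaryAbelian 2 X) (hXS : X ≤ (S : Subgroup G)) (hPX : P ≤ normalizer (X : Set G))
    (hQX : zc (o2 P) ≤ X) (hcen : zc (S : Subgroup G) ⊓ centralizer (P : Set G) = ⊥)
    (hJ : ∃ A ∈ bo (S : Subgroup G) X, ¬ A ≤ o2 P) :
    Exa S P X (normalizer (X : Set G)) (bo (S : Subgroup G) X) ∧ ConclM (S : Subgroup G) P := by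
  obtain ⟨A, hA, hAQ⟩ := hJ
  have hB := bo_fam (S : Subgroup G) X
  have hVX : zl (S : Subgroup G) P ≤ X := (hP.isLoc.zl_le S hG).trans hQX
  have hXc : ∀ x ∈ X, ∀ y ∈ X, x * y = y * x := SQ1.Bau.elem_comm hX
  have hoff : OffM (zl (S : Subgroup G) P) A := by
    refine hB.offM hXc hVX hA fun h1 => hAQ ?_
    rw [← IsParS.inf_centralizer S hG hP]
    exact le_inf (hB.le A hA) h1
  obtain ⟨hno, hcon⟩ := hFF G (S : Subgroup G) P (syl_of hP) hP.toIsMinPar (hP.isLoc.char2 S hG)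
    ⟨A, (hB.le A hA).trans (syl_of hP).1, hoff⟩
  exact ⟨⟨hG, hP, hB, hX, hXS, hPX, hPX, hQX, hno, hcen, A, hA, hAQ⟩, hcon⟩

/-- The same at a level `K`. -/
theorem exa_lev (hFF : StmtM.{u}) (hG : IsCharacteristicTwoType G) (hP : IsParS (S : Subgroup G) P)
    (hL : Level.Lev (S : Subgroup G) K) (hK : K ≤ o2 P)
    (hcen : zc (S : Subgroup G) ⊓ centralizer (P : Set G) = ⊥)
    (hJ : ∃ A ∈ Level.BO (S : Subgroup G) K, ¬ A ≤ o2 P) :
    Exa S P (zc K) (normalizer ((zc K : Subgroup G) : Set G)) (Level.BO (S : Subgroup G) K) ∧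
      ConclM (S : Subgroup G) P := by
  have hQS := o2_le S hP.toIsPar
  have h1 := exa_bo hFF hG hP (zc_elem K) ((zc_le K).trans hL.le)
    ((hL.le_norm_of_o2 hK hQS).trans (Level.normalizer_le_zc K)) (hL.zc_o2_le hK hQS) hcen (bo_eq _ K ▸ hJ)
  rw [bo_eq]
  exact h1

/-- **(T6) at every level, every type**: `Ω₁(Z(O₂(P))) = V_P`. -/
theorem Exa.zc_o2 {L : Subgroup G} {AA : Set (Subgroup G)} (h : Exa S P X L AA)
    (hc : ConclM (S : Subgroup G) P) : zc (o2 P) = zl (S : Subgroup G) P := by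
  rcases hc with ⟨F, _, _, _, k, hk, ⟨M⟩⟩ | ⟨k, m, hk, hm, ⟨M⟩⟩
  · exact h.zc_o2_nat M hk
  · exact h.zc_o2_sym M hk (by omega)

/-- **`C_X(AA) = C_{V_P}(AA)`**, every type. -/
theorem Exa.cent_eq' {L : Subgroup G} {AA : Set (Subgroup G)} (h : Exa S P X L AA)
    (hc : ConclM (S : Subgroup G) P) : X ⊓ centralizer ((sSup AA : Subgroup G) : Set G) =
      zl (S : Subgroup G) P ⊓ centralizer ((sSup AA : Subgroup G) : Set G) := h.cent_eq (h.zc_o2 hc)

/-- `Ω₁(Z(nxt S K)) = C_{Ω₁(Z(K))}(BO)` -/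
theorem zc_nxt_eq (hL : Level.Lev (S : Subgroup G) K) : zc (Level.nxt (S : Subgroup G) K) =
    zc K ⊓ centralizer ((sSup (Level.BO (S : Subgroup G) K) : Subgroup G) : Set G) := by
  have hKn : K ≤ Level.nxt (S : Subgroup G) K := Level.le_nxt hL.le
  apply le_antisymm
  · refine le_inf (hL.zc_le_zc hKn (Level.nxt_le _ _)) fun x hx => mem_centralizer_iff.2 fun a ha => ?_
    exact (mem_zc.1 hx).2.2 a (mem_sup_right ha)
  · rintro x ⟨hx, hxA⟩
    refine mem_zc.2 ⟨hKn (mem_zc.1 hx).1, (mem_zc.1 hx).2.1, ?_⟩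
    have h1 : Level.nxt (S : Subgroup G) K ≤ centralizer {x} := by
      refine sup_le (fun c hc => ?_) (fun c hc => ?_)
      · rw [mem_centralizer_singleton_iff]
        exact (mem_centralizer_iff.1 hc.2 x hx).symm
      · rw [mem_centralizer_singleton_iff]
        exact mem_centralizer_iff.1 hxA c hc
    exact fun y hy => mem_centralizer_singleton_iff.1 (h1 hy)

/-- **`Ω₁(Z(O₂(P))) = V_P` and `Ω₁(Z(nxt S K)) = C_{V_P}(nxt S K)`** at the level `K`, every type. -/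
theorem lev_eq (hFF : StmtM.{u}) (hG : IsCharacteristicTwoType G) (hP : IsParS (S : Subgroup G) P)
    (hL : Level.Lev (S : Subgroup G) K) (hK : K ≤ o2 P)
    (hcen : zc (S : Subgroup G) ⊓ centralizer (P : Set G) = ⊥)
    (hJ : ∃ A ∈ Level.BO (S : Subgroup G) K, ¬ A ≤ o2 P) :
    zc (o2 P) = zl (S : Subgroup G) P ∧ zc (Level.nxt (S : Subgroup G) K) =
      zl (S : Subgroup G) P ⊓ centralizer ((Level.nxt (S : Subgroup G) K : Subgroup G) : Set G) := by
  obtain ⟨h, hc⟩ := exa_lev hFF hG hP hL hK hcen hJ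
  have hT := h.zc_o2 hc
  refine ⟨hT, le_antisymm (le_inf ?_ ?_) ?_⟩
  · rw [zc_nxt_eq hL]
    exact h.cent hT
  · exact fun x hx => mem_centralizer_iff.2 fun a ha => (mem_zc.1 hx).2.2 a ha
  · rintro x ⟨hx, hxA⟩
    rw [zc_nxt_eq hL]
    refine ⟨h.VX hx, mem_centralizer_iff.2 fun a ha => ?_⟩
    exact mem_centralizer_iff.1 hxA a (mem_sup_right ha)

end Cfsg.Agent.Omega.NO3S.OneLine
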