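import Cfsg.Agent.Omega.NO3S.OneLine.LevStep
import Cfsg.Agent.Omega.NO3S.OneLine.Nat

/-!
# The levels for FF-modules with several blocks, type-free part (helper781 #16560 (1), helper930 #16843)

`P ∈ P*(S)`, `V = V_P`, `C_Z(P) = 1`, no over-offender on `V`, `AA` a family of best offenders of `S` on `X`:

* `Exa` : the hypotheses; `Exa.exact` : `|A| |C_V(A)| = |V| |A ∩ Q|` for `A ∈ AA`;
* `Exa.cut` : `C_X(A ∩ Q) = V C_X(A)`;
* `Exa.zcQ` : `Ω₁(Z(Q)) = V C_{Ω₁(Z(Q))}(A)`;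
* `Exa.cent` : `C_X(AA) ≤ V` if `Ω₁(Z(Q)) = V`;
* `Exa.zc_eq_of` : `Ω₁(Z(Q)) = V`, from the data of the blocks.
-/

set_option autoImplicit false
set_option linter.unusedSectionVars false
set_option linter.unusedVariables false

namespace Cfsg.Agent.Omega.NO3S.OneLine

open Subgroup Cfsg Cfsg.Agent.ZN Cfsg.Agent.ZN.ChoiceBase Cfsg.Agent.Omega.MinPar
open Cfsg.Agent.Omega.SQ1.Bau (mem_AA_of_comm zj_le_AA elem_comm elem_sq mem_sup_comm card_sup_comm mem_sup_norm)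
open Cfsg.Agent.PLocal.ElemAbSup Cfsg.Agent.PLocal.ThompsonJ
open Cfsg.Agent.MinSimple.VModule (zc_le zc_le_zl zl_le le_o2 le_normalizer_zl le_normalizer_o2)
open Cfsg.Agent.Omega.FFThm (ElemM NoOverM OffM)

universe u

variable {G : Type u} [Group G] [Finite G] {S : Sylow 2 G} {P X L : Subgroup G} {AA : Set (Subgroup G)}

/-- `P ∈ P*(S)`, no over-offender on `V_P`, a family `AA` of best offenders on `X ≥ Ω₁(Z(O₂(P)))`. -/
structure Exa (S : Sylow 2 G) (P X L : Subgroup G) (AA : Set (Subgroup G)) : Prop where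
  char2 : IsCharacteristicTwoType G
  star : IsParS (S : Subgroup G) P
  fam : BFam (S : Subgroup G) X L AA
  elem : IsElementaryAbelian 2 X
  le : X ≤ (S : Subgroup G)
  norm : P ≤ normalizer (X : Set G)
  PL : P ≤ L
  QX : zc (o2 P) ≤ X
  noOver : NoOverM (zl (S : Subgroup G) P) P
  cen : zc (S : Subgroup G) ⊓ centralizer (P : Set G) = ⊥
  ex : ∃ A ∈ AA, ¬ A ≤ o2 P

namespace Exa

variable (h : Exa S P X L AA)
include h

theorem Xc : ∀ x ∈ X, ∀ y ∈ X, x * y = y * x := elem_comm h.elem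

theorem QS : o2 P ≤ (S : Subgroup G) := o2_le S h.star.toIsPar

theorem SP : (S : Subgroup G) ≤ P := h.star.le

theorem PV : P ≤ normalizer (zl (S : Subgroup G) P : Set G) := le_normalizer_zl _ _

theorem VQ : zl (S : Subgroup G) P ≤ zc (o2 P) := h.star.isLoc.zl_le S h.char2

theorem VX : zl (S : Subgroup G) P ≤ X := h.VQ.trans h.QX

theorem ZX : zc (S : Subgroup G) ≤ X := (zc_le_zl _ _).trans h.VX

theorem SQn : (S : Subgroup G) ≤ normalizer (o2 P : Set G) := h.SP.trans (le_normalizer_o2 P)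

theorem comm_Q : ∀ a ∈ o2 P, ∀ v ∈ zl (S : Subgroup G) P, a * v = v * a := fun a ha v hv =>
  (mem_zc.1 (h.VQ hv)).2.2 a ha

theorem inf_cent {A : Subgroup G} (hA : A ≤ (S : Subgroup G)) :
    A ⊓ centralizer (zl (S : Subgroup G) P : Set G) = A ⊓ o2 P := by
  rw [← IsParS.inf_centralizer S h.char2 h.star, ← inf_assoc, inf_eq_left.2 hA]

/-- exactness -/
theorem exact {A : Subgroup G} (hA : A ∈ AA) :
    Nat.card A * Nat.card ↥(zl (S : Subgroup G) P ⊓ centralizer (A : Set G)) =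
      Nat.card (zl (S : Subgroup G) P) * Nat.card ↥(A ⊓ o2 P) := by
  have hAS := h.fam.le A hA
  have h1 := h.fam.off h.Xc h.VX hA
  have h2 := h.noOver A (hAS.trans h.SP) (elemM_mono (h.fam.elem A hA) h.VX le_rfl)
  rw [h.inf_cent hAS] at h1 h2
  exact le_antisymm h2 h1

/-- `|A ∩ Q| |C_X(A ∩ Q)| = |A| |C_X(A)|` and `C_X(A ∩ Q) = V C_X(A)`. -/
theorem cut {A : Subgroup G} (hA : A ∈ AA) :
    Nat.card ↥(A ⊓ o2 P) * Nat.card ↥(X ⊓ centralizer ((A ⊓ o2 P : Subgroup G) : Set G)) =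
        Nat.card A * Nat.card ↥(X ⊓ centralizer (A : Set G)) ∧
      zl (S : Subgroup G) P ⊔ (X ⊓ centralizer (A : Set G)) =
        X ⊓ centralizer ((A ⊓ o2 P : Subgroup G) : Set G) := by
  have hAS := h.fam.le A hA
  have hc := h.exact hA
  have hle : zl (S : Subgroup G) P ⊔ (X ⊓ centralizer (A : Set G)) ≤
      X ⊓ centralizer ((A ⊓ o2 P : Subgroup G) : Set G) := by
    refine sup_le (le_inf h.VX fun v hv => mem_centralizer_iff.2 fun a ha => h.comm_Q a ha.2 v hv) ?_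
    exact inf_le_inf_left _ (centralizer_le inf_le_left)
  have h1 := card_sup_comm (A := zl (S : Subgroup G) P) (B := X ⊓ centralizer (A : Set G))
    fun v hv x hx => h.Xc v (h.VX hv) x hx.1
  have h2 : zl (S : Subgroup G) P ⊓ (X ⊓ centralizer (A : Set G)) =
      zl (S : Subgroup G) P ⊓ centralizer (A : Set G) := by
    rw [← inf_assoc, inf_eq_left.2 h.VX]
  rw [h2] at h1
  have hp : 0 < Nat.card ↥(zl (S : Subgroup G) P ⊓ centralizer (A : Set G)) := Nat.card_pos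
  have h4 : Nat.card ↥(A ⊓ o2 P) * Nat.card ↥(X ⊓ centralizer ((A ⊓ o2 P : Subgroup G) : Set G)) ≤
      Nat.card A * Nat.card ↥(X ⊓ centralizer (A : Set G)) := by
    refine h.fam.best A hA _ ?_ inf_le_left
    rw [← h.inf_cent hAS]
    exact inf_le_inf_left _ (centralizer_le h.VX)
  have h5 := Nat.mul_le_mul_left (Nat.card ↥(A ⊓ o2 P)) (Subgroup.card_le_of_le hle)
  have h6 : Nat.card ↥(A ⊓ o2 P) * Nat.card ↥(zl (S : Subgroup G) P ⊔ (X ⊓ centralizer (A : Set G))) =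
      Nat.card A * Nat.card ↥(X ⊓ centralizer (A : Set G)) := by
    refine Nat.eq_of_mul_eq_mul_right hp ?_
    calc _ = Nat.card ↥(A ⊓ o2 P) * (Nat.card ↥(zl (S : Subgroup G) P ⊔ (X ⊓ centralizer (A : Set G))) *
          Nat.card ↥(zl (S : Subgroup G) P ⊓ centralizer (A : Set G))) := by ring
      _ = (Nat.card (zl (S : Subgroup G) P) * Nat.card ↥(A ⊓ o2 P)) *
          Nat.card ↥(X ⊓ centralizer (A : Set G)) := by rw [h1]; ring
      _ = _ := by rw [← hc]; ring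
  have h7 := le_antisymm h4 (h6 ▸ h5)
  refine ⟨h7, Subgroup.eq_of_le_of_card_ge hle ?_⟩
  have hp' : 0 < Nat.card ↥(A ⊓ o2 P) := Nat.card_pos
  exact Nat.le_of_mul_le_mul_left (h7.trans h6.symm).le hp'

/-- a member `B ≤ Q` of the family with `B C(X) = (A ∩ Q) C(X)` -/
theorem exists_cut {A : Subgroup G} (hA : A ∈ AA) :
    ∃ B ∈ AA, B ≤ o2 P ∧ B ⊔ centralizer (X : Set G) = (A ⊓ o2 P) ⊔ centralizer (X : Set G) := by
  obtain ⟨h1, -⟩ := h.cut hA
  have hAS := h.fam.le A hA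
  obtain ⟨B', hB', h3⟩ := h.fam.cut A hA (A ⊓ o2 P) (by
    rw [← h.inf_cent hAS]
    exact inf_le_inf_left _ (centralizer_le h.VX)) inf_le_left h1
  refine ⟨B', hB', ?_, h3⟩
  intro b hb
  have h4 : b ∈ (A ⊓ o2 P) ⊔ centralizer (X : Set G) := h3 ▸ mem_sup_left hb
  have h5 : A ⊓ o2 P ≤ normalizer (centralizer (X : Set G) : Set G) := by
    intro a ha
    apply mem_normalizer_of_cj_le
    rw [cj_centralizer, cj_eq_of_mem_normalizer (h.norm (h.SP (hAS ha.1)))]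
  obtain ⟨a, ha, c, hc, rfl⟩ := mem_sup_norm h5 h4
  refine mul_mem ha.2 ?_
  have h6 : c ∈ (S : Subgroup G) := by
    have := mul_mem (inv_mem (hAS ha.1)) (h.fam.le B' hB' hb)
    rwa [inv_mul_cancel_left] at this
  rw [← IsParS.inf_centralizer S h.char2 h.star]
  exact ⟨h6, centralizer_le h.VX hc⟩

/-- `Y = C_X({B ∈ AA, B ≤ Q})` is contained in `V C_X(A)`. -/
theorem Y_le {A : Subgroup G} (hA : A ∈ AA) {x : G} (hx : x ∈ X)
    (hxB : ∀ B ∈ AA, B ≤ o2 P → ∀ b ∈ B, b * x = x * b) :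
    x ∈ zl (S : Subgroup G) P ⊔ (X ⊓ centralizer (A : Set G)) := by
  obtain ⟨B', hB', hB'Q, h3⟩ := h.exists_cut hA
  rw [(h.cut hA).2]
  refine ⟨hx, mem_centralizer_iff.2 fun a ha => ?_⟩
  have h4 : a ∈ B' ⊔ centralizer (X : Set G) := by rw [h3]; exact mem_sup_left ha
  have h5 : B' ⊔ centralizer (X : Set G) ≤ centralizer {x} := by
    refine sup_le (fun b hb => ?_) (fun c hc => ?_)
    · rw [mem_centralizer_singleton_iff]
      exact hxB B' hB' hB'Q b hb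
    · rw [mem_centralizer_singleton_iff]
      exact (mem_centralizer_iff.1 hc x hx).symm
  exact mem_centralizer_singleton_iff.1 (h5 h4)

/-- `[x, a] ∈ V` for `a ∈ A`, `x ∈ V C_X(A)` -/
theorem comm_mem {A : Subgroup G} (hA : A ∈ AA) {x : G}
    (hx : x ∈ zl (S : Subgroup G) P ⊔ (X ⊓ centralizer (A : Set G))) {a : G} (ha : a ∈ A) :
    a * x * a⁻¹ * x⁻¹ ∈ zl (S : Subgroup G) P := by
  have haS := h.fam.le A hA ha
  obtain ⟨v, hv, w, hw, rfl⟩ := mem_sup_comm (A := zl (S : Subgroup G) P) (B := X ⊓ centralizer (A : Set G))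
    (fun v hv a ha => h.Xc v (h.VX hv) a ha.1) hx
  have e1 : a * w = w * a := mem_centralizer_iff.1 hw.2 a ha
  have e2 : a * (v * w) * a⁻¹ * (v * w)⁻¹ = a * v * a⁻¹ * v⁻¹ := by
    have e3 : a * (v * w) * a⁻¹ * (v * w)⁻¹ = a * v * (w * a⁻¹ * w⁻¹) * v⁻¹ := by group
    have e4 : w * a⁻¹ * w⁻¹ = a⁻¹ := by
      have : w * a⁻¹ = a⁻¹ * w := by
        calc w * a⁻¹ = a⁻¹ * (a * w) * a⁻¹ := by group
          _ = a⁻¹ * w := by rw [e1]; group
      rw [this]; group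
    rw [e3, e4]
  rw [e2]
  exact mul_mem (conj_mem h.PV (h.SP haS) hv) (inv_mem hv)

/-- `{g ∈ P | [Y, g] ≤ V}` -/
def NN (h : Exa S P X L AA) (Y : Subgroup G) : Subgroup G where
  carrier := {g | g ∈ P ∧ ∀ u ∈ Y, g * u * g⁻¹ * u⁻¹ ∈ zl (S : Subgroup G) P}
  mul_mem' := by
    rintro a b ⟨ha, ha'⟩ ⟨hb, hb'⟩
    refine ⟨mul_mem ha hb, fun y hy => ?_⟩
    have e : a * b * y * (a * b)⁻¹ * y⁻¹ =
      (a * (b * y * b⁻¹ * y⁻¹) * a⁻¹) * (a * y * a⁻¹ * y⁻¹) := by group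
    rw [e]
    exact mul_mem (conj_mem h.PV ha (hb' y hy)) (ha' y hy)
  one_mem' := ⟨one_mem _, fun y _ => by simp⟩
  inv_mem' := by
    rintro a ⟨ha, ha'⟩
    refine ⟨inv_mem ha, fun y hy => ?_⟩
    have e : a⁻¹ * y * a⁻¹⁻¹ * y⁻¹ = a⁻¹ * (a * y * a⁻¹ * y⁻¹)⁻¹ * a⁻¹⁻¹ := by group
    rw [e]
    exact conj_mem h.PV (inv_mem ha) (inv_mem (ha' y hy))

theorem NN_norm {Y : Subgroup G} (hY : P ≤ normalizer (Y : Set G)) :
    P ≤ normalizer ((h.NN Y : Subgroup G) : Set G) := by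
  intro p hp
  apply mem_normalizer_of_cj_le
  intro x hx
  rw [mem_cj] at hx
  obtain ⟨hx1, hx2⟩ := hx
  refine ⟨?_, fun u hu => ?_⟩
  · have := mul_mem (mul_mem hp hx1) (inv_mem hp)
    have e : p * (p⁻¹ * x * p) * p⁻¹ = x := by group
    rwa [e] at this
  · have h1 : p⁻¹ * u * p ∈ Y := by
      have := conj_mem hY (inv_mem hp) hu
      rwa [inv_inv] at this
    have h2 := conj_mem h.PV hp (hx2 _ h1)
    have e : p * (p⁻¹ * x * p * (p⁻¹ * u * p) * (p⁻¹ * x * p)⁻¹ * (p⁻¹ * u * p)⁻¹) * p⁻¹ =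
        x * u * x⁻¹ * u⁻¹ := by group
    rwa [e] at h2

/-- A normal subgroup of `P` which contains a member `A ≰ Q` of the family covers `P / S`. -/
theorem sup_S {N : Subgroup G} (hN : N ≤ P) (hPN : P ≤ normalizer (N : Set G))
    (hA : ∃ A ∈ AA, ¬ A ≤ o2 P ∧ A ≤ N) : N ⊔ (S : Subgroup G) = P := by
  obtain ⟨A, hA, hAQ, hAN⟩ := hA
  rcases h.star.toIsPar.sup_eq_or_inf_le S hN hPN with h1 | h1
  · exact h1
  · exact absurd ((le_inf (h.fam.le A hA) hAN).trans h1) hAQ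

/-- `[E, S] = 1` for some `1 ≠ E ≤ V` normalised by `P` and centralised by the family: impossible. -/
theorem eq_bot {E : Subgroup G} (hEV : E ≤ X) (hPE : P ≤ normalizer (E : Set G))
    (hEA : ∀ e ∈ E, ∀ A ∈ AA, ∀ a ∈ A, a * e = e * a) : E = ⊥ := by
  by_contra hne
  have hne' : ¬ E ≤ ⊥ := fun h1 => hne (le_bot_iff.1 h1)
  obtain ⟨y, hy, hy1, hyS⟩ := exists_fixed (M := ⊥) S.isPGroup' (hEV.trans h.le) (h.SP.trans hPE) hne'
  have hyZ : y ∈ zc (S : Subgroup G) := by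
    refine mem_zc.2 ⟨h.le (hEV hy), elem_sq h.elem y (hEV hy), fun s hs => ?_⟩
    have h1 := mul_inv_eq_one.1 (mem_bot.1 (hyS s hs))
    calc s * y = s * y * s⁻¹ * s := by group
      _ = y * s := by rw [h1]
  have h2 : P ≤ normalizer ((P ⊓ centralizer (E : Set G) : Subgroup G) : Set G) := by
    intro p hp
    apply mem_normalizer_of_cj_le
    rw [cj_inf, cj_centralizer, cj_eq_of_mem_normalizer (le_normalizer hp), cj_eq_of_mem_normalizer (hPE hp)]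
  obtain ⟨A, hA, hAQ⟩ := h.ex
  have h3 := h.sup_S inf_le_left h2 ⟨A, hA, hAQ, le_inf ((h.fam.le A hA).trans h.SP) fun a ha =>
    mem_centralizer_iff.2 fun e he => (hEA e he A hA a ha).symm⟩
  have h4 : y ∈ zc (S : Subgroup G) ⊓ centralizer (P : Set G) := by
    refine ⟨hyZ, mem_centralizer_iff.2 fun p hp => ?_⟩
    have h5 : P ≤ centralizer {y} := by
      rw [← h3]
      refine sup_le (fun c hc => ?_) (fun s hs => ?_)
      · rw [mem_centralizer_singleton_iff]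
        exact (mem_centralizer_iff.1 hc.2 y hy).symm
      · rw [mem_centralizer_singleton_iff]
        exact (mem_zc.1 hyZ).2.2 s hs
    exact mem_centralizer_singleton_iff.1 (h5 hp)
  rw [h.cen] at h4
  exact hy1 h4

/-- **`C_X(AA) ≤ V`** if `Ω₁(Z(O₂(P))) = V`. -/
theorem cent (hT : zc (o2 P) = zl (S : Subgroup G) P) :
    X ⊓ centralizer ((sSup AA : Subgroup G) : Set G) ≤ zl (S : Subgroup G) P := by
  by_contra hne
  -- `S` normalises `C_X(AA)`
  have hSn : (S : Subgroup G) ≤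
      normalizer ((X ⊓ centralizer ((sSup AA : Subgroup G) : Set G) : Subgroup G) : Set G) := by
    intro s hs
    apply mem_normalizer_of_cj_le
    rw [cj_inf, cj_eq_of_mem_normalizer (h.norm (h.SP hs))]
    refine inf_le_inf_left _ ?_
    intro y hy
    rw [mem_cj, mem_cent_sSup] at hy
    rw [mem_cent_sSup]
    intro B hB' b hb
    have h1 : cj s⁻¹ B ≤ (S : Subgroup G) := by
      have h2 := cj_mono s⁻¹ (h.fam.le B hB')
      rwa [cj_eq_of_mem_normalizer (le_normalizer (inv_mem hs) : s⁻¹ ∈ normalizer ((S : Subgroup G) : Set G))] at h2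
    have h2 := h.fam.conj B hB' s⁻¹ (h.PL (h.SP (inv_mem hs))) h1
    have h3 := hy _ h2 (s⁻¹ * b * s) (by rw [mem_cj]; have e : s⁻¹⁻¹ * (s⁻¹ * b * s) * s⁻¹ = b := by group
                                         rwa [e])
    calc b * y = s * ((s⁻¹ * b * s) * (s⁻¹ * y * s)) * s⁻¹ := by group
      _ = s * ((s⁻¹ * y * s) * (s⁻¹ * b * s)) * s⁻¹ := by rw [h3]
      _ = y * b := by group
  obtain ⟨y, ⟨hyX, hyA⟩, hyV, hyS⟩ := exists_fixed (M := zl (S : Subgroup G) P) S.isPGroup'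
    (inf_le_left.trans h.le) hSn hne
  replace hyA := mem_cent_sSup.1 hyA
  -- `Y`, normalised by `P`
  let Y : Subgroup G := X ⊓ centralizer ((sSup {B | B ∈ AA ∧ B ≤ o2 P} : Subgroup G) : Set G)
  have hPY : P ≤ normalizer (Y : Set G) := by
    intro p hp
    apply mem_normalizer_of_cj_le
    rw [cj_inf, cj_eq_of_mem_normalizer (h.norm hp)]
    refine inf_le_inf_left _ ?_
    intro x hx
    rw [mem_cj, mem_cent_sSup] at hx
    rw [mem_cent_sSup]
    rintro B ⟨hB', hBQ⟩ b hb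
    have h0 : cj p⁻¹ B ≤ o2 P := by
      have h2 := cj_mono p⁻¹ hBQ
      rwa [cj_eq_of_mem_normalizer (le_normalizer_o2 P (inv_mem hp))] at h2
    have h2 := h.fam.conj B hB' p⁻¹ (h.PL (inv_mem hp)) (h0.trans h.QS)
    have h3 := hx _ ⟨h2, h0⟩ (p⁻¹ * b * p) (by rw [mem_cj]; have e : p⁻¹⁻¹ * (p⁻¹ * b * p) * p⁻¹ = b := by group
                                               rwa [e])
    calc b * x = p * ((p⁻¹ * b * p) * (p⁻¹ * x * p)) * p⁻¹ := by group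
      _ = p * ((p⁻¹ * x * p) * (p⁻¹ * b * p)) * p⁻¹ := by rw [h3]
      _ = x * b := by group
  have hyY : y ∈ Y := ⟨hyX, mem_cent_sSup.2 fun B hB' => hyA B hB'.1⟩
  obtain ⟨A, hA, hAQ⟩ := h.ex
  have hNS := h.sup_S (N := h.NN Y) (fun g hg => hg.1) (h.NN_norm hPY) ⟨A, hA, hAQ, fun a ha =>
    ⟨h.SP (h.fam.le A hA ha), fun u hu => h.comm_mem hA
      (h.Y_le hA hu.1 fun B hB' hBQ b hb => mem_cent_sSup.1 hu.2 B ⟨hB', hBQ⟩ b hb) ha⟩⟩
  -- `P` normalises `V y`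
  have hPM : ∀ p ∈ P, p * y * p⁻¹ * y⁻¹ ∈ zl (S : Subgroup G) P := by
    let M : Subgroup G :=
      { carrier := {g | g ∈ P ∧ g * y * g⁻¹ * y⁻¹ ∈ zl (S : Subgroup G) P}
        mul_mem' := by
          rintro a b ⟨ha, ha'⟩ ⟨hb, hb'⟩
          refine ⟨mul_mem ha hb, ?_⟩
          have e : a * b * y * (a * b)⁻¹ * y⁻¹ =
            (a * (b * y * b⁻¹ * y⁻¹) * a⁻¹) * (a * y * a⁻¹ * y⁻¹) := by group
          rw [e]
          exact mul_mem (conj_mem h.PV ha hb') ha'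
        one_mem' := ⟨one_mem _, by simp⟩
        inv_mem' := by
          rintro a ⟨ha, ha'⟩
          refine ⟨inv_mem ha, ?_⟩
          have e : a⁻¹ * y * a⁻¹⁻¹ * y⁻¹ = a⁻¹ * (a * y * a⁻¹ * y⁻¹)⁻¹ * a⁻¹⁻¹ := by group
          rw [e]
          exact conj_mem h.PV (inv_mem ha) (inv_mem ha') }
    have hle : P ≤ M := by
      rw [← hNS]
      exact sup_le (fun g hg => ⟨hg.1, hg.2 y hyY⟩) fun s hs => ⟨h.SP hs, hyS s hs⟩
    exact fun p hp => (hle hp).2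
  -- `E = [y, Q]`
  have hyS' : y ∈ (S : Subgroup G) := h.le hyX
  let E : Subgroup G := closure {x | ∃ t ∈ o2 P, x = t * y * t⁻¹ * y⁻¹}
  have hEV : ∀ t ∈ o2 P, t * y * t⁻¹ * y⁻¹ ∈ zl (S : Subgroup G) P := fun t ht => hyS t (h.QS ht)
  have hEX : E ≤ X := by
    rw [closure_le]
    rintro x ⟨t, ht, rfl⟩
    exact h.VX (hEV t ht)
  have hEA : ∀ e ∈ E, ∀ A ∈ AA, ∀ a ∈ A, a * e = e * a := by
    intro e he A hA a ha
    have h1 : E ≤ centralizer ((sSup AA : Subgroup G) : Set G) := by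
      rw [closure_le]
      rintro x ⟨t, ht, rfl⟩
      have h2 : y ∈ X ⊓ centralizer ((sSup AA : Subgroup G) : Set G) := ⟨hyX, mem_cent_sSup.2 hyA⟩
      have h3 := (mem_normalizer_iff.1 (hSn (h.QS ht)) y).1 h2
      exact (mul_mem h3 (inv_mem h2)).2
    exact mem_cent_sSup.1 (h1 he) A hA a ha
  have hPE : P ≤ normalizer (E : Set G) := by
    intro p hp
    apply mem_normalizer_of_cj_le
    rw [cj, MonoidHom.map_closure, closure_le]
    rintro _ ⟨x, ⟨t, ht, rfl⟩, rfl⟩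
    have ht' := conj_mem (le_normalizer_o2 P) hp ht
    refine subset_closure ⟨p * t * p⁻¹, ht', ?_⟩
    set t' := p * t * p⁻¹ with ht'd
    have h1 := hPM p hp
    set v := p * y * p⁻¹ * y⁻¹ with hv
    have h2 : t' * v = v * t' := h.comm_Q t' ht' v h1
    have h3 : t' * y * t'⁻¹ * y⁻¹ ∈ zl (S : Subgroup G) P := hEV t' ht'
    have h4 : v * (t' * y * t'⁻¹ * y⁻¹) = t' * y * t'⁻¹ * y⁻¹ * v := h.Xc v (h.VX h1) _ (h.VX h3)
    simp only [MulEquiv.toMonoidHom_eq_coe, MonoidHom.coe_coe, MulAut.conj_apply]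
    have e1 : p * (t * y * t⁻¹ * y⁻¹) * p⁻¹ = t' * (v * y) * t'⁻¹ * (v * y)⁻¹ := by
      rw [ht'd, hv]; group
    rw [e1]
    have e2 : t' * (v * y) * t'⁻¹ * (v * y)⁻¹ = (t' * v) * y * t'⁻¹ * y⁻¹ * v⁻¹ := by group
    rw [e2, h2]
    calc v * t' * y * t'⁻¹ * y⁻¹ * v⁻¹ = v * (t' * y * t'⁻¹ * y⁻¹) * v⁻¹ := by group
      _ = t' * y * t'⁻¹ * y⁻¹ := by rw [h4]; group
  have hE := h.eq_bot hEX hPE hEA
  have hE1 : ∀ t ∈ o2 P, t * y = y * t := by
    intro t ht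
    have h1 : t * y * t⁻¹ * y⁻¹ ∈ E := subset_closure ⟨t, ht, rfl⟩
    rw [hE, mem_bot] at h1
    have h3 := mul_inv_eq_one.1 h1
    calc t * y = t * y * t⁻¹ * t := by group
      _ = y * t := by rw [h3]
  have hyQ : y ∈ o2 P := h.star.isLoc.char2 S h.char2 ⟨h.SP hyS', mem_centralizer_iff.2 hE1⟩
  apply hyV
  rw [← hT]
  exact mem_zc.2 ⟨hyQ, elem_sq h.elem y hyX, hE1⟩

/-- **`C_X(AA) = C_V(AA)`.** -/
theorem cent_eq (hT : zc (o2 P) = zl (S : Subgroup G) P) :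
    X ⊓ centralizer ((sSup AA : Subgroup G) : Set G) =
      zl (S : Subgroup G) P ⊓ centralizer ((sSup AA : Subgroup G) : Set G) :=
  le_antisymm (le_inf (h.cent hT) inf_le_right) (inf_le_inf_right _ h.VX)

/-- `Ω₁(Z(Q)) = V C(A)` -/
theorem zcQ {A : Subgroup G} (hA : A ∈ AA) {y : G} (hy : y ∈ zc (o2 P)) :
    ∃ v ∈ zl (S : Subgroup G) P, ∀ a ∈ A, a * (y * v) = y * v * a := by
  have h1 := h.Y_le hA (h.QX hy) fun B _ hBQ b hb => (mem_zc.1 hy).2.2 b (hBQ hb)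
  obtain ⟨v, hv, w, hw, rfl⟩ := mem_sup_comm (A := zl (S : Subgroup G) P) (B := X ⊓ centralizer (A : Set G))
    (fun v hv a ha => h.Xc v (h.VX hv) a ha.1) h1
  refine ⟨v⁻¹, inv_mem hv, fun a ha => ?_⟩
  have e : v * w * v⁻¹ = w := by rw [h.Xc v (h.VX hv) w hw.1]; group
  rw [e]
  exact mem_centralizer_iff.1 hw.2 a ha

/-- `{g ∈ P | [Ω₁(Z(Q)), g] ≤ V}` -/
def N0 (h : Exa S P X L AA) : Subgroup G := h.NN (zc (o2 P))

theorem zcQ_norm : P ≤ normalizer ((zc (o2 P) : Subgroup G) : Set G) := by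
  intro p hp
  apply mem_normalizer_of_cj_le
  have h1 : cj p (o2 P) = o2 P := cj_eq_of_mem_normalizer (le_normalizer_o2 P hp)
  intro x hx
  rw [mem_cj] at hx
  obtain ⟨h2, h3, h4⟩ := mem_zc.1 hx
  refine mem_zc.2 ⟨?_, ?_, fun t ht => ?_⟩
  · have := conj_mem (le_normalizer_o2 P) hp h2
    have e : p * (p⁻¹ * x * p) * p⁻¹ = x := by group
    rwa [e] at this
  · have e : (p⁻¹ * x * p) ^ 2 = p⁻¹ * x ^ 2 * p := by rw [pow_two, pow_two]; group
    rw [e] at h3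
    have e2 : x ^ 2 = p * (p⁻¹ * x ^ 2 * p) * p⁻¹ := by group
    rw [e2, h3]; group
  · have ht' : p⁻¹ * t * p ∈ o2 P := by
      have := conj_mem (le_normalizer_o2 P) (inv_mem hp) ht
      rwa [inv_inv] at this
    have h5 := h4 _ ht'
    calc t * x = p * ((p⁻¹ * t * p) * (p⁻¹ * x * p)) * p⁻¹ := by group
      _ = p * ((p⁻¹ * x * p) * (p⁻¹ * t * p)) * p⁻¹ := by rw [h5]
      _ = x * t := by group

theorem le_N0 {A : Subgroup G} (hA : A ∈ AA) : A ≤ h.N0 := fun a ha =>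
  ⟨h.SP (h.fam.le A hA ha), fun u hu => h.comm_mem hA
    (h.Y_le hA (h.QX hu) fun B _ hBQ b hb => (mem_zc.1 hu).2.2 b (hBQ hb)) ha⟩

theorem N0_norm : P ≤ normalizer ((h.N0 : Subgroup G) : Set G) := h.NN_norm h.zcQ_norm

/-- Elements of `N₀` which centralise `V` centralise `Ω₁(Z(Q))`. -/
theorem cent_zcQ {g : G} (hg : g ∈ h.N0) (hgV : ∀ v ∈ zl (S : Subgroup G) P, g * v = v * g) :
    ∀ y ∈ zc (o2 P), g * y = y * g := by
  -- 2-elements
  have h2 : ∀ x ∈ h.N0, (∀ v ∈ zl (S : Subgroup G) P, x * v = v * x) → (∃ n : ℕ, x ^ 2 ^ n = 1) →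
      ∀ y ∈ zc (o2 P), x * y = y * x := by
    rintro x hx hxV ⟨n, hn⟩ y hy
    have hp : IsPGroup 2 (zpowers x) := by
      rintro ⟨z, hz⟩
      obtain ⟨m, rfl⟩ := mem_zpowers_iff.1 hz
      refine ⟨n, Subtype.ext ?_⟩
      show (x ^ m) ^ 2 ^ n = 1
      rw [← zpow_natCast, ← zpow_mul, mul_comm, zpow_mul, zpow_natCast, hn, one_zpow]
    have hsyl : ChoiceSit.Syl (S : Subgroup G) P :=
      ⟨h.SP, S.isPGroup', fun _ _ hT hST => S.is_maximal' hT hST⟩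
    obtain ⟨T, hT, hxT⟩ := ChoiceSit.exists_syl hp ((zpowers_le (H := P)).2 hx.1)
    obtain ⟨g, hg, e⟩ := ChoiceSit.syl_conj hT hsyl
    have h1 : g * x * g⁻¹ ∈ (S : Subgroup G) := by
      rw [← e]
      exact ⟨x, hxT (mem_zpowers x), rfl⟩
    have h3 : g * x * g⁻¹ ∈ o2 P := by
      rw [← IsParS.inf_centralizer S h.char2 h.star]
      refine ⟨h1, mem_centralizer_iff.2 fun v hv => ?_⟩
      have hv' : g⁻¹ * v * g ∈ zl (S : Subgroup G) P := by
        have := conj_mem h.PV (inv_mem hg) hv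
        rwa [inv_inv] at this
      have h5 := hxV _ hv'
      calc v * (g * x * g⁻¹) = g * ((g⁻¹ * v * g) * x) * g⁻¹ := by group
        _ = g * (x * (g⁻¹ * v * g)) * g⁻¹ := by rw [h5]
        _ = g * x * g⁻¹ * v := by group
    have h4 : x ∈ o2 P := by
      have := conj_mem (le_normalizer_o2 P) (inv_mem hg) h3
      have e1 : g⁻¹ * (g * x * g⁻¹) * g⁻¹⁻¹ = x := by group
      rwa [e1] at this
    exact (mem_zc.1 hy).2.2 x h4
  -- squares
  have hsq : ∀ y ∈ zc (o2 P), g ^ 2 * y = y * g ^ 2 := by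
    intro y hy
    have hδ := hg.2 y hy
    set δ := g * y * g⁻¹ * y⁻¹ with hδd
    have e1 : g * y * g⁻¹ = δ * y := by rw [hδd]; group
    have e2 : g * δ * g⁻¹ = δ := by rw [hgV δ hδ]; group
    have hδδ : δ * δ = 1 := by
      have := elem_sq h.elem δ (h.VX hδ); rwa [pow_two] at this
    have e5 : g ^ 2 * y * (g ^ 2)⁻¹ = y := by
      have e3 : g ^ 2 * y * (g ^ 2)⁻¹ = g * (g * y * g⁻¹) * g⁻¹ := by rw [pow_two]; group
      have e4 : g * (δ * y) * g⁻¹ = (g * δ * g⁻¹) * (g * y * g⁻¹) := by group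
      rw [e3, e1, e4, e1, e2, ← mul_assoc, hδδ, one_mul]
    calc g ^ 2 * y = g ^ 2 * y * (g ^ 2)⁻¹ * g ^ 2 := by group
      _ = y * g ^ 2 := by rw [e5]
  intro y hy
  obtain ⟨a, m, hm1, hm2⟩ := Nat.exists_eq_two_pow_mul_odd (isOfFinOrder_of_finite g).orderOf_pos.ne'
  obtain ⟨r, hr⟩ := hm1
  have h1 : g ^ m * y = y * g ^ m := by
    refine h2 _ (pow_mem hg m) (fun v hv => ?_) ⟨a, ?_⟩ y hy
    · exact ((show Commute g v from hgV v hv).pow_left m).eq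
    · rw [← pow_mul, mul_comm, ← hm2, pow_orderOf_eq_one]
  have h3 : Commute (g ^ m) y := h1
  have h4 : Commute ((g ^ 2) ^ r) y := (show Commute (g ^ 2) y from hsq y hy).pow_left r
  have h5 : g = ((g ^ 2) ^ r)⁻¹ * g ^ m := by
    rw [← pow_mul, hr, pow_succ, inv_mul_cancel_left]
  rw [h5]
  exact (h4.inv_left.mul_left h3).eq

/-- **`Ω₁(Z(Q)) = V`**, from the blocks `E j ≤ N₀`: on every coset of `V` in `Ω₁(Z(Q))` the block `E j` has a fixed
point, the fixed points of the blocks on the cosets are independent, `C_V(⟨E j⟩) = 1`, `⟨E j⟩` is normal modulo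
`C(V)`. -/
theorem zc_eq_of {ι : Type*} (E : ι → Subgroup G) (hE : ∀ j, E j ≤ h.N0)
    (hfix : ∀ j, ∀ y ∈ zc (o2 P), ∃ v ∈ zl (S : Subgroup G) P, ∀ g ∈ E j, g * (y * v) = y * v * g)
    (hind : ∀ w : ι → G, (∀ j, w j ∈ zl (S : Subgroup G) P) → ∃ v ∈ zl (S : Subgroup G) P, ∀ j, ∀ g ∈ E j,
      g * (v * (w j)⁻¹) = v * (w j)⁻¹ * g)
    (hone : ∀ v ∈ zl (S : Subgroup G) P, (∀ j, ∀ g ∈ E j, g * v = v * g) → v = 1)
    (hnorm : ∀ s ∈ (S : Subgroup G), ∀ j, ∀ g ∈ E j, ∃ m ∈ ⨆ j, E j, ∀ v ∈ zl (S : Subgroup G) P,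
      s * g * s⁻¹ * v * (s * g * s⁻¹)⁻¹ = m * v * m⁻¹) :
    zc (o2 P) = zl (S : Subgroup G) P := by
  refine le_antisymm ?_ h.VQ
  by_contra hne
  have hzS : zc (o2 P) ≤ (S : Subgroup G) := (zc_le _).trans h.QS
  obtain ⟨y, hy, hyV, hyS⟩ := exists_fixed (M := zl (S : Subgroup G) P) S.isPGroup' hzS
    (h.SP.trans h.zcQ_norm) hne
  have hyc : ∀ x ∈ zc (o2 P), ∀ z ∈ zc (o2 P), x * z = z * x := fun x hx z hz => h.Xc x (h.QX hx) z (h.QX hz)
  choose w hw hwE using fun j => hfix j y hy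
  obtain ⟨v, hv, hvE⟩ := hind w hw
  -- `y v` is fixed by all blocks
  have h1 : ∀ j, ∀ g ∈ E j, g * (y * v) = y * v * g := by
    intro j g hg
    have e : y * v = (y * w j) * (v * (w j)⁻¹) := by
      have h2 := hyc (w j) (h.VQ (hw j)) v (h.VQ hv)
      calc y * v = y * (v * w j) * (w j)⁻¹ := by group
        _ = y * (w j * v) * (w j)⁻¹ := by rw [h2]
        _ = _ := by group
    have c1 : Commute g (y * w j) := hwE j g hg
    have c2 : Commute g (v * (w j)⁻¹) := hvE j g hg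
    rw [e]
    exact (c1.mul_right c2).eq
  have hyv : y * v ∈ zc (o2 P) := mul_mem hy (h.VQ hv)
  have hsup : (⨆ j, E j) ≤ centralizer {y * v} := iSup_le fun j g hg => by
    rw [mem_centralizer_singleton_iff]
    exact h1 j g hg
  have hsup0 : (⨆ j, E j) ≤ h.N0 := iSup_le hE
  -- `S` fixes `y v`
  have h3 : ∀ s ∈ (S : Subgroup G), s * (y * v) * s⁻¹ = y * v := by
    intro s hs
    have hsP := h.SP hs
    have hsy : s * (y * v) * s⁻¹ ∈ zc (o2 P) := conj_mem h.zcQ_norm hsP hyv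
    have h4 : s * (y * v) * s⁻¹ * (y * v)⁻¹ ∈ zl (S : Subgroup G) P := by
      have e : s * (y * v) * s⁻¹ * (y * v)⁻¹ = (s * y * s⁻¹ * y⁻¹) * ((s * v * s⁻¹) * v⁻¹) := by
        have h5 := hyc (s * v * s⁻¹) (h.VQ (conj_mem h.PV hsP hv)) (y⁻¹) (inv_mem hy)
        have h6 := hyc (s * v * s⁻¹ * v⁻¹) (h.VQ (mul_mem (conj_mem h.PV hsP hv) (inv_mem hv))) y⁻¹ (inv_mem hy)
        calc s * (y * v) * s⁻¹ * (y * v)⁻¹ = (s * y * s⁻¹) * ((s * v * s⁻¹ * v⁻¹) * y⁻¹) := by group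
          _ = (s * y * s⁻¹) * (y⁻¹ * (s * v * s⁻¹ * v⁻¹)) := by rw [h6]
          _ = _ := by group
      rw [e]
      exact mul_mem (hyS s hs) (mul_mem (conj_mem h.PV hsP hv) (inv_mem hv))
    have h5 := hone _ h4 ?_
    · exact mul_inv_eq_one.1 h5
    · intro j g hg
      have c1 : Commute g (y * v) := h1 j g hg
      -- `s⁻¹ g s` acts as an element of `⟨E j⟩`
      obtain ⟨m, hm, hmv⟩ := hnorm s⁻¹ (inv_mem hs) j g hg
      rw [inv_inv] at hmv
      have hgN : s⁻¹ * g * s ∈ h.N0 := by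
        have := conj_mem h.N0_norm (inv_mem hsP) (hE j hg)
        rwa [inv_inv] at this
      have h6 : m⁻¹ * (s⁻¹ * g * s) ∈ h.N0 := mul_mem (inv_mem (hsup0 hm)) hgN
      have h7 := h.cent_zcQ h6 (fun u hu => by
        have h8 := hmv u hu
        calc m⁻¹ * (s⁻¹ * g * s) * u = m⁻¹ * (s⁻¹ * g * s * u * (s⁻¹ * g * s)⁻¹) * (s⁻¹ * g * s) := by group
          _ = m⁻¹ * (m * u * m⁻¹) * (s⁻¹ * g * s) := by rw [h8]
          _ = _ := by group) (y * v) hyv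
      have h8 : Commute m (y * v) := mem_centralizer_singleton_iff.1 (hsup hm)
      have h9 : Commute (s⁻¹ * g * s) (y * v) := by
        have e : s⁻¹ * g * s = m * (m⁻¹ * (s⁻¹ * g * s)) := by group
        rw [e]
        exact h8.mul_left h7
      have c2 : Commute g (s * (y * v) * s⁻¹) := by
        show g * (s * (y * v) * s⁻¹) = s * (y * v) * s⁻¹ * g
        calc g * (s * (y * v) * s⁻¹) = s * ((s⁻¹ * g * s) * (y * v)) * s⁻¹ := by group
          _ = s * ((y * v) * (s⁻¹ * g * s)) * s⁻¹ := by rw [h9.eq]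
          _ = _ := by group
      exact (c2.mul_right c1.inv_right).eq
  have hZ : y * v ∈ zc (S : Subgroup G) := by
    refine mem_zc.2 ⟨hzS hyv, (mem_zc.1 hyv).2.1, fun s hs => ?_⟩
    calc s * (y * v) = s * (y * v) * s⁻¹ * s := by group
      _ = y * v * s := by rw [h3 s hs]
  apply hyV
  have h4 := mul_mem (zc_le_zl _ _ hZ : y * v ∈ zl (S : Subgroup G) P) (inv_mem hv)
  rwa [mul_inv_cancel_right] at h4

end Exa

end Cfsg.Agent.Omega.NO3S.OneLine
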