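import Cfsg.Agent.Omega.NO3S.OneLine.LevKNat
import Cfsg.Agent.Omega.NO3S.OneLine.LevSym

/-!
# The levels for sums of even-subset modules: `Ω₁(Z(O₂(P))) = V_P`

`V_P / C_V(O²(P))` a sum of `k` even-subset modules of `S_{2^m+1}` (`SymKM`), `C_Z(P) = 1`, a family `AA` of best
offenders of `S` with a member outside `O₂(P)`:

* `Exa.cv_eq_bot_sym` : `C_V(O²(P)) = 1`;
* `Exa.zc_o2_sym` : `Ω₁(Z(O₂(P))) = V_P`;
* `Exa.cent_sym` : `C_X(AA)`.
-/

set_option autoImplicit false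
set_option linter.unusedSectionVars false
set_option linter.unusedVariables false

namespace Cfsg.Agent.Omega.NO3S.OneLine

open Subgroup Cfsg Cfsg.Agent.PLocal.ThompsonJ Cfsg.Agent.ZN Cfsg.Agent.ZN.ChoiceBase Cfsg.Agent.Omega.MinPar
open Cfsg.Agent.Omega.SQ1 Cfsg.Agent.Omega.SQ1.FFOne Cfsg.Agent.Omega.SQ1.VOf Cfsg.Agent.Omega.SQ1.FFSym
open Cfsg.Agent.Omega.SQ1.Bau (elem_comm elem_sq)
open Cfsg.Agent.MinSimple.VModule (zc_le zc_le_zl zl_le le_o2 le_normalizer_zl)
open Cfsg.Agent.Omega.FFThm (ActsSym SymK SymKM OffM ElemM NoOverM)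
open Cfsg.Agent.Omega.FrameFF (cv)

universe u

variable {G : Type u} [Group G] [Finite G] {S : Sylow 2 G} {P X L : Subgroup G} {AA : Set (Subgroup G)}

omit [Finite G] in
theorem sy_inj {H V D : Subgroup G} {k n : ℕ} {e : G → Fin k → Fin n → ZMod 2} (h : Sy H V D e) (hD : D = ⊥)
    {v w : G} (hv : v ∈ V) (hw : w ∈ V) (he : e v = e w) : v = w := by
  have h1 := h.e_eq hv hw he
  rw [hD, mem_bot] at h1
  rw [← h.inv_eq hw]
  exact eq_inv_of_mul_eq_one_left h1

omit [Finite G] in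
/-- an element acting as `mulSingle j τ`, `τ ∈ {1, (0 a)}`, centralises the vectors with `e v j 0 = e v j a` -/
theorem gd_comm {H V D : Subgroup G} {k n : ℕ} {e : G → Fin k → Fin (n + 1) → ZMod 2} (h : Sy H V D e) (hD : D = ⊥)
    {j : Fin k} {a : Fin (n + 1)} {τ : Equiv.Perm (Fin (n + 1))} (hτ : τ = 1 ∨ τ = Equiv.swap 0 a) {g : G}
    (hg : Gd H V D e (Pi.mulSingle j τ) g) {v : G} (hv : v ∈ V) (h0 : e v j 0 = e v j a) : g * v = v * g := by
  have h1 : g * v * g⁻¹ = v := by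
    refine sy_inj h hD (h.Vn g hg.mem v hv) hv ?_
    funext i x
    have h2 := hg.act v hv i (((Pi.mulSingle j τ : Fin k → Equiv.Perm (Fin (n + 1))) i)⁻¹ x)
    rw [perm_inv_self, Equiv.Perm.one_apply] at h2
    rw [h2]
    by_cases hi : i = j
    · subst hi
      rw [Pi.mulSingle_eq_same]
      rcases hτ with rfl | rfl
      · rw [inv_one, Equiv.Perm.one_apply]
      · rw [Equiv.swap_inv]
        by_cases hx0 : x = 0
        · rw [hx0, Equiv.swap_apply_left, h0]
        · by_cases hxa : x = a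
          · rw [hxa, Equiv.swap_apply_right, h0]
          · rw [Equiv.swap_apply_of_ne_of_ne hx0 hxa]
    · rw [Pi.mulSingle_eq_of_ne hi, inv_one, Equiv.Perm.one_apply]
  calc g * v = g * v * g⁻¹ * g := by group
    _ = v * g := by rw [h1]

namespace Exa

variable (h : Exa S P X L AA) {k m : ℕ}
include h

theorem cv_eq_bot_sym (N : SymKM (S : Subgroup G) P (zl (S : Subgroup G) P) (cv (S : Subgroup G) P) k m) :
    cv (S : Subgroup G) P = ⊥ := h.cv_eq_bot_of fun A hA hAQ a ha d hd =>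
  (N.offM A (h.fam.le A hA) (h.offM hA hAQ)).1 a ha d hd

theorem sy (N : SymKM (S : Subgroup G) P (zl (S : Subgroup G) P) (cv (S : Subgroup G) P) k m) (hk : 0 < k)
    (hm : 1 ≤ m) : Sy P (zl (S : Subgroup G) P) (cv (S : Subgroup G) P) N.e :=
  sy_of h.minH' N.toSymK hk hm FFOf.cv_le FFOf.cv_norm

/-- a transposition of the block `j` in a member of the family -/
theorem exists_swap (N : SymKM (S : Subgroup G) P (zl (S : Subgroup G) P) (cv (S : Subgroup G) P) k m) (hk : 0 < k)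
    (hm : 1 ≤ m) (j : Fin k) : ∃ A ∈ AA, ∃ x y : Fin (2 ^ m + 1), x ≠ y ∧ ∃ t ∈ A,
      Gd P (zl (S : Subgroup G) P) (cv (S : Subgroup G) P) N.e (Pi.mulSingle j (Equiv.swap x y)) t := by
  have hs := h.sy N hk hm
  obtain ⟨A, hA, hAQ⟩ := h.ex
  have hoff := h.offM hA hAQ
  obtain ⟨hD, h2⟩ := N.offM A (h.fam.le A hA) hoff
  obtain ⟨i, x, y, hxy, t, ht, htg⟩ : ∃ i x y, x ≠ y ∧ ∃ t ∈ A,
      Gd P (zl (S : Subgroup G) P) (cv (S : Subgroup G) P) N.e (Pi.mulSingle i (Equiv.swap x y)) t := by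
    by_contra hcon
    push Not at hcon
    apply hoff.ne
    intro a ha
    obtain ⟨τ, hτ, hτ'⟩ := h2 a ha
    have h1 : τ = 1 := by
      funext i
      ext x
      by_contra hx
      have hx' : τ i x ≠ x := fun e => hx (by rw [e]; rfl)
      obtain ⟨-, b, hb, hb'⟩ := hτ' i x hx'
      exact hcon i x (τ i x) hx'.symm b hb ⟨h.SP (h.fam.le A hA hb), hD b hb, hb'⟩
    subst h1
    refine mem_centralizer_iff.2 fun v hv => ?_
    have h2 := hs.gd_sim ⟨h.SP (h.fam.le A hA ha), hD a ha, hτ⟩ hs.gd_one v hv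
    symm
    calc a * v = (a * v * a⁻¹) * a := by group
      _ = v * a := by rw [h2]; group
  obtain ⟨s, hsS, σ, τ, hsa, hσ⟩ := N.trans i j
  have hcj : cj s A ≤ (S : Subgroup G) := by
    have h3 := cj_mono s (h.fam.le A hA)
    rwa [cj_eq_of_mem_normalizer (le_normalizer hsS : s ∈ normalizer ((S : Subgroup G) : Set G))] at h3
  have h3 := hs.gd_conj_single (h.SP hsS) hsa htg
  rw [hσ, ← Equiv.swap_apply_apply] at h3
  exact ⟨cj s A, h.fam.conj A hA s (h.PL (h.SP hsS)) hcj, τ i x, τ i y, fun e => hxy ((τ i).injective e),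
    s * t * s⁻¹, ⟨t, ht, rfl⟩, h3⟩

/-- the elements of `N₀` which act as `1` or `(0 a)` on the block `j` and trivially on the other blocks -/
def ES (h : Exa S P X L AA)
    (N : SymKM (S : Subgroup G) P (zl (S : Subgroup G) P) (cv (S : Subgroup G) P) k m)
    (hs : Sy P (zl (S : Subgroup G) P) (cv (S : Subgroup G) P) N.e) (j : Fin k) (a : Fin (2 ^ m + 1)) :
    Subgroup G where
  carrier := {g | g ∈ h.N0 ∧ ∃ τ, (τ = 1 ∨ τ = Equiv.swap 0 a) ∧
    Gd P (zl (S : Subgroup G) P) (cv (S : Subgroup G) P) N.e (Pi.mulSingle j τ) g}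
  mul_mem' := by
    rintro x y ⟨hx, τ, hτ, hxτ⟩ ⟨hy, τ', hτ', hyτ⟩
    refine ⟨mul_mem hx hy, τ * τ', ?_, ?_⟩
    · rcases hτ with rfl | rfl
      · rw [one_mul]; exact hτ'
      · rcases hτ' with rfl | rfl
        · rw [mul_one]; exact Or.inr rfl
        · rw [Equiv.swap_mul_self]; exact Or.inl rfl
    · rw [Pi.mulSingle_mul]
      exact hs.gd_mul hxτ hyτ
  one_mem' := ⟨one_mem _, 1, Or.inl rfl, by rw [Pi.mulSingle_one]; exact hs.gd_one⟩
  inv_mem' := by
    rintro x ⟨hx, τ, hτ, hxτ⟩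
    refine ⟨inv_mem hx, τ⁻¹, ?_, ?_⟩
    · rcases hτ with rfl | rfl
      · rw [inv_one]; exact Or.inl rfl
      · rw [Equiv.swap_inv]; exact Or.inr rfl
    · rw [Pi.mulSingle_inv]
      exact hs.gd_inv hxτ

/-- **(T6) `Ω₁(Z(O₂(P))) = V_P`** for sums of even-subset modules. -/
theorem zc_o2_sym (N : SymKM (S : Subgroup G) P (zl (S : Subgroup G) P) (cv (S : Subgroup G) P) k m) (hk : 0 < k)
    (hm : 1 ≤ m) : zc (o2 P) = zl (S : Subgroup G) P := by
  classical
  have hs := h.sy N hk hm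
  have hD := h.cv_eq_bot_sym N
  -- a swap `(0 a)` of the block `j` in `N₀`, with fixed points
  have hsw : ∀ (j : Fin k) (a : Fin (2 ^ m + 1)), a ≠ 0 → ∃ r ∈ P, ∃ A ∈ AA, ∃ t ∈ A,
      Gd P (zl (S : Subgroup G) P) (cv (S : Subgroup G) P) N.e (Pi.mulSingle j (Equiv.swap 0 a)) (r⁻¹ * t * r) ∧
      ∀ g, Gd P (zl (S : Subgroup G) P) (cv (S : Subgroup G) P) N.e (Pi.mulSingle j (Equiv.swap 0 a)) g →
        ∀ v ∈ zl (S : Subgroup G) P, (r * g * r⁻¹) * v * (r * g * r⁻¹)⁻¹ = t * v * t⁻¹ := by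
    intro j a ha
    obtain ⟨A, hA, x, y, hxy, t, ht, htg⟩ := h.exists_swap N hk hm j
    -- a permutation `ρ` with `ρ 0 = x`, `ρ a = y`
    obtain ⟨ρ, hρ0, hρa⟩ : ∃ ρ : Equiv.Perm (Fin (2 ^ m + 1)), ρ 0 = x ∧ ρ a = y := by
      refine ⟨Equiv.swap (Equiv.swap 0 x a) y * Equiv.swap 0 x, ?_, ?_⟩
      · rw [Equiv.Perm.mul_apply, Equiv.swap_apply_left]
        refine Equiv.swap_apply_of_ne_of_ne ?_ hxy
        intro e
        have e2 : Equiv.swap 0 x 0 = Equiv.swap 0 x a := by rw [Equiv.swap_apply_left]; exact e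
        exact ha ((Equiv.swap 0 x).injective e2).symm
      · rw [Equiv.Perm.mul_apply, Equiv.swap_apply_left]
    obtain ⟨r, hr⟩ := hs.exists_gd (Pi.mulSingle j ρ)
    refine ⟨r, hr.mem, A, hA, t, ht, ?_, ?_⟩
    · have h1 := hs.gd_mul (hs.gd_mul (hs.gd_inv hr) htg) hr
      rw [← Pi.mulSingle_inv, ← Pi.mulSingle_mul, ← Pi.mulSingle_mul] at h1
      have e : ρ⁻¹ * Equiv.swap x y * ρ = Equiv.swap 0 a := by
        have e2 : ρ * Equiv.swap 0 a * ρ⁻¹ = Equiv.swap x y := by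
          rw [← Equiv.swap_apply_apply, hρ0, hρa]
        rw [← e2]; group
      rwa [e] at h1
    · intro g hg v hv
      have h1 := hs.gd_mul (hs.gd_mul hr hg) (hs.gd_inv hr)
      rw [← Pi.mulSingle_inv, ← Pi.mulSingle_mul, ← Pi.mulSingle_mul, ← Equiv.swap_apply_apply, hρ0, hρa] at h1
      exact hs.gd_sim h1 htg v hv
  -- the blocks
  let E : Fin k × Fin (2 ^ m + 1) → Subgroup G := fun p => h.ES N hs p.1 p.2
  -- elements of `N₀` which agree on `V` agree on `Ω₁(Z(Q))`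
  have hagree : ∀ g ∈ h.N0, ∀ m ∈ h.N0, (∀ v ∈ zl (S : Subgroup G) P, g * v * g⁻¹ = m * v * m⁻¹) →
      ∀ y ∈ zc (o2 P), m * y = y * m → g * y = y * g := by
    intro g hg m hm' hgm y hy hmy
    have h1 := h.cent_zcQ (mul_mem (inv_mem hm') hg) (fun u hu => by
      have h8 := hgm u hu
      calc m⁻¹ * g * u = m⁻¹ * (g * u * g⁻¹) * g := by group
        _ = m⁻¹ * (m * u * m⁻¹) * g := by rw [h8]
        _ = _ := by group) y hy
    have c1 : Commute m y := hmy
    have c2 : Commute (m⁻¹ * g) y := h1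
    have e : g = m * (m⁻¹ * g) := by group
    rw [e]
    exact (c1.mul_left c2).eq
  refine h.zc_eq_of E (fun p g hg => hg.1) ?_ ?_ ?_ ?_
  · rintro ⟨j, a⟩ y hy
    by_cases ha : a = 0
    · refine ⟨1, one_mem _, ?_⟩
      rintro g ⟨hg, τ, hτ, hgτ⟩
      have hτ1 : τ = 1 := by
        rcases hτ with rfl | rfl
        · rfl
        · show Equiv.swap 0 a = 1
          rw [ha, Equiv.swap_self]; rfl
      subst hτ1
      rw [Pi.mulSingle_one] at hgτ
      rw [mul_one]
      refine h.cent_zcQ hg (fun v hv => ?_) y hy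
      have h2 := hs.gd_sim hgτ hs.gd_one v hv
      calc g * v = (g * v * g⁻¹) * g := by group
        _ = v * g := by rw [h2]; group
    · obtain ⟨r, hr, A, hA, t, ht, htg, hag⟩ := hsw j a ha
      obtain ⟨v', hv', hfix⟩ := h.zcQ hA (conj_mem h.zcQ_norm hr hy)
      refine ⟨r⁻¹ * v' * r, ?_, ?_⟩
      · have := conj_mem h.PV (inv_mem hr) hv'
        rwa [inv_inv] at this
      · rintro g ⟨hg, τ, hτ, hgτ⟩
        have hy' : r * y * r⁻¹ * v' ∈ zc (o2 P) := mul_mem (conj_mem h.zcQ_norm hr hy) (h.VQ hv')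
        have h3 : (r * g * r⁻¹) * (r * y * r⁻¹ * v') = r * y * r⁻¹ * v' * (r * g * r⁻¹) := by
          rcases hτ with rfl | rfl
          · rw [Pi.mulSingle_one] at hgτ
            refine h.cent_zcQ (conj_mem h.N0_norm hr hg) (fun v hv => ?_) _ hy'
            have h4 : r⁻¹ * v * r ∈ zl (S : Subgroup G) P := by
              have := conj_mem h.PV (inv_mem hr) hv
              rwa [inv_inv] at this
            have h5 := hs.gd_sim hgτ hs.gd_one _ h4
            have h6 : g * (r⁻¹ * v * r) = (r⁻¹ * v * r) * g := by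
              calc g * (r⁻¹ * v * r) = (g * (r⁻¹ * v * r) * g⁻¹) * g := by group
                _ = _ := by rw [h5]; group
            calc r * g * r⁻¹ * v = r * (g * (r⁻¹ * v * r)) * r⁻¹ := by group
              _ = r * ((r⁻¹ * v * r) * g) * r⁻¹ := by rw [h6]
              _ = _ := by group
          · exact hagree _ (conj_mem h.N0_norm hr hg) t (h.le_N0 hA ht) (hag g hgτ) _ hy' (hfix t ht)
        calc g * (y * (r⁻¹ * v' * r)) = r⁻¹ * ((r * g * r⁻¹) * (r * y * r⁻¹ * v')) * r := by group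
          _ = r⁻¹ * ((r * y * r⁻¹ * v') * (r * g * r⁻¹)) * r := by rw [h3]
          _ = _ := by group
  · intro w hw
    let c : Fin k → Fin (2 ^ m + 1) → ZMod 2 := fun j a => N.e (w (j, a)) j 0 + N.e (w (j, a)) j a
    have hc0 : ∀ j, c j 0 = 0 := fun j => CharTwo.add_self_eq_zero _
    obtain ⟨v, hv, hev⟩ := N.surj (fun j a => c j a + ∑ b, c j b) (by
      intro j
      rw [Finset.sum_add_distrib, Finset.sum_const, Finset.card_univ, Fintype.card_fin, nsmul_eq_mul]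
      have e1 : ((2 ^ m + 1 : ℕ) : ZMod 2) = 1 := by
        have : (2 ^ m : ZMod 2) = 0 := by
          rw [show (2 : ZMod 2) = 0 from rfl, zero_pow (by omega)]
        push_cast
        rw [this, zero_add]
      rw [e1, one_mul]
      exact CharTwo.add_self_eq_zero _)
    refine ⟨v, hv, ?_⟩
    rintro ⟨j, a⟩ g ⟨hg, τ, hτ, hgτ⟩
    refine gd_comm hs hD hτ hgτ (mul_mem hv (inv_mem (hw _))) ?_
    rw [N.mul v hv _ (inv_mem (hw _)), hs.e_inv (hw _), hev]
    show c j 0 + ∑ b, c j b + N.e (w (j, a)) j 0 = c j a + ∑ b, c j b + N.e (w (j, a)) j a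
    rw [hc0]
    have e2 : c j a = N.e (w (j, a)) j 0 + N.e (w (j, a)) j a := rfl
    generalize ∑ b, c j b = s
    rw [e2]
    generalize N.e (w (j, a)) j 0 = p
    generalize N.e (w (j, a)) j a = q
    revert s p q
    decide
  · intro v hv hcen
    refine sy_inj hs hD hv (one_mem _) ?_
    rw [hs.e_one]
    have hconst : ∀ j a, N.e v j a = N.e v j 0 := by
      intro j a
      by_cases ha : a = 0
      · rw [ha]
      · obtain ⟨r, hr, A, hA, t, ht, htg, -⟩ := hsw j a ha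
        have h1 : r⁻¹ * t * r * v = v * (r⁻¹ * t * r) := by
          refine hcen (j, a) _ ⟨?_, _, Or.inr rfl, htg⟩
          have := conj_mem h.N0_norm (inv_mem hr) (h.le_N0 hA ht)
          rwa [inv_inv] at this
        have h2 := htg.act v hv j 0
        have h3 : r⁻¹ * t * r * v * (r⁻¹ * t * r)⁻¹ = v := by rw [h1]; group
        rw [h3, Equiv.Perm.one_apply, Pi.mulSingle_eq_same, Equiv.swap_apply_left] at h2
        exact h2
    funext j a
    have h1 := N.even v hv j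
    rw [Finset.sum_congr rfl fun x _ => hconst j x, Finset.sum_const, Finset.card_univ, Fintype.card_fin,
      nsmul_eq_mul] at h1
    have e1 : ((2 ^ m + 1 : ℕ) : ZMod 2) = 1 := by
      have : (2 ^ m : ZMod 2) = 0 := by
        rw [show (2 : ZMod 2) = 0 from rfl, zero_pow (by omega)]
      push_cast
      rw [this, zero_add]
    rw [e1, one_mul] at h1
    rw [hconst j a, h1]; rfl
  · rintro s hs' ⟨j, a⟩ g ⟨hg, τ, hτ, hgτ⟩
    obtain ⟨σ, ψ, hsa⟩ := N.perm s (h.SP hs')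
    have h0 := N.fix0 s hs' σ ψ hsa j
    refine ⟨s * g * s⁻¹, le_iSup E (σ j, ψ j a) ?_, fun v hv => rfl⟩
    refine ⟨conj_mem h.N0_norm (h.SP hs') hg, ψ j * τ * (ψ j)⁻¹, ?_, hs.gd_conj_single (h.SP hs') hsa hgτ⟩
    rcases hτ with rfl | rfl
    · left; group
    · right
      rw [← Equiv.swap_apply_apply, h0]

end Exa

end Cfsg.Agent.Omega.NO3S.OneLine
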