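import Cfsg.Agent.Omega.NO3S.OneLine.LevAbs

/-!
# LEMMA UNIQ at every level, the main step

`P`, `P'` ∈ P*(S) with `Blk`, no mutual pair, a family `AA` of best offenders of `S` on `U = V_L`, `L = ⟨P, P'⟩`, which
has a member outside `O₂(P)`, `Ω₁(Z(O₂(P))) = V_P`, `Ω₁(Z(O₂(P'))) = V_{P'}`, `|V_P| = |Z|²`, `C_Z(P) = 1`,
`|V_{P'}| ≤ |Z|²`: then `V_{P'} = V_P`.
-/

set_option autoImplicit false
set_option linter.unusedSectionVars false
set_option linter.unusedVariables false

namespace Cfsg.Agent.Omega.NO3S.OneLine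

open Subgroup Cfsg Cfsg.Agent.ZN Cfsg.Agent.ZN.ChoiceBase Cfsg.Agent.Omega.MinPar
open Cfsg.Agent.Omega.SQ1.Bau (mem_AA_of_comm zj_le_AA elem_comm elem_sq mem_sup_comm card_sup_comm mem_sup_norm)
open Cfsg.Agent.PLocal.ElemAbSup Cfsg.Agent.PLocal.ThompsonJ
open Cfsg.Agent.MinSimple.VModule (zc_le zc_le_zl zl_le le_o2 le_normalizer_zl le_normalizer_o2)

open scoped commutatorElement

universe u

variable {G : Type u} [Group G] [Finite G] {S : Sylow 2 G}

theorem card_sup_relIndex {H N : Subgroup G} (h : H ≤ normalizer (N : Set G)) :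
    Nat.card ↥(H ⊔ N) = N.relIndex H * Nat.card N := by
  have h1 := card_sup_norm h
  have h2 := card_mul_relIndex (inf_le_left : H ⊓ N ≤ H)
  rw [inf_relIndex_left] at h2
  have hp : 0 < Nat.card ↥(H ⊓ N) := Nat.card_pos
  refine Nat.eq_of_mul_eq_mul_right hp ?_
  rw [h1, ← h2]; ring

/-- **The step**: `A` in the family, `A ≰ C(U)`, `|A / C_A(U)|` minimal, `A ≰ O₂(P₁)` imply
`[V₂, O₂(P₁)] ≤ C_Z(P₁)`. -/
theorem step_fam (hG : IsCharacteristicTwoType G) {P₁ P₂ L : Subgroup G} (h₁ : Blk (S : Subgroup G) P₁)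
    (h₂ : Blk (S : Subgroup G) P₂) (hL : IsLoc (S : Subgroup G) L) (hP₁ : P₁ ≤ L) (hP₂ : P₂ ≤ L)
    {AA : Set (Subgroup G)} (hB : BFam (S : Subgroup G) (zl (S : Subgroup G) L) L AA)
    {A : Subgroup G} (hA : A ∈ AA) (hAU : ¬ A ≤ centralizer (zl (S : Subgroup G) L : Set G))
    (hmax : ∀ B ∈ AA, ¬ B ≤ centralizer (zl (S : Subgroup G) L : Set G) →
      (centralizer (zl (S : Subgroup G) L : Set G)).relIndex A ≤
        (centralizer (zl (S : Subgroup G) L : Set G)).relIndex B)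
    (hAQ : ¬ A ≤ o2 P₁) :
    ∀ v ∈ zl (S : Subgroup G) P₂, ∀ t ∈ o2 P₁, t * v * t⁻¹ * v⁻¹ ∈ zc (S : Subgroup G) ⊓ centralizer (P₁ : Set G) := by
  set U := zl (S : Subgroup G) L with hU
  set Z := zc (S : Subgroup G) with hZ
  set V₁ := zl (S : Subgroup G) P₁ with hV₁
  set V₂ := zl (S : Subgroup G) P₂ with hV₂
  have hUL : U ≤ zc (o2 L) := hL.zl_le S hG
  have hUe : IsElementaryAbelian 2 U := isElementaryAbelian_mono (zc_elem (o2 L)) hUL
  have hUS : U ≤ (S : Subgroup G) := (hUL.trans (zc_le _)).trans (hL.o2_le S)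
  have hV₁U : V₁ ≤ U := zl_mono _ hP₁
  have hV₂U : V₂ ≤ U := zl_mono _ hP₂
  have hQS := o2_le S h₁.star.toIsPar
  have hAS := hB.le A hA
  have hLU : L ≤ normalizer (U : Set G) := le_normalizer_zl _ _
  have hcn : ∀ B : Subgroup G, B ≤ (S : Subgroup G) → B ≤ normalizer (centralizer (U : Set G) : Set G) := by
    intro B hBS b hb
    apply mem_normalizer_of_cj_le
    rw [cj_centralizer, cj_eq_of_mem_normalizer (hLU (hL.le (hBS hb)))]
  -- `A ∩ C(U) ≤ A ∩ Q₁`
  have hCQ : A ⊓ centralizer (U : Set G) ≤ A ⊓ o2 P₁ := by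
    refine le_inf inf_le_left ?_
    rw [← IsParS.inf_centralizer S hG h₁.star]
    exact inf_le_inf hAS (centralizer_le hV₁U)
  obtain ⟨hcut, hVU⟩ := Blk.fam_cut hG h₁ hB (elem_comm hUe) hV₁U hA hAQ
  -- `A ∩ Q₁ ≤ C(U)`
  have hA₁U : A ⊓ o2 P₁ ≤ centralizer (U : Set G) := by
    by_contra hcon
    obtain ⟨B', hB', h3⟩ := hB.cut A hA (A ⊓ o2 P₁) hCQ inf_le_left hcut
    have h4 : ¬ B' ≤ centralizer (U : Set G) := by
      intro h5
      apply hcon
      rw [sup_eq_right.2 h5] at h3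
      rw [h3]
      exact le_sup_left
    have h5 := hmax B' hB' h4
    have h6 := card_sup_relIndex (hcn B' (hB.le B' hB'))
    have h7 := card_sup_relIndex (hcn (A ⊓ o2 P₁) (inf_le_left.trans hAS))
    rw [h3, h7] at h6
    have hp : 0 < Nat.card (centralizer (U : Set G)) := Nat.card_pos
    rw [← Nat.eq_of_mul_eq_mul_right hp h6] at h5
    -- `|A| ≤ |A ∩ Q₁|`
    have h8 := card_mul_relIndex (inf_le_left : A ⊓ centralizer (U : Set G) ≤ A)
    have h9 := card_mul_relIndex (inf_le_left : (A ⊓ o2 P₁) ⊓ centralizer (U : Set G) ≤ A ⊓ o2 P₁)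
    rw [inf_relIndex_left] at h8 h9
    have h10 : (A ⊓ o2 P₁) ⊓ centralizer (U : Set G) = A ⊓ centralizer (U : Set G) :=
      le_antisymm (inf_le_inf_right _ inf_le_left) (le_inf hCQ inf_le_right)
    rw [h10] at h9
    have h11 : Nat.card A ≤ Nat.card ↥(A ⊓ o2 P₁) := by
      rw [← h8, ← h9]
      exact Nat.mul_le_mul_left _ h5
    have h12 : A ⊓ o2 P₁ = A := Subgroup.eq_of_le_of_card_ge inf_le_left h11
    exact hAQ (inf_eq_left.1 h12)
  have hAQC : A ⊓ o2 P₁ = A ⊓ centralizer (U : Set G) :=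
    le_antisymm (le_inf inf_le_left hA₁U) hCQ
  -- `U = V₁ C_U(A)`
  have hsplit : V₁ ⊔ (U ⊓ centralizer (A : Set G)) = U := by
    rw [hVU]
    refine inf_eq_left.2 fun u hu => mem_centralizer_iff.2 fun a ha => ?_
    exact (mem_centralizer_iff.1 (hA₁U ha) u hu).symm
  -- the elements of `P₁` which centralise `U / V₁`
  have hP₁U : P₁ ≤ normalizer (U : Set G) := hP₁.trans hLU
  have hP₁V : P₁ ≤ normalizer (V₁ : Set G) := le_normalizer_zl _ _
  let N : Subgroup G :=
    { carrier := {g | g ∈ P₁ ∧ ∀ u ∈ U, g * u * g⁻¹ * u⁻¹ ∈ V₁}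
      mul_mem' := by
        rintro a b ⟨ha, ha'⟩ ⟨hb, hb'⟩
        refine ⟨mul_mem ha hb, fun y hy => ?_⟩
        have e : a * b * y * (a * b)⁻¹ * y⁻¹ =
          (a * (b * y * b⁻¹ * y⁻¹) * a⁻¹) * (a * y * a⁻¹ * y⁻¹) := by group
        rw [e]
        exact mul_mem (conj_mem hP₁V ha (hb' y hy)) (ha' y hy)
      one_mem' := ⟨one_mem _, fun y _ => by simp⟩
      inv_mem' := by
        rintro a ⟨ha, ha'⟩
        refine ⟨inv_mem ha, fun y hy => ?_⟩
        have e : a⁻¹ * y * a⁻¹⁻¹ * y⁻¹ = a⁻¹ * (a * y * a⁻¹ * y⁻¹)⁻¹ * a⁻¹⁻¹ := by group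
        rw [e]
        exact conj_mem hP₁V (inv_mem ha) (inv_mem (ha' y hy)) }
  have hNP : N ≤ P₁ := fun g hg => hg.1
  have hPN : P₁ ≤ normalizer (N : Set G) := by
    intro p hp
    apply mem_normalizer_of_cj_le
    intro x hx
    rw [mem_cj] at hx
    obtain ⟨hx1, hx2⟩ := hx
    refine ⟨?_, fun u hu => ?_⟩
    · have := mul_mem (mul_mem hp hx1) (inv_mem hp)
      have e : p * (p⁻¹ * x * p) * p⁻¹ = x := by group
      rwa [e] at this
    · have h1 : p⁻¹ * u * p ∈ U := by
        have := conj_mem hP₁U (inv_mem hp) hu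
        rwa [inv_inv] at this
      have h2 := conj_mem hP₁V hp (hx2 _ h1)
      have e : p * (p⁻¹ * x * p * (p⁻¹ * u * p) * (p⁻¹ * x * p)⁻¹ * (p⁻¹ * u * p)⁻¹) * p⁻¹ =
          x * u * x⁻¹ * u⁻¹ := by group
      rwa [e] at h2
  have hAN : A ≤ N := by
    intro a ha
    refine ⟨h₁.star.le (hAS ha), fun u hu => ?_⟩
    rw [← hsplit] at hu
    obtain ⟨v, hv, w, hw, rfl⟩ := mem_sup_comm (A := V₁) (B := U ⊓ centralizer (A : Set G))
      (fun v hv a ha => elem_comm hUe v (hV₁U hv) a ha.1) hu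
    have e1 : a * w = w * a := mem_centralizer_iff.1 hw.2 a ha
    have e2 : a * (v * w) * a⁻¹ * (v * w)⁻¹ = a * v * a⁻¹ * v⁻¹ := by
      have e3 : a * (v * w) * a⁻¹ * (v * w)⁻¹ = a * v * (w * a⁻¹ * w⁻¹) * v⁻¹ := by group
      have e4 : w * a⁻¹ * w⁻¹ = a⁻¹ := by
        have : w * a⁻¹ = a⁻¹ * w := by
          calc w * a⁻¹ = a⁻¹ * (a * w) * a⁻¹ := by group
            _ = a⁻¹ * w := by rw [e1]; group
        rw [this]; group
      rw [e3, e4]
    rw [e2]
    exact mul_mem (conj_mem hP₁V (h₁.star.le (hAS ha)) hv) (inv_mem hv)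
  have hNS : N ⊔ (S : Subgroup G) = P₁ := by
    rcases h₁.star.toIsPar.sup_eq_or_inf_le S hNP hPN with h | h
    · exact h
    · exact absurd ((le_inf hAS hAN).trans h) hAQ
  -- `W = V₁ V₂` is normal in `P₁`
  have hW : P₁ ≤ normalizer ((V₁ ⊔ V₂ : Subgroup G) : Set G) := by
    have hc : ∀ v ∈ V₁, ∀ w ∈ V₂, v * w = w * v := fun v hv w hw => elem_comm hUe v (hV₁U hv) w (hV₂U hw)
    rw [← hNS]
    refine sup_le (fun g hg => ?_) (fun s hs => ?_)
    · apply mem_normalizer_of_cj_le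
      rw [cj, Subgroup.map_sup]
      refine sup_le ?_ ?_
      · exact (cj_eq_of_mem_normalizer (hP₁V hg.1)).le.trans le_sup_left
      · rintro _ ⟨w, hw, rfl⟩
        simp only [MulEquiv.toMonoidHom_eq_coe, MonoidHom.coe_coe, MulAut.conj_apply]
        have h1 := hg.2 w (hV₂U hw)
        have h2 := mul_mem (mem_sup_left h1 : _ ∈ V₁ ⊔ V₂) (mem_sup_right hw : w ∈ V₁ ⊔ V₂)
        rwa [inv_mul_cancel_right] at h2
    · apply mem_normalizer_of_cj_le
      rw [cj, Subgroup.map_sup]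
      exact sup_le_sup (cj_eq_of_mem_normalizer (hP₁V (h₁.star.le hs))).le
        (cj_eq_of_mem_normalizer ((le_normalizer_zl _ _ : P₂ ≤ normalizer (V₂ : Set G)) (h₂.star.le hs))).le
  -- `E = [V₁ V₂, Q₁] ≤ Z`
  let E : Subgroup G := ⁅V₁ ⊔ V₂, o2 P₁⁆
  have hPE : P₁ ≤ normalizer (E : Set G) := by
    intro p hp
    apply mem_normalizer_of_cj_le
    rw [cj, Subgroup.map_commutator]
    exact commutator_mono (cj_eq_of_mem_normalizer (hW hp)).le
      (cj_eq_of_mem_normalizer (le_normalizer_o2 P₁ hp)).le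
  have hEZ : E ≤ Z := by
    rw [commutator_le]
    intro w hw t ht
    obtain ⟨v, hv, w', hw', rfl⟩ := mem_sup_comm (A := V₁) (B := V₂)
      (fun v hv w hw => elem_comm hUe v (hV₁U hv) w (hV₂U hw)) hw
    have h1 : t * v = v * t := Blk.comm_o2 hG h₁ t ht v hv
    have h2 := h₂.comm t (hQS ht) w' hw'
    have h3 : v * (t * w' * t⁻¹ * w'⁻¹) = t * w' * t⁻¹ * w'⁻¹ * v := by
      have h4 := (mem_zc.1 h2).2.2 v ((hV₁U hv |> fun h => hUS h))
      exact h4
    rw [commutatorElement_def]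
    have e : v * w' * t * (v * w')⁻¹ * t⁻¹ = (v * (t * w' * t⁻¹ * w'⁻¹) * v⁻¹)⁻¹ := by
      have e1 : (v * (t * w' * t⁻¹ * w'⁻¹) * v⁻¹)⁻¹ = v * w' * t * w'⁻¹ * (v * t)⁻¹ := by group
      rw [e1, ← h1]
      group
    rw [e, h3]
    rw [mul_inv_cancel_right]
    exact inv_mem h2
  have hEc := le_centralizer_of_le_zc h₁.star.toIsPar hEZ hPE
  intro v hv t ht
  have h1 : t * v * t⁻¹ * v⁻¹ ∈ E := by
    have h2 : ⁅v, t⁆ ∈ E := commutator_mem_commutator (mem_sup_right hv) ht
    have h3 := inv_mem h2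
    rwa [commutatorElement_inv, commutatorElement_def] at h3
  exact ⟨hEZ h1, mem_centralizer_iff.2 fun p hp => (mem_centralizer_iff.1 (hEc hp) _ h1).symm⟩

/-- **LEMMA OL (one line)**, for a family: `V_{P'} = V_P`. -/
theorem one_line_fam (hG : IsCharacteristicTwoType G) (hF : ¬ FF (S : Subgroup G)) {P P' : Subgroup G}
    (h : Blk (S : Subgroup G) P) (h' : Blk (S : Subgroup G) P')
    {AA : Set (Subgroup G)} (hB : BFam (S : Subgroup G) (zl (S : Subgroup G) (P ⊔ P')) (P ⊔ P') AA)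
    (hJ : ∃ A ∈ AA, ¬ A ≤ o2 P)
    (hT : zc (o2 P) = zl (S : Subgroup G) P) (hT' : zc (o2 P') = zl (S : Subgroup G) P')
    (hsq : Nat.card (zl (S : Subgroup G) P) = Nat.card (zc (S : Subgroup G)) ^ 2)
    (hcen : zc (S : Subgroup G) ⊓ centralizer (P : Set G) = ⊥)
    (hle : Nat.card (zl (S : Subgroup G) P') ≤ Nat.card (zc (S : Subgroup G)) ^ 2) :
    zl (S : Subgroup G) P' = zl (S : Subgroup G) P := by
  have hL := sup_isLoc hG hF h.star h'.star
  obtain ⟨A₀, hA₀, hA₀Q⟩ := hJ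
  set L := P ⊔ P' with hLdef
  set U := zl (S : Subgroup G) L with hU
  have hpZ : 0 < Nat.card (zc (S : Subgroup G)) := Nat.card_pos
  -- members of the family not centralising `U`
  let s : Set (Subgroup G) := {B | B ∈ AA ∧ ¬ B ≤ centralizer (U : Set G)}
  have hne : s.Nonempty := by
    refine ⟨A₀, hA₀, fun h1 => hA₀Q ?_⟩
    rw [← IsParS.inf_centralizer S hG h.star]
    exact le_inf (hB.le A₀ hA₀) (h1.trans (centralizer_le (zl_mono _ le_sup_left)))
  obtain ⟨B, hBs, hmax⟩ := Set.exists_min_image s (fun B => (centralizer (U : Set G)).relIndex B)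
    (Set.toFinite s) hne
  have hLU : L ≤ normalizer (U : Set G) := le_normalizer_zl _ _
  -- a conjugate outside `O₂(P) ∩ O₂(P')`
  obtain ⟨l, hl, hlS, hlQ⟩ : ∃ l ∈ L, cj l B ≤ (S : Subgroup G) ∧ ¬ cj l B ≤ o2 P ⊓ o2 P' := by
    by_contra hcon
    push Not at hcon
    have key : ∀ l ∈ L, ∀ m ∈ L, cj m B ≤ (S : Subgroup G) → cj (l * m) B ≤ (S : Subgroup G) := by
      intro l hl
      rw [hLdef, sup_eq_closure] at hl
      induction hl using closure_induction with
      | mem x hx =>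
        intro m hm h1
        have h2 := hcon m hm h1
        rw [← cj_cj]
        rcases hx with hx | hx
        · have h3 := cj_mono x (h2.trans inf_le_left)
          rw [cj_eq_of_mem_normalizer (le_normalizer_o2 P hx)] at h3
          exact h3.trans (o2_le S h.star.toIsPar)
        · have h3 := cj_mono x (h2.trans inf_le_right)
          rw [cj_eq_of_mem_normalizer (le_normalizer_o2 P' hx)] at h3
          exact h3.trans (o2_le S h'.star.toIsPar)
      | one => intro m hm h1; rwa [one_mul]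
      | mul x y hx hy ihx ihy =>
        intro m hm h1
        rw [mul_assoc]
        refine ihx (y * m) (mul_mem ?_ hm) (ihy m hm h1)
        rwa [hLdef, sup_eq_closure]
      | inv x hx ih =>
        intro m hm h1
        -- `x⁻¹` is a power of `x`
        obtain ⟨n, hn⟩ : ∃ n : ℕ, x⁻¹ = x ^ n := by
          refine ⟨orderOf x - 1, ?_⟩
          rw [inv_eq_iff_mul_eq_one, ← pow_succ', Nat.sub_add_cancel (orderOf_pos x), pow_orderOf_eq_one]
        rw [hn]
        have hxL : x ∈ L := by rwa [hLdef, sup_eq_closure]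
        clear hn
        induction n with
        | zero => rwa [pow_zero, one_mul]
        | succ n ihn =>
          rw [pow_succ', mul_assoc]
          exact ih _ (mul_mem (pow_mem hxL n) hm) ihn
    -- so the normal closure of `B` in `L` is a 2-group
    let N : Subgroup G := ⨆ l : L, cj (l : G) B
    have hNS : N ≤ (S : Subgroup G) := iSup_le fun l => by
      have := key l l.2 1 (one_mem _) (by rw [cj_one]; exact hB.le B hBs.1)
      rwa [mul_one] at this
    have hLN : L ≤ normalizer (N : Set G) := by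
      intro g hg
      apply mem_normalizer_of_cj_le
      show Subgroup.map _ (⨆ l : L, cj (l : G) B) ≤ _
      rw [Subgroup.map_iSup]
      refine iSup_le fun l => ?_
      have h1 : Subgroup.map (MulAut.conj g).toMonoidHom (cj (l : G) B) = cj (g * l) B := cj_cj g l B
      rw [h1]
      exact le_iSup (fun l : L => cj (l : G) B) ⟨g * l, mul_mem hg l.2⟩
    have hN2 : N ≤ o2 L := le_o2 (hNS.trans hL.le) (S.isPGroup'.to_le hNS) hLN
    apply hBs.2
    have h1 : B ≤ N := by
      have := le_iSup (fun l : L => cj (l : G) B) 1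
      rwa [OneMemClass.coe_one, cj_one] at this
    refine (h1.trans hN2).trans fun x hx => mem_centralizer_iff.2 fun u hu => ?_
    exact ((mem_zc.1 (hL.zl_le S hG hu)).2.2 x hx).symm
  -- `A = B^l`
  set A := cj l B with hAdef
  have hA : A ∈ AA := hB.conj B hBs.1 l hl hlS
  have hUl : cj l U = U := cj_eq_of_mem_normalizer (hLU hl)
  have hcUl : cj l (centralizer (U : Set G)) = centralizer (U : Set G) := by rw [cj_centralizer, hUl]
  have hAU : ¬ A ≤ centralizer (U : Set G) := by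
    intro h1
    apply hBs.2
    rw [hAdef, cj_le_iff] at h1
    have h2 : cj l⁻¹ (centralizer (U : Set G)) = centralizer (U : Set G) := by
      nth_rewrite 1 [← hcUl]
      rw [cj_inv_cj]
    rwa [h2] at h1
  have hmax' : ∀ C ∈ AA, ¬ C ≤ centralizer (U : Set G) →
      (centralizer (U : Set G)).relIndex A ≤ (centralizer (U : Set G)).relIndex C := by
    intro C hC hC'
    have h1 := hmax C ⟨hC, hC'⟩
    have h2 : (centralizer (U : Set G)).relIndex A = (centralizer (U : Set G)).relIndex B := by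
      have e1 := card_mul_relIndex (inf_le_left : A ⊓ centralizer (U : Set G) ≤ A)
      have e2 := card_mul_relIndex (inf_le_left : B ⊓ centralizer (U : Set G) ≤ B)
      rw [inf_relIndex_left] at e1 e2
      have e3 : A ⊓ centralizer (U : Set G) = cj l (B ⊓ centralizer (U : Set G)) := by
        rw [cj_inf, hcUl]
      rw [e3, card_cj, hAdef, card_cj, ← e2] at e1
      exact Nat.eq_of_mul_eq_mul_left Nat.card_pos e1
    rw [h2]
    exact h1
  have hVc : ∀ v ∈ zl (S : Subgroup G) P, ∀ w ∈ zl (S : Subgroup G) P, v * w = w * v :=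
    elem_comm (Blk.zl_elem hG h)
  have hcardP := h.card
  have hcardP' := h'.card
  have hidx : (o2 P).relIndex (S : Subgroup G) = Nat.card (zc (S : Subgroup G)) := by
    rw [hsq, pow_two] at hcardP
    exact (Nat.eq_of_mul_eq_mul_left hpZ hcardP).symm
  have hidx' : (o2 P').relIndex (S : Subgroup G) ≤ Nat.card (zc (S : Subgroup G)) := by
    rw [hcardP', pow_two] at hle
    exact Nat.le_of_mul_le_mul_left hle hpZ
  rcases not_and_or.1 (fun hc : A ≤ o2 P ∧ A ≤ o2 P' => hlQ (le_inf hc.1 hc.2)) with hAQ | hAQ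
  · -- `P₁ = P`
    have h1 := step_fam hG h h' hL le_sup_left le_sup_right hB hA hAU hmax' hAQ
    have h2 : zl (S : Subgroup G) P' ≤ zl (S : Subgroup G) P := by
      have h3 : ∀ v ∈ zl (S : Subgroup G) P', ∀ t ∈ o2 P, t * v = v * t := by
        intro v hv t ht
        have h4 := h1 v hv t ht
        rw [hcen, mem_bot] at h4
        have h5 := mul_inv_eq_one.1 h4
        calc t * v = t * v * t⁻¹ * t := by group
          _ = v * t := by rw [h5]
      intro v hv
      rw [← hT]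
      have hvS : v ∈ (S : Subgroup G) := o2_le S h'.star.toIsPar (Blk.zl_le_o2 hG h' hv)
      have hvQ : v ∈ o2 P := h.star.isLoc.char2 S hG ⟨h.star.le hvS, mem_centralizer_iff.2 fun t ht => h3 v hv t ht⟩
      exact mem_zc.2 ⟨hvQ, elem_sq (Blk.zl_elem hG h') v hv, fun t ht => h3 v hv t ht⟩
    obtain ⟨v', hv', hv'Z⟩ := Blk.exists_not_zc h'
    have hQ : o2 P' = o2 P := by
      apply le_antisymm
      · intro t ht
        exact Blk.mem_o2_of_comm hG h (o2_le S h'.star.toIsPar ht) (h2 hv') hv'Z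
          (Blk.comm_o2 hG h' t ht v' hv')
      · rw [← IsParS.inf_centralizer S hG h.star, ← IsParS.inf_centralizer S hG h'.star]
        exact inf_le_inf_left _ (centralizer_le h2)
    refine Subgroup.eq_of_le_of_card_ge h2 ?_
    rw [hcardP, hcardP', hQ]
  · -- `P₁ = P'`
    have h1 := step_fam hG h' h hL le_sup_right le_sup_left hB hA hAU hmax' hAQ
    have hQQ : o2 P' ≤ o2 P := by
      by_contra hcon
      obtain ⟨g, hg, hgQ⟩ := SetLike.not_le_iff_exists.1 hcon
      apply h'.star.not_zc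
      refine le_trans ?_ (centralizer_le_normalizer _)
      intro p hp
      rw [mem_centralizer_iff]
      intro z hz
      obtain ⟨v, hv, rfl⟩ := Blk.exists_comm h hVc hsq (o2_le S h'.star.toIsPar hg) hgQ hz
      exact (mem_centralizer_iff.1 (h1 v hv g hg).2 p hp).symm
    have hQ : o2 P' = o2 P := by
      refine Subgroup.eq_of_le_of_card_ge hQQ ?_
      have e1 := card_mul_relIndex (o2_le S h.star.toIsPar)
      have e2 := card_mul_relIndex (o2_le S h'.star.toIsPar)
      rw [hidx] at e1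
      have e3 : Nat.card (o2 P) * Nat.card (zc (S : Subgroup G)) ≤ Nat.card (o2 P') * Nat.card (zc (S : Subgroup G)) := by
        rw [e1, ← e2]
        exact Nat.mul_le_mul_left _ hidx'
      exact Nat.le_of_mul_le_mul_right e3 hpZ
    rw [← hT, ← hT', hQ]

end Cfsg.Agent.Omega.NO3S.OneLine
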