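import Cfsg.Agent.Omega.NO3S.OneLine.Nat

/-!
# LEMMA OL: the natural module `V_P` with `|Z| = q`

`n1_of_natP` : `V_P` natural and `|Z| = q` give `N1 S P ⊥ q`.
-/

set_option autoImplicit false
set_option linter.unusedSectionVars false
set_option linter.unusedVariables false

namespace Cfsg.Agent.Omega.NO3S.OneLine

open Subgroup Cfsg Cfsg.Agent.ZN Cfsg.Agent.ZN.ChoiceBase Cfsg.Agent.Omega.MinPar
open Cfsg.Agent.ZN.ChoiceSit (Syl o2_le_syl)
open Cfsg.Agent.Omega.SQ1.Bau (mem_AA_of_comm zj_le_AA elem_comm elem_sq)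
open Cfsg.Agent.PLocal.ElemAbSup Cfsg.Agent.PLocal.ThompsonJ
open Cfsg.Agent.MinSimple.VModule (zc_le zc_le_zl zl_le le_o2 le_normalizer_zl le_normalizer_o2)
open Cfsg.Agent.Omega.SQ1.FFOne Cfsg.Agent.Lib.SL2Mat
open Cfsg.Agent.Omega.NatPair (ap ap_zero' ap_one' ap_one ap_mul ap_add ap_smul ext2 NatMod ap_inv_ap ap_ap_inv exists_ap_e
  ap_up_e)

universe u

variable {G : Type u} [Group G] {F : Type*} [Field F] {V P : Subgroup G}

/-- `V` in `↥P` -/
def modP (N : NatP F V P) (hVP : V ≤ P) : NatMod F (V.subgroupOf P) where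
  e x := ⟨N.e x, hVP ((N.mem_iff _).2 ⟨x, rfl⟩)⟩
  e_add x y := Subtype.ext (N.e_add x y)
  e_inj x y h := N.e_inj (congrArg Subtype.val h)
  mem_iff g := by
    rw [mem_subgroupOf, N.mem_iff]
    constructor
    · rintro ⟨x, hx⟩
      exact ⟨x, Subtype.ext hx⟩
    · rintro ⟨x, hx⟩
      exact ⟨x, congrArg Subtype.val hx⟩
  lift A := by
    obtain ⟨g, hg, h1⟩ := N.lift A
    exact ⟨⟨g, hg⟩, fun x => Subtype.ext (h1 x)⟩
  norm g _ h A hA := by
    obtain ⟨B, hB⟩ := N.norm g g.2 h A fun x => congrArg Subtype.val (hA x)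
    exact ⟨B, fun x => Subtype.ext (hB x)⟩

/-- the coordinates of an element of `V` -/
noncomputable def co (N : NatP F V P) (D : Matrix.SpecialLinearGroup (Fin 2) F) (g : G) : Fin 2 → F :=
  open Classical in if h : ∃ x, N.e x = g then ap D⁻¹ h.choose else 0

theorem co_e (N : NatP F V P) (D : Matrix.SpecialLinearGroup (Fin 2) F) (x : Fin 2 → F) :
    co N D (N.e x) = ap D⁻¹ x := by
  have h : ∃ y, N.e y = N.e x := ⟨x, rfl⟩
  rw [co, dif_pos h, N.e_inj h.choose_spec]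

theorem e_zero (N : NatP F V P) : N.e 0 = 1 := by
  have := N.e_add 0 0
  rw [add_zero] at this
  exact left_eq_mul.1 this

/-- the natural section with the basis `D` -/
noncomputable def secP (N : NatP F V P) (hPV : P ≤ normalizer (V : Set G))
    (D : Matrix.SpecialLinearGroup (Fin 2) F) : NatSec F P V ⊥ where
  π := co N D
  map_mul v hv w hw := by
    obtain ⟨x, rfl⟩ := (N.mem_iff v).1 hv
    obtain ⟨y, rfl⟩ := (N.mem_iff w).1 hw
    rw [← N.e_add, co_e, co_e, co_e, ap_add]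
  V0V := bot_le
  ker v hv := by
    obtain ⟨x, rfl⟩ := (N.mem_iff v).1 hv
    rw [co_e, mem_bot]
    constructor
    · intro h
      have h1 : ap D (ap D⁻¹ x) = ap D 0 := by rw [h]
      have h0 : ap D (0 : Fin 2 → F) = 0 := by
        have := ap_smul D 0 (0 : Fin 2 → F)
        rwa [zero_smul, zero_smul] at this
      rw [ap_ap_inv, h0] at h1
      rw [h1, e_zero]
    · intro h
      have h1 : x = 0 := N.e_inj (by rw [h, e_zero])
      rw [h1]
      have := ap_smul D⁻¹ 0 (0 : Fin 2 → F)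
      rwa [zero_smul, zero_smul] at this
  surj x := ⟨N.e (ap D x), (N.mem_iff _).2 ⟨_, rfl⟩, by rw [co_e, ap_inv_ap]⟩
  Vn h hh v hv := (mem_normalizer_iff.1 (hPV hh) v).1 hv
  V0n h hh v hv := by
    rw [mem_bot] at hv ⊢
    rw [hv]; group
  lift A := by
    obtain ⟨g, hg, h1⟩ := N.lift (D * A * D⁻¹)
    refine ⟨g, hg, fun v hv => ?_⟩
    obtain ⟨x, rfl⟩ := (N.mem_iff v).1 hv
    rw [h1, co_e, co_e, ap_mul, ap_mul, ap_inv_ap]
  norm g hg h hh A hA := by
    have h1 : ∀ x, h * N.e x * h⁻¹ = N.e (ap (D * A * D⁻¹) x) := by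
      intro x
      have hx : N.e x ∈ V := (N.mem_iff _).2 ⟨x, rfl⟩
      obtain ⟨y, hy⟩ := (N.mem_iff _).1 ((mem_normalizer_iff.1 (hPV hh) _).1 hx)
      have h2 := hA _ hx
      rw [← hy, co_e, co_e] at h2
      rw [← hy]
      congr 1
      rw [ap_mul, ap_mul, ← h2, ap_ap_inv]
    obtain ⟨B, hB⟩ := N.norm g hg h _ h1
    refine ⟨D⁻¹ * B * D, fun v hv => ?_⟩
    obtain ⟨x, rfl⟩ := (N.mem_iff v).1 hv
    rw [hB, co_e, co_e, ap_mul, ap_mul, ap_ap_inv]

theorem secP_e (N : NatP F V P) (hPV : P ≤ normalizer (V : Set G)) (D : Matrix.SpecialLinearGroup (Fin 2) F)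
    (x : Fin 2 → F) : (secP N hPV D).π (N.e x) = ap D⁻¹ x := co_e N D x

variable [Finite G] {S : Sylow 2 G}

/-- **`V_P` natural, `|Z| = q`.** -/
theorem n1_of_natP {F : Type} [Field F] [Finite F] [CharP F 2] (hG : IsCharacteristicTwoType G)
    (hP : IsParS (S : Subgroup G) P) (hm : MinH P (S : Subgroup G)) (N : NatP F (zl (S : Subgroup G) P) P)
    (hc : Nat.card (zc (S : Subgroup G)) = Nat.card F) : N1 (S : Subgroup G) P ⊥ (Nat.card F) := by
  have hSP : (S : Subgroup G) ≤ P := hm.syl.1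
  have hVP : zl (S : Subgroup G) P ≤ P := (SQ1.VOf.MinH.zl_le_o2 hm).trans ((o2_le_syl hm.syl).trans hSP)
  have hPV : P ≤ normalizer (zl (S : Subgroup G) P : Set G) := le_normalizer_zl _ _
  have hZV : zc (S : Subgroup G) ≤ zl (S : Subgroup G) P := zc_le_zl _ _
  let M := modP N hVP
  have hPn : ∀ g : P, g ∈ normalizer (((zl (S : Subgroup G) P).subgroupOf P : Subgroup P) : Set P) := by
    intro g
    rw [mem_normalizer_iff]
    intro x
    rw [mem_subgroupOf, mem_subgroupOf]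
    exact mem_normalizer_iff.1 (hPV g.2) x
  -- a fixed vector
  obtain ⟨z, hz, hz1⟩ : ∃ z ∈ zc (S : Subgroup G), z ≠ 1 := by
    by_contra hcon
    push Not at hcon
    have h1 : zc (S : Subgroup G) = ⊥ := eq_bot_iff.2 fun z hz => mem_bot.2 (hcon z hz)
    rw [h1, Subgroup.card_bot] at hc
    have : 1 < Nat.card F := Finite.one_lt_card
    omega
  obtain ⟨w, rfl⟩ := (N.mem_iff z).1 (hZV hz)
  have hw : w ≠ 0 := by
    rintro rfl
    exact hz1 (e_zero N)
  let S' : Sylow 2 P := S.subtype hSP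
  have hS' : ∀ s : P, s ∈ (S' : Subgroup P) ↔ (s : G) ∈ (S : Subgroup G) := fun s => by
    rw [Sylow.coe_subtype, mem_subgroupOf]
  have hSn : (S' : Subgroup P) ≤ normalizer (((zl (S : Subgroup G) P).subgroupOf P : Subgroup P) : Set P) :=
    fun s _ => hPn s
  have hfixe : ∀ s ∈ (S' : Subgroup P), M.act s w = w := by
    intro s hs
    rw [← M.commute_e (hPn s)]
    apply Subtype.ext
    exact (mem_zc.1 hz).2.2 s ((hS' s).1 hs)
  have hSw : (S' : Subgroup P) ≤ normalizer ((M.line w : Subgroup P) : Set P) := by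
    intro s hs
    have h1 := M.cj_line (hPn s) w
    rw [hfixe s hs] at h1
    rw [mem_normalizer_iff_cj]
    exact h1
  -- `Z` is the line
  have hle := M.cent_le_of_sylow S' hSn hw hSw
  have hZl : (zc (S : Subgroup G)).subgroupOf P ≤ M.line w := by
    intro v hv
    rw [mem_subgroupOf] at hv
    apply hle
    refine ⟨mem_centralizer_iff.2 fun s hs => ?_, mem_subgroupOf.2 (hZV hv)⟩
    apply Subtype.ext
    exact (mem_zc.1 hv).2.2 s ((hS' s).1 hs)
  have hZl' : (zc (S : Subgroup G)).subgroupOf P = M.line w := by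
    refine Subgroup.eq_of_le_of_card_ge hZl ?_
    rw [M.card_line hw, Nat.card_congr (Subgroup.subgroupOfEquivOfLe (hZV.trans hVP)).toEquiv, hc]
  obtain ⟨D, hD⟩ := exists_ap_e hw
  refine n1_of hP hm (secP N hPV D) ?_ ?_
  · intro v hv h1
    obtain ⟨x, rfl⟩ := (N.mem_iff v).1 hv
    rw [secP_e] at h1
    have h2 : M.e x ∈ M.line w := by
      rw [M.e_mem_line]
      refine ⟨ap D⁻¹ x 0, ?_⟩
      have h3 : ap D⁻¹ x = ap D⁻¹ x 0 • ![1, 0] := by
        apply ext2
        · simp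
        · rw [h1]; simp
      have h4 : ap D (ap D⁻¹ x) = ap D (ap D⁻¹ x 0 • ![1, 0]) := congrArg (ap D) h3
      rwa [ap_ap_inv, ap_smul, hD] at h4
    rw [← hZl', mem_subgroupOf] at h2
    exact h2
  · intro b
    have hB : ap (D * up b * D⁻¹) w = w := by
      rw [← hD, ap_mul, ap_mul, ap_inv_ap, ap_up_e]
    obtain ⟨s, hs, hs1⟩ := M.full_of_sylow S' hSn hw hSw hB
    refine ⟨s, (hS' s).1 hs, fun v hv => ?_⟩
    obtain ⟨x, rfl⟩ := (N.mem_iff v).1 hv
    have h1 : (s : G) * N.e x * (s : G)⁻¹ = N.e (ap (D * up b * D⁻¹) x) := congrArg Subtype.val (hs1 x)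
    rw [h1, secP_e, secP_e, ap_mul, ap_mul, ap_inv_ap]

end Cfsg.Agent.Omega.NO3S.OneLine
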