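import Cfsg.Agent.Omega.Node.NO3S
import Cfsg.Agent.Omega.NO3S.OneLine.Of

/-!
# The socket `UniqQ` of NO-3S

`uniqQ` : `UniqQ K` for every `K`, from the FF theorem.
-/

set_option autoImplicit false

namespace Cfsg.Agent.Omega.NO3S.OneLine

open Subgroup Cfsg Cfsg.Agent.ZN Cfsg.Agent.Omega.MinPar Cfsg.Agent.Omega.Frame

universe u

/-- **The socket `UniqQ`.** -/
theorem uniqQ {K : Cls.{u}} (hFF : FFThm.Stmt.{u}) : UniqQ K := fun _ _ _ _ _ _ h _ _ _ _ _ M hc =>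
  Or.inl (uniq hFF h M hc)

end Cfsg.Agent.Omega.NO3S.OneLine
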